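import Mathlib
import Cfsg.Prelude.Def_JordanBlocks
import Cfsg.Prelude.Def_LieClassical

set_option autoImplicit false

/-!
# Definitions for the pack K-UC (S2646: centraliser of a unipotent element of `GU_n(q)`)

`hadj φ M` is the `φ`-conjugate transpose. `FormsInv φ A` is the set of nondegenerate `φ`-hermitian
matrices `M` with `A* M A = M` (the `A`-invariant hermitian forms), `FormsSA φ N` those with
`N* M = M N` (`N` self-adjoint). `hankel d c` is the Hankel-type matrix on the Jordan index set
`JI d` attached to a coefficient system `c : CIdx d → K`.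
-/

namespace Cfsg.Agent.Lib.Helper73.UC

open Matrix

section general

variable {K : Type*} [Field K] {ι : Type*} [Fintype ι] [DecidableEq ι]

/-- the `φ`-conjugate transpose of a square matrix -/
def hadj (φ : K →+* K) (M : Matrix ι ι K) : Matrix ι ι K := (M.map φ)ᵀ

/-- nondegenerate `φ`-hermitian matrices `M` with `A* M A = M` -/
def FormsInv (φ : K →+* K) (A : Matrix ι ι K) : Set (Matrix ι ι K) :=
  {M | hadj φ M = M ∧ IsUnit M.det ∧ hadj φ A * M * A = M}

/-- nondegenerate `φ`-hermitian matrices `M` with `N* M = M N` -/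
def FormsSA (φ : K →+* K) (N : Matrix ι ι K) : Set (Matrix ι ι K) :=
  {M | hadj φ M = M ∧ IsUnit M.det ∧ hadj φ N * M = M * N}

/-- the number of invertible `φ`-hermitian `a × a` matrices -/
noncomputable def hermUnits (φ : K →+* K) (a : ℕ) : ℕ :=
  Nat.card {M : Matrix (Fin a) (Fin a) K // hadj φ M = M ∧ IsUnit M.det}

end general

section jordan

variable {t : ℕ} (d : Fin t → ℕ)

/-- the Jordan index set -/
abbrev JI := (k : Fin t) × Fin (d k)

/-- multiplicity of the block size `i` -/
def mult (i : ℕ) : ℕ := (Finset.univ.filter (fun k : Fin t => d k = i)).card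

/-- the exponent `γ = 2 Σ_{i<j} i a_i a_j + Σ_i (i-1) a_i²` -/
def gam : ℕ :=
  2 * (∑ i ∈ Finset.range (Finset.univ.sup d + 1), ∑ j ∈ Finset.range (Finset.univ.sup d + 1),
      if i < j then i * mult d i * mult d j else 0) +
    ∑ i ∈ Finset.range (Finset.univ.sup d + 1), (i - 1) * mult d i ^ 2

variable (K : Type*) [Field K]

/-- the nilpotent Jordan matrix of type `d` -/
def nilM : Matrix (JI d) (JI d) K := Cfsg.jordanTypeMatrix d K - 1

variable {K}

/-- coefficient indices `(l, k, s)` with `s < min (d l) (d k)` -/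
abbrev CIdx := (l : Fin t) × (k : Fin t) × Fin (min (d l) (d k))

variable {d}

/-- the swap `(l, k, s) ↦ (k, l, s)` -/
def cswap (p : CIdx d) : CIdx d := ⟨p.2.1, p.1, Fin.cast (min_comm _ _) p.2.2⟩

variable (d)

/-- `φ`-hermitian coefficient systems: `c (k, l, s) = φ (c (l, k, s))` -/
def HC (φ : K →+* K) : Set (CIdx d → K) := {c | ∀ p, c (cswap p) = φ (c p)}

/-- the Hankel-type matrix of a coefficient system: entry `((l,b),(k,a))` is `c (l, k, a + b)` if
`a + b < min (d l) (d k)` and `0` otherwise -/
def hankel (c : CIdx d → K) : Matrix (JI d) (JI d) K :=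
  Matrix.of fun x y =>
    if h : (x.2 : ℕ) + (y.2 : ℕ) < min (d x.1) (d y.1) then c ⟨x.1, y.1, ⟨(x.2 : ℕ) + (y.2 : ℕ), h⟩⟩
    else 0

/-- the top matrix of a coefficient system: entry `(l, k)` is `c (l, k, d k - 1)` if `d l = d k`
and `0` otherwise (block diagonal with respect to the block sizes) -/
def topC (hd : ∀ k, 1 ≤ d k) (c : CIdx d → K) : Matrix (Fin t) (Fin t) K :=
  Matrix.of fun l k =>
    if h : d l = d k then c ⟨l, k, ⟨d k - 1, by have := hd k; rw [h, min_self]; omega⟩⟩ else 0

/-- `φ`-hermitian `t × t` matrices which are block diagonal with respect to the block sizes -/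
def BDH (φ : K →+* K) : Set (Matrix (Fin t) (Fin t) K) :=
  {T | hadj φ T = T ∧ ∀ l k, d l ≠ d k → T l k = 0}

/-- the non-top coefficient indices -/
def IsTop (p : CIdx d) : Prop := d p.1 = d p.2.1 ∧ (p.2.2 : ℕ) + 1 = d p.2.1

end jordan

end Cfsg.Agent.Lib.Helper73.UC
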