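import Mathlib
import Cfsg.Prelude.Def_JordanBlocks
import Cfsg.Agent.Lib.Helper73.UCDefs

set_option autoImplicit false

/-!
# Definitions for the pack K-SPC (S2676: classes of elements of order `p` in `Sp_2m(q)`, `q` odd)

`CongRel A B B'`: `B' = xᵀ B x` for an invertible `x` commuting with `A`. `orbCount A S` is the number of
classes of this relation on the set `S` of matrices. `AltInv A`: nondegenerate skew-symmetric `B` with
`Aᵀ B A = B`; `AltSkew N`: nondegenerate skew-symmetric `B` with `Nᵀ B = - B N`.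
`shankel d c` is the signed Hankel matrix of a coefficient system.
-/

namespace Cfsg.Agent.Lib.Helper73.SPC

open Matrix Cfsg.Agent.Lib.Helper73.UC

section general

variable {F : Type*} [Field F] {ι : Type*} [Fintype ι] [DecidableEq ι]

/-- `B' = xᵀ B x` for some invertible `x` commuting with `A` -/
def CongRel (A B B' : Matrix ι ι F) : Prop :=
  ∃ x : Matrix ι ι F, IsUnit x.det ∧ x * A = A * x ∧ xᵀ * B * x = B'

theorem congRel_refl (A B : Matrix ι ι F) : CongRel A B B :=
  ⟨1, by simp, by simp, by simp⟩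

theorem congRel_symm {A B B' : Matrix ι ι F} (h : CongRel A B B') : CongRel A B' B := by
  obtain ⟨x, hx, hxA, hxB⟩ := h
  have h1 : x * x⁻¹ = 1 := Matrix.mul_nonsing_inv x hx
  have h2 : x⁻¹ * x = 1 := Matrix.nonsing_inv_mul x hx
  refine ⟨x⁻¹, ?_, ?_, ?_⟩
  · rw [Matrix.det_nonsing_inv]
    exact (Ring.inverse_unit hx.unit ▸ (hx.unit⁻¹).isUnit : IsUnit (Ring.inverse x.det))
  · calc x⁻¹ * A = x⁻¹ * A * (x * x⁻¹) := by rw [h1, mul_one]
      _ = x⁻¹ * (A * x) * x⁻¹ := by simp only [mul_assoc]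
      _ = x⁻¹ * (x * A) * x⁻¹ := by rw [hxA]
      _ = (x⁻¹ * x) * A * x⁻¹ := by simp only [mul_assoc]
      _ = A * x⁻¹ := by rw [h2, one_mul]
  · rw [← hxB]
    calc (x⁻¹)ᵀ * (xᵀ * B * x) * x⁻¹ = ((x⁻¹)ᵀ * xᵀ) * B * (x * x⁻¹) := by simp only [mul_assoc]
      _ = B := by rw [← Matrix.transpose_mul, h1, Matrix.transpose_one, one_mul, mul_one]

theorem congRel_trans {A B B' B'' : Matrix ι ι F} (h : CongRel A B B') (h' : CongRel A B' B'') :
    CongRel A B B'' := by
  obtain ⟨x, hx, hxA, hxB⟩ := h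
  obtain ⟨y, hy, hyA, hyB⟩ := h'
  refine ⟨x * y, ?_, ?_, ?_⟩
  · rw [Matrix.det_mul]; exact hx.mul hy
  · rw [mul_assoc, hyA, ← mul_assoc, hxA, mul_assoc]
  · rw [← hyB, ← hxB, Matrix.transpose_mul]
    simp only [mul_assoc]

/-- the congruence relation under the commutant of `A`, as a setoid on all matrices -/
def congSetoid (A : Matrix ι ι F) : Setoid (Matrix ι ι F) :=
  ⟨CongRel A, ⟨congRel_refl A, congRel_symm, congRel_trans⟩⟩

/-- the number of classes of `CongRel A` on the set `S` -/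
noncomputable def orbCount (A : Matrix ι ι F) (S : Set (Matrix ι ι F)) : ℕ :=
  Nat.card (Quotient ((congSetoid A).comap (Subtype.val : ↥S → Matrix ι ι F)))

/-- nondegenerate skew-symmetric `B` with `Aᵀ B A = B` -/
def AltInv (A : Matrix ι ι F) : Set (Matrix ι ι F) :=
  {B | Bᵀ = -B ∧ IsUnit B.det ∧ Aᵀ * B * A = B}

/-- nondegenerate skew-symmetric `B` with `Nᵀ B = - B N` -/
def AltSkew (N : Matrix ι ι F) : Set (Matrix ι ι F) :=
  {B | Bᵀ = -B ∧ IsUnit B.det ∧ Nᵀ * B = -(B * N)}

/-- nondegenerate `(-1)^i`-symmetric matrices -/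
def SymND (κ : Type*) [Fintype κ] [DecidableEq κ] (i : ℕ) : Set (Matrix κ κ F) :=
  {T | Tᵀ = (-1 : F) ^ i • T ∧ IsUnit T.det}

end general

section jordan

variable {F : Type*} [Field F] {t : ℕ} (d : Fin t → ℕ)

/-- alternating coefficient systems: `c (k, l, s) = (-1)^(s+1) c (l, k, s)` -/
def AC : Set (CIdx d → F) := {c | ∀ p, c (cswap p) = (-1 : F) ^ ((p.2.2 : ℕ) + 1) * c p}

/-- the signed Hankel matrix: entry `((l,b),(k,a))` is `(-1)^b c (l, k, a + b)` if
`a + b < min (d l) (d k)` and `0` otherwise -/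
def shankel (c : CIdx d → F) : Matrix (JI d) (JI d) F :=
  Matrix.of fun x y => (-1 : F) ^ (x.2 : ℕ) * hankel d c x y

/-- the size-`i` diagonal block of the top matrix `topC` -/
def topBlock (hd : ∀ k, 1 ≤ d k) (c : CIdx d → F) (i : ℕ) :
    Matrix {k : Fin t // d k = i} {k : Fin t // d k = i} F :=
  (topC d hd c).submatrix Subtype.val Subtype.val

end jordan

section types

variable {F : Type*} [Field F]

/-- the matrix `A` (over any index type of size `n`) is similar to the unipotent Jordan matrix whose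
block sizes form the partition `μ` -/
def MatHasType {ι : Type*} [Fintype ι] [DecidableEq ι] {n : ℕ} (A : Matrix ι ι F)
    (μ : Nat.Partition n) : Prop :=
  ∃ (t : ℕ) (d : Fin t → ℕ) (e : ((k : Fin t) × Fin (d k)) ≃ ι), (∀ k, 1 ≤ d k) ∧
    Multiset.map d Finset.univ.val = μ.parts ∧
    IsConj (Matrix.reindex e e (Cfsg.jordanTypeMatrix d F)) A

open Classical in
/-- the number of symplectic classes of a Jordan type -/
noncomputable def spWeight {n : ℕ} (μ : Nat.Partition n) : ℕ :=
  if ∀ j : ℕ, Odd j → Even (μ.parts.count j) then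
    2 ^ ((μ.parts.toFinset.filter (fun j : ℕ => Even j)).card) else 0

end types

end Cfsg.Agent.Lib.Helper73.SPC
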