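import Mathlib

set_option autoImplicit false

/-!
# Definitions and basic API for the pack K-RU (S2280: `SL_n(F)`, `n ≥ 3`, is generated by three conjugate
regular unipotent elements)

`InG G A`: the matrix `A` is (the matrix of) an element of the subgroup `G` of `SL_n(F)`.
`tvm v ψ = 1 + v ψᵀ` (a transvection when `ψ ⬝ᵥ v = 0`).
`Ax G`: the axes `ψ` all of whose transvections lie in `G`.
Specific matrices for `n = m + 3`: `aMat` (upper Jordan block), `cMat δ` (lower Jordan block, last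
subdiagonal entry `δ`), `phi δ` (the row `e_last c⁻¹`), `gMat`, `bMat`, `hMat` (conjugators).
-/

namespace Cfsg.Agent.Lib.Helper73.RU

open Matrix

section general

variable {n : ℕ} {F : Type*} [Field F]

/-- `A` is (the matrix of) an element of the subgroup `G` of `SL_n(F)` -/
def InG (G : Subgroup (SpecialLinearGroup (Fin n) F)) (A : Matrix (Fin n) (Fin n) F) : Prop :=
  ∃ g ∈ G, (g : Matrix (Fin n) (Fin n) F) = A

/-- the matrix `1 + v ψᵀ` -/
def tvm (v ψ : Fin n → F) : Matrix (Fin n) (Fin n) F := 1 + vecMulVec v ψ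

/-- the axes `ψ` all of whose transvections lie in `G` -/
def Ax (G : Subgroup (SpecialLinearGroup (Fin n) F)) : Set (Fin n → F) :=
  {ψ | ∀ v : Fin n → F, ψ ⬝ᵥ v = 0 → InG G (tvm v ψ)}

variable {G : Subgroup (SpecialLinearGroup (Fin n) F)}

theorem inG_one : InG G (1 : Matrix (Fin n) (Fin n) F) := ⟨1, G.one_mem, rfl⟩

theorem inG_mul {A B : Matrix (Fin n) (Fin n) F} (hA : InG G A) (hB : InG G B) : InG G (A * B) := by
  obtain ⟨a, ha, rfl⟩ := hA
  obtain ⟨b, hb, rfl⟩ := hB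
  exact ⟨a * b, G.mul_mem ha hb, by simp⟩

/-- left cancellation -/
theorem inG_of_mul_left {A B : Matrix (Fin n) (Fin n) F} (hA : InG G A) (hAB : InG G (A * B)) :
    InG G B := by
  obtain ⟨a, ha, rfl⟩ := hA
  obtain ⟨c, hc, hcAB⟩ := hAB
  refine ⟨a⁻¹ * c, G.mul_mem (G.inv_mem ha) hc, ?_⟩
  have h1 : ((a⁻¹ : SpecialLinearGroup (Fin n) F) : Matrix (Fin n) (Fin n) F) *
      (a : Matrix (Fin n) (Fin n) F) = 1 := by
    have h := a.2
    simp [adjugate_mul, h]
  have h2 : ((a⁻¹ * c : SpecialLinearGroup (Fin n) F) : Matrix (Fin n) (Fin n) F) =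
      ((a⁻¹ : SpecialLinearGroup (Fin n) F) : Matrix (Fin n) (Fin n) F) * (c : Matrix (Fin n) (Fin n) F) := by
    simp
  rw [h2, hcAB, ← Matrix.mul_assoc, h1, Matrix.one_mul]

/-- right cancellation -/
theorem inG_of_mul_right {A B : Matrix (Fin n) (Fin n) F} (hB : InG G B) (hAB : InG G (A * B)) :
    InG G A := by
  obtain ⟨b, hb, rfl⟩ := hB
  obtain ⟨c, hc, hcAB⟩ := hAB
  refine ⟨c * b⁻¹, G.mul_mem hc (G.inv_mem hb), ?_⟩
  have h1 : (b : Matrix (Fin n) (Fin n) F) *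
      ((b⁻¹ : SpecialLinearGroup (Fin n) F) : Matrix (Fin n) (Fin n) F) = 1 := by
    have h := b.2
    simp [mul_adjugate, h]
  have h2 : ((c * b⁻¹ : SpecialLinearGroup (Fin n) F) : Matrix (Fin n) (Fin n) F) =
      (c : Matrix (Fin n) (Fin n) F) * ((b⁻¹ : SpecialLinearGroup (Fin n) F) : Matrix (Fin n) (Fin n) F) := by
    simp
  rw [h2, hcAB, Matrix.mul_assoc, h1, Matrix.mul_one]

/-- inverse, given explicitly -/
theorem inG_of_mul_eq_one {A B : Matrix (Fin n) (Fin n) F} (hA : InG G A) (h : A * B = 1) :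
    InG G B :=
  inG_of_mul_left hA (h ▸ inG_one)

theorem tvm_zero (ψ : Fin n → F) : tvm (0 : Fin n → F) ψ = 1 := by
  unfold tvm; simp

theorem tvm_mul_tvm (v v' ψ : Fin n → F) (h : ψ ⬝ᵥ v' = 0) :
    tvm v ψ * tvm v' ψ = tvm (v + v') ψ := by
  unfold tvm
  rw [Matrix.mul_add, Matrix.add_mul, Matrix.add_mul, Matrix.one_mul, Matrix.mul_one, Matrix.one_mul,
    vecMulVec_mul_vecMulVec, h, zero_smul, vecMulVec_zero, add_vecMulVec]
  abel

theorem tvm_mul_tvm_neg (v ψ : Fin n → F) (h : ψ ⬝ᵥ v = 0) : tvm v ψ * tvm (-v) ψ = 1 := by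
  rw [tvm_mul_tvm v (-v) ψ (by rw [dotProduct_neg, h, neg_zero]), add_neg_cancel, tvm_zero]

theorem tvm_smul_left (s : F) (v ψ : Fin n → F) : tvm (s • v) ψ = tvm v (s • ψ) := by
  unfold tvm
  rw [smul_vecMulVec, vecMulVec_smul]

/-- conjugation, without inverses: `A (1 + v (ψ A)) = (1 + (A v) ψ) A` -/
theorem mul_tvm (A : Matrix (Fin n) (Fin n) F) (v ψ : Fin n → F) :
    A * tvm v (ψ ᵥ* A) = tvm (A *ᵥ v) ψ * A := by
  unfold tvm
  rw [Matrix.mul_add, Matrix.add_mul, Matrix.mul_one, Matrix.one_mul, mul_vecMulVec, vecMulVec_mul]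

/-- the commutator of two transvections -/
theorem tvm_comm (x χ w φ : Fin n → F) (h1 : χ ⬝ᵥ x = 0) (h2 : φ ⬝ᵥ w = 0) (h3 : χ ⬝ᵥ w = 0) :
    tvm x χ * tvm w φ * tvm (-x) χ * tvm (-w) φ = tvm (-(φ ⬝ᵥ x) • w) χ := by
  unfold tvm
  rw [neg_vecMulVec, neg_vecMulVec, neg_smul, neg_vecMulVec, smul_vecMulVec]
  set P := vecMulVec x χ
  set Q := vecMulVec w φ
  set R := vecMulVec w χ
  have hPQ : P * Q = 0 := by
    rw [vecMulVec_mul_vecMulVec, h3, zero_smul, vecMulVec_zero]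
  have hPP : P * P = 0 := by
    rw [vecMulVec_mul_vecMulVec, h1, zero_smul, vecMulVec_zero]
  have hQQ : Q * Q = 0 := by
    rw [vecMulVec_mul_vecMulVec, h2, zero_smul, vecMulVec_zero]
  have hQP : Q * P = (φ ⬝ᵥ x) • R := by
    rw [vecMulVec_mul_vecMulVec, vecMulVec_smul]
  have hRQ : R * Q = 0 := by
    rw [vecMulVec_mul_vecMulVec, h3, zero_smul, vecMulVec_zero]
  have e1 : (1 + P) * (1 + Q) = 1 + P + Q := by
    rw [mul_add, mul_one, add_mul, one_mul, hPQ, add_zero]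
  have e2 : (1 + P + Q) * (1 + -P) = 1 + Q - (φ ⬝ᵥ x) • R := by
    rw [mul_add, mul_one, mul_neg, add_mul, add_mul, one_mul, hPP, hQP]
    abel
  have e3 : (1 + Q - (φ ⬝ᵥ x) • R) * (1 + -Q) = 1 + -((φ ⬝ᵥ x) • R) := by
    rw [mul_add, mul_one, mul_neg, sub_mul, add_mul, one_mul, hQQ, Matrix.smul_mul, hRQ, smul_zero]
    abel
  rw [e1, e2, e3]

theorem inG_tvm_neg {v ψ : Fin n → F} (h : ψ ⬝ᵥ v = 0) (hv : InG G (tvm v ψ)) :
    InG G (tvm (-v) ψ) :=
  inG_of_mul_eq_one hv (tvm_mul_tvm_neg v ψ h)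

end general

section specific

variable (m : ℕ) (F : Type*) [Field F]

/-- the upper Jordan block `1 + N` -/
def aMat : Matrix (Fin (m + 3)) (Fin (m + 3)) F :=
  Matrix.of fun i j => if i = j ∨ i.val + 1 = j.val then 1 else 0

/-- the lower Jordan block with last subdiagonal entry `δ` -/
def cMat (δ : F) : Matrix (Fin (m + 3)) (Fin (m + 3)) F :=
  Matrix.of fun i j =>
    if i = j then 1 else if i.val = j.val + 1 then (if i = Fin.last (m + 2) then δ else 1) else 0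

/-- the subdiagonal entries of `cMat δ`: `μ j = c (j+1) j` -/
def cMu (δ : F) : Fin (m + 3) → F := fun j => if j.val + 2 = m + 3 then δ else 1

/-- the row vector `e_last c⁻¹` -/
def phi (δ : F) : Fin (m + 3) → F :=
  fun i => if i = Fin.last (m + 2) then 1 else (-1) ^ (m + 2 - i.val) * δ

/-- the conjugator `1 - l E_{1,last}` -/
def gMat (l : F) : Matrix (Fin (m + 3)) (Fin (m + 3)) F :=
  1 + Matrix.single 1 (Fin.last (m + 2)) (-l)

/-- `a (1 + l E_{0,last})` -/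
def bMat (l : F) : Matrix (Fin (m + 3)) (Fin (m + 3)) F :=
  aMat m F * (1 + Matrix.single 0 (Fin.last (m + 2)) l)

/-- the sign of the reversal permutation, in `F` -/
def dlt : F := (((Equiv.Perm.sign (Fin.revPerm : Equiv.Perm (Fin (m + 3))) : ℤˣ) : ℤ) : F)

/-- the conjugator `w₀ diag(δ, 1, …, 1)` -/
def hMat : Matrix (Fin (m + 3)) (Fin (m + 3)) F :=
  (Fin.revPerm : Equiv.Perm (Fin (m + 3))).permMatrix F *
    Matrix.diagonal (fun i => if i = 0 then dlt m F else 1)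

end specific

end Cfsg.Agent.Lib.Helper73.RU
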