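import Mathlib
import Cfsg.Agent.Lib.Helper73.RUDefs
import Cfsg.Agent.Lib.Helper51.RUD
import Cfsg.Agent.Lib.Helper36.RUG
import Cfsg.Agent.Lib.Helper04.RUJ
import Cfsg.Agent.Lib.Helper27.RUI
import Cfsg.Agent.Lib.Helper18.RUA
import Cfsg.Agent.Lib.Helper09.RUH
import Cfsg.Agent.Lib.Helper08.RUF
import Cfsg.Agent.Lib.Helper04.RUB
import Cfsg.Agent.Lib.Helper38.RUE
import Cfsg.Agent.Lib.Helper23.RUC
import Cfsg.Agent.Lib.Helper92.RUK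

set_option autoImplicit false

/-!
# SPEC of the pack K-RU (S2280, 10 units): every leaf is ONE file with the theorems below, EXACT signatures

Deliver leaf `X` as `Cfsg/Agent/Lib/HelperNN/RU<X>.lean`, namespace `Cfsg.Agent.Lib.HelperNN.RU`,
same theorem names and signatures (check with `example : @spec = @mine := rfl` against a verbatim copy).
Imports allowed: Mathlib, `Cfsg.Agent.Lib.Helper73.RUDefs` (definitions + proved API: `inG_one`, `inG_mul`,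
`inG_of_mul_left`, `inG_of_mul_right`, `inG_of_mul_eq_one`, `tvm_zero`, `tvm_mul_tvm`, `tvm_mul_tvm_neg`,
`tvm_smul_left`, `mul_tvm`, `tvm_comm`, `inG_tvm_neg`), anything on main.
No leaf depends on another leaf.

THE PROOF (paper). `n = m + 3`, `a = 1 + N` the upper Jordan block, `b = a (1 + l E_{0,last})` (conjugate of
`a` by `1 - l E_{1,last}`), `c` = lower Jordan block (conjugate of `a` by `w₀ diag(δ,1,…,1)`), `l` a generator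
of `Fˣ`, `G = ⟨a, b, c⟩`. Then `z = 1 + l e_0 e_lastᵀ = a⁻¹ b ∈ G`.
`M = {v | v_last = 0, 1 + v e_lastᵀ ∈ G}` is an additive group, `a M ⊆ M` (`e_lastᵀ a = e_lastᵀ`), and
`[z, c (1 + v e_lastᵀ) c⁻¹] = 1 - l φ_0 (c v) e_lastᵀ` (`φ = e_lastᵀ c⁻¹`) whenever `(c v)_last = 0`.
With `c e_j = e_j + μ_j e_(j+1)`, `a e_1 = e_1 + e_0`: `t e_0 ∈ M ⇒ ± l t e_0 ∈ M`, so `F e_0 ⊆ M`; then
`F e_j ⊆ M ⇒ F e_(j+1) ⊆ M` for `j + 1 < last`. So all transvections with axis `e_lastᵀ` are in `G`.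
The set of axes `Ax G` is closed under `ψ ↦ ψ g` (`g ∈ G`), scalars and (independent) sums;
`e_(j+1)ᵀ c = e_(j+1)ᵀ + μ_j e_jᵀ` gives all `e_jᵀ ∈ Ax G`, so `G` contains all elementary matrices.
-/

namespace Cfsg.Agent.Lib.Helper73.RUSpec

open Matrix Cfsg.Agent.Lib.Helper73.RU

/-! ## LEAF A (EASY, ~60 lines): the set of axes -/

theorem ax_smul {n : ℕ} {F : Type*} [Field F] {G : Subgroup (SpecialLinearGroup (Fin n) F)} (s : F)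
    {ψ : Fin n → F} (h : ψ ∈ Ax G) : s • ψ ∈ Ax G :=
  Cfsg.Agent.Lib.Helper18.RU.ax_smul s h

/-- `A (1 + v' (ψ A)) = (1 + (A v') ψ) A` (`mul_tvm`) and cancel `A` on the left -/
theorem ax_vecMul {n : ℕ} {F : Type*} [Field F] {G : Subgroup (SpecialLinearGroup (Fin n) F)}
    {ψ : Fin n → F} (h : ψ ∈ Ax G) {A : Matrix (Fin n) (Fin n) F} (hA : InG G A) :
    ψ ᵥ* A ∈ Ax G :=
  Cfsg.Agent.Lib.Helper18.RU.ax_vecMul h hA

/-- with `g = 1 + v₀ ψ₂ ∈ G`: `ψ₁ g = ψ₁ + ψ₂`, so this is `ax_vecMul` -/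
theorem ax_add_of {n : ℕ} {F : Type*} [Field F] {G : Subgroup (SpecialLinearGroup (Fin n) F)}
    {ψ₁ ψ₂ : Fin n → F} (h1 : ψ₁ ∈ Ax G) (h2 : ψ₂ ∈ Ax G) (v₀ : Fin n → F)
    (hv1 : ψ₁ ⬝ᵥ v₀ = 1) (hv2 : ψ₂ ⬝ᵥ v₀ = 0) : ψ₁ + ψ₂ ∈ Ax G :=
  Cfsg.Agent.Lib.Helper18.RU.ax_add_of h1 h2 v₀ hv1 hv2

/-! ## LEAF B (EASY-MEDIUM, ~60 lines): the two closure properties of `M` -/

/-- `A (1 + v e_lastᵀ) = (1 + (A v) e_lastᵀ) A` since `e_lastᵀ A = e_lastᵀ` -/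
theorem mset_mulVec {n : ℕ} {F : Type*} [Field F] {G : Subgroup (SpecialLinearGroup (Fin n) F)}
    (e : Fin n → F) {A : Matrix (Fin n) (Fin n) F} (hA : InG G A) (hAl : e ᵥ* A = e)
    (v : Fin n → F) (hv : InG G (tvm v e)) : InG G (tvm (A *ᵥ v) e) :=
  Cfsg.Agent.Lib.Helper04.RU.mset_mulVec e hA hAl v hv

/-- `z' = C (1 + v eᵀ) C⁻¹ = 1 + (C v) φ` (`mul_tvm`, `φ C = e`), then `tvm_comm` with `x`, `χ = e`, `w = C v` -/
theorem mset_step {n : ℕ} {F : Type*} [Field F] {G : Subgroup (SpecialLinearGroup (Fin n) F)}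
    (e φ x : Fin n → F) {C : Matrix (Fin n) (Fin n) F} (hC : InG G C) (hφC : φ ᵥ* C = e)
    (hex : e ⬝ᵥ x = 0) (hz : InG G (tvm x e))
    (v : Fin n → F) (hv0 : e ⬝ᵥ v = 0) (hv : InG G (tvm v e)) (hCv : e ⬝ᵥ (C *ᵥ v) = 0) :
    InG G (tvm ((-(φ ⬝ᵥ x)) • (C *ᵥ v)) e) :=
  Cfsg.Agent.Lib.Helper04.RU.mset_step e φ x hC hφC hex hz v hv0 hv hCv

/-! ## LEAF C (MEDIUM, ~120 lines): the induction, pure linear algebra (no groups) -/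

theorem mset_induction {m : ℕ} {F : Type*} [Field F] (M : Set (Fin (m + 3) → F))
    (A C : Matrix (Fin (m + 3)) (Fin (m + 3)) F) (μ : Fin (m + 3) → F) (l κ : F)
    (hl : ∀ x : F, x ≠ 0 → ∃ k : ℕ, x = l ^ (k + 1))
    (hκ : κ * μ 0 = l ∨ κ * μ 0 = -l) (hκ0 : κ ≠ 0) (hμ : ∀ j, μ j ≠ 0)
    (h0 : (0 : Fin (m + 3) → F) ∈ M) (hadd : ∀ v w, v ∈ M → w ∈ M → v + w ∈ M)
    (hneg : ∀ v, v ∈ M → -v ∈ M)
    (hA : ∀ v, v ∈ M → A *ᵥ v ∈ M)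
    (hC : ∀ v, v ∈ M → (C *ᵥ v) (Fin.last (m + 2)) = 0 → κ • (C *ᵥ v) ∈ M)
    (hz : l • (Pi.single 0 1 : Fin (m + 3) → F) ∈ M)
    (hA0 : A *ᵥ (Pi.single 0 1 : Fin (m + 3) → F) = Pi.single 0 1)
    (hA1 : A *ᵥ (Pi.single 1 1 : Fin (m + 3) → F) = Pi.single 1 1 + Pi.single 0 1)
    (hCj : ∀ (j : Fin (m + 3)) (hj : j.val + 1 < m + 3),
      C *ᵥ (Pi.single j 1 : Fin (m + 3) → F) = Pi.single j 1 + μ j • Pi.single ⟨j.val + 1, hj⟩ 1) :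
    ∀ v : Fin (m + 3) → F, v (Fin.last (m + 2)) = 0 → v ∈ M :=
  Cfsg.Agent.Lib.Helper23.RU.mset_induction M A C μ l κ hl hκ hκ0 hμ h0 hadd hneg hA hC hz hA0 hA1 hCj

/-! ## LEAF D (EASY-MEDIUM, ~70 lines): all `e_jᵀ` are axes (downward induction, from the statements of leaf A) -/

theorem single_mem_Ax_of {m : ℕ} {F : Type*} [Field F]
    {G : Subgroup (SpecialLinearGroup (Fin (m + 3)) F)}
    (HA1 : ∀ (s : F) (ψ : Fin (m + 3) → F), ψ ∈ Ax G → s • ψ ∈ Ax G)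
    (HA2 : ∀ (ψ : Fin (m + 3) → F), ψ ∈ Ax G → ∀ A : Matrix (Fin (m + 3)) (Fin (m + 3)) F, InG G A →
      ψ ᵥ* A ∈ Ax G)
    (HA3 : ∀ (ψ₁ ψ₂ : Fin (m + 3) → F), ψ₁ ∈ Ax G → ψ₂ ∈ Ax G → ∀ v₀ : Fin (m + 3) → F,
      ψ₁ ⬝ᵥ v₀ = 1 → ψ₂ ⬝ᵥ v₀ = 0 → ψ₁ + ψ₂ ∈ Ax G)
    (C : Matrix (Fin (m + 3)) (Fin (m + 3)) F) (μ : Fin (m + 3) → F) (hC : InG G C)
    (hrow : ∀ (j : Fin (m + 3)) (hj : j.val + 1 < m + 3),
      (Pi.single ⟨j.val + 1, hj⟩ 1 : Fin (m + 3) → F) ᵥ* C =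
        Pi.single ⟨j.val + 1, hj⟩ 1 + μ j • Pi.single j 1)
    (hμ : ∀ j, μ j ≠ 0)
    (hlast : (Pi.single (Fin.last (m + 2)) 1 : Fin (m + 3) → F) ∈ Ax G) :
    ∀ j : Fin (m + 3), (Pi.single j 1 : Fin (m + 3) → F) ∈ Ax G :=
  Cfsg.Agent.Lib.Helper51.RU.single_mem_Ax_of HA1 HA2 HA3 C μ hC hrow hμ hlast

/-! ## LEAF E (EASY, ~40 lines): all elementary matrices, hence everything
(`Cfsg.Agent.Lib.Helper07.eq_top_of_transvection_mem`, `1 + single i j c = tvm (c • e_i) e_j`) -/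

theorem eq_top_of_single_mem_Ax {n : ℕ} {F : Type*} [Field F]
    (G : Subgroup (SpecialLinearGroup (Fin n) F))
    (h : ∀ j : Fin n, (Pi.single j 1 : Fin n → F) ∈ Ax G) : G = ⊤ :=
  Cfsg.Agent.Lib.Helper38.RU.eq_top_of_single_mem_Ax G h

/-! ## LEAF F (EASY-MEDIUM, ~60 lines): columns `0`, `1` and the last row of `aMat`; `det` -/

theorem aMat_mulVec_zero (m : ℕ) (F : Type*) [Field F] :
    aMat m F *ᵥ (Pi.single 0 1 : Fin (m + 3) → F) = Pi.single 0 1 :=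
  Cfsg.Agent.Lib.Helper08.RU.aMat_mulVec_zero m F

theorem aMat_mulVec_one (m : ℕ) (F : Type*) [Field F] :
    aMat m F *ᵥ (Pi.single 1 1 : Fin (m + 3) → F) = Pi.single 1 1 + Pi.single 0 1 :=
  Cfsg.Agent.Lib.Helper08.RU.aMat_mulVec_one m F

theorem last_vecMul_aMat (m : ℕ) (F : Type*) [Field F] :
    (Pi.single (Fin.last (m + 2)) 1 : Fin (m + 3) → F) ᵥ* aMat m F = Pi.single (Fin.last (m + 2)) 1 :=
  Cfsg.Agent.Lib.Helper08.RU.last_vecMul_aMat m F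

theorem det_aMat (m : ℕ) (F : Type*) [Field F] : (aMat m F).det = 1 :=
  Cfsg.Agent.Lib.Helper08.RU.det_aMat m F

/-! ## LEAF G (MEDIUM, ~100 lines): columns and rows of `cMat δ`, and `phi δ * cMat δ = e_last` -/

theorem cMat_mulVec_single (m : ℕ) (F : Type*) [Field F] (δ : F) (j : Fin (m + 3))
    (hj : j.val + 1 < m + 3) :
    cMat m F δ *ᵥ (Pi.single j 1 : Fin (m + 3) → F) =
      Pi.single j 1 + cMu m F δ j • Pi.single ⟨j.val + 1, hj⟩ 1 :=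
  Cfsg.Agent.Lib.Helper36.RU.cMat_mulVec_single m F δ j hj

theorem single_vecMul_cMat (m : ℕ) (F : Type*) [Field F] (δ : F) (j : Fin (m + 3))
    (hj : j.val + 1 < m + 3) :
    (Pi.single ⟨j.val + 1, hj⟩ 1 : Fin (m + 3) → F) ᵥ* cMat m F δ =
      Pi.single ⟨j.val + 1, hj⟩ 1 + cMu m F δ j • Pi.single j 1 :=
  Cfsg.Agent.Lib.Helper36.RU.single_vecMul_cMat m F δ j hj

/-- `(φ c)_j = φ_j + φ_(j+1) c_(j+1,j)`: `j = last`: `1`; `j + 1 = last`: `-δ + δ`; else `(-1)^k δ + (-1)^(k-1) δ` -/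
theorem phi_vecMul_cMat (m : ℕ) (F : Type*) [Field F] (δ : F) :
    phi m F δ ᵥ* cMat m F δ = Pi.single (Fin.last (m + 2)) 1 :=
  Cfsg.Agent.Lib.Helper36.RU.phi_vecMul_cMat m F δ

/-! ## LEAF H (MEDIUM, ~80 lines): `aMat` is regular unipotent: `(a - 1)^k` has entries `[i + k = j]` -/

theorem isNilpotent_aMat_sub_one (m : ℕ) (F : Type*) [Field F] : IsNilpotent (aMat m F - 1) :=
  Cfsg.Agent.Lib.Helper09.RU.isNilpotent_aMat_sub_one m F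

theorem aMat_sub_one_pow_ne_zero (m : ℕ) (F : Type*) [Field F] : (aMat m F - 1) ^ (m + 2) ≠ 0 :=
  Cfsg.Agent.Lib.Helper09.RU.aMat_sub_one_pow_ne_zero m F

/-! ## LEAF I (EASY-MEDIUM, ~60 lines): the conjugator `g = 1 - l E_{1,last}`: `g a = b g`
(`g a = a - l E_{1,last}` as `e_lastᵀ a = e_lastᵀ`; `b g = a + l E_{0,last} - l (a e_1) e_lastᵀ` and `a e_1 = e_1 + e_0`,
`E_{0,last} E_{1,last} = 0`) -/

theorem det_gMat (m : ℕ) (F : Type*) [Field F] (l : F) : (gMat m F l).det = 1 :=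
  Cfsg.Agent.Lib.Helper27.RU.det_gMat m F l

theorem gMat_mul_aMat (m : ℕ) (F : Type*) [Field F] (l : F) :
    gMat m F l * aMat m F = bMat m F l * gMat m F l :=
  Cfsg.Agent.Lib.Helper27.RU.gMat_mul_aMat m F l

theorem bMat_eq (m : ℕ) (F : Type*) [Field F] (l : F) :
    bMat m F l = aMat m F *
      tvm (l • (Pi.single 0 1 : Fin (m + 3) → F)) (Pi.single (Fin.last (m + 2)) 1) :=
  Cfsg.Agent.Lib.Helper27.RU.bMat_eq m F l

/-! ## LEAF J (MEDIUM, ~100 lines): the conjugator `h = w₀ diag(δ,1,…,1)`: `h a = c h`, `det h = 1`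
(`(h a) i j = d (rev i) * a (rev i) j`, `(c h) i j = c i (rev j) * d j`; `det (permMatrix σ) = sign σ`) -/

theorem dlt_eq (m : ℕ) (F : Type*) [Field F] : dlt m F = 1 ∨ dlt m F = -1 :=
  Cfsg.Agent.Lib.Helper04.RU.dlt_eq m F

theorem det_hMat (m : ℕ) (F : Type*) [Field F] : (hMat m F).det = 1 :=
  Cfsg.Agent.Lib.Helper04.RU.det_hMat m F

theorem hMat_mul_aMat (m : ℕ) (F : Type*) [Field F] :
    hMat m F * aMat m F = cMat m F (dlt m F) * hMat m F :=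
  Cfsg.Agent.Lib.Helper04.RU.hMat_mul_aMat m F

/-! ## LEAF K (EASY, ~30 lines): a generator of `Fˣ` -/

theorem exists_gen (F : Type*) [Field F] [Fintype F] :
    ∃ l : F, l ≠ 0 ∧ ∀ x : F, x ≠ 0 → ∃ k : ℕ, x = l ^ (k + 1) :=
  Cfsg.Agent.Lib.Helper92.RU.exists_gen F

end Cfsg.Agent.Lib.Helper73.RUSpec
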