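import Mathlib
import Cfsg.Agent.S4127
import Cfsg.Agent.Lib.Helper77.ConjUnion

set_option autoImplicit false
set_option linter.unusedSectionVars false

namespace Cfsg.Agent.Lib.Helper73

open Subgroup

section basic

variable {G : Type*} [Group G]

local notation "Cz(" x ")" => Subgroup.centralizer ({x} : Set G)

lemma mem_Cz {x y : G} : y ∈ Cz(x) ↔ y * x = x * y := Subgroup.mem_centralizer_singleton_iff

lemma index_Cz_eq_one_iff (x : G) : (Cz(x)).index = 1 ↔ x ∈ Subgroup.center G := by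
  rw [Subgroup.index_eq_one, Subgroup.centralizer_eq_top_iff_subset, Set.singleton_subset_iff]
  rfl

/-- two subgroups of the same finite index, one inside the other, coincide -/
lemma eq_of_le_of_index_eq [Finite G] {H K : Subgroup G} (h : H ≤ K) (hi : H.index = K.index) :
    H = K := by
  have h1 := Subgroup.relIndex_mul_index h
  rw [hi] at h1
  have hpos : 0 < K.index := Nat.pos_of_ne_zero Subgroup.index_ne_zero_of_finite
  have h2 : H.relIndex K = 1 := by
    have : H.relIndex K * K.index = 1 * K.index := by rw [h1, one_mul]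
    exact Nat.eq_of_mul_eq_mul_right hpos this
  exact le_antisymm h (Subgroup.relIndex_eq_one.1 h2)

end basic

section ito

variable {G : Type*} [Group G] [Finite G]

local notation "Cz(" x ")" => Subgroup.centralizer ({x} : Set G)

/-- the two class size hypothesis -/
def TwoSizes (G : Type*) [Group G] (n : ℕ) : Prop :=
  ∀ x : G, (Subgroup.centralizer ({x} : Set G)).index = 1 ∨
    (Subgroup.centralizer ({x} : Set G)).index = n

variable {n : ℕ}

lemma index_of_not_mem (h : TwoSizes G n) {x : G} (hx : x ∉ Subgroup.center G) :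
    (Cz(x)).index = n := by
  rcases h x with h1 | h1
  · exact absurd ((index_Cz_eq_one_iff x).1 h1) hx
  · exact h1

/-- L2 -/
lemma Cz_eq_of_le (h : TwoSizes G n) {x y : G} (hx : x ∉ Subgroup.center G)
    (hy : y ∉ Subgroup.center G) (hle : Cz(x) ≤ Cz(y)) : Cz(x) = Cz(y) :=
  eq_of_le_of_index_eq hle (by rw [index_of_not_mem h hx, index_of_not_mem h hy])

/-- L3: coprime commuting element is central in the centralizer -/
lemma Cz_le_of_coprime (h : TwoSizes G n) {x y : G} (hx : x ∉ Subgroup.center G)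
    (hxy : Commute x y) (hcop : (orderOf x).Coprime (orderOf y)) : Cz(x) ≤ Cz(y) := by
  have hsub : Cz(x * y) ≤ Cz(x) ⊓ Cz(y) := by
    intro g hg
    rw [mem_Cz] at hg
    have := Cfsg.Agent.S4127.comm_of_comm_mul x y g hxy hcop hg
    exact Subgroup.mem_inf.2 ⟨mem_Cz.2 this.1, mem_Cz.2 this.2⟩
  have hxyc : x * y ∉ Subgroup.center G := by
    intro hc
    apply hx
    rw [← index_Cz_eq_one_iff] at hc ⊢
    rw [Subgroup.index_eq_one] at hc ⊢
    exact top_le_iff.1 (hc ▸ (hsub.trans inf_le_left))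
  have h1 : Cz(x * y) = Cz(x) := Cz_eq_of_le h hxyc hx (hsub.trans inf_le_left)
  rw [← h1]
  exact hsub.trans inf_le_right

/-- primary decomposition of an element, inside its cyclic group -/
lemma dec' (x : G) (p : ℕ) (hp : p.Prime) :
    ∃ u v : G, u * v = x ∧ u ∈ Subgroup.zpowers x ∧ v ∈ Subgroup.zpowers x ∧
      (∃ a : ℕ, orderOf u = p ^ a) ∧ (orderOf v).Coprime p := by
  have hn0 : orderOf x ≠ 0 := (orderOf_pos x).ne'
  set a := (orderOf x).factorization p with ha
  set m := orderOf x / p ^ a with hm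
  have hnm : p ^ a * m = orderOf x := Nat.ordProj_mul_ordCompl_eq_self (orderOf x) p
  have hcop : Nat.Coprime (p ^ a) m := (Nat.coprime_ordCompl hp hn0).pow_left a
  have hbez := Nat.gcd_eq_gcd_ab (p ^ a) m
  rw [hcop.gcd_eq_one] at hbez
  have hpm : ¬ p ∣ m := Nat.not_dvd_ordCompl hp hn0
  refine ⟨x ^ ((m : ℤ) * Nat.gcdB (p ^ a) m), x ^ (((p ^ a : ℕ) : ℤ) * Nat.gcdA (p ^ a) m),
    ?_, Subgroup.zpow_mem_zpowers x _, Subgroup.zpow_mem_zpowers x _, ?_, ?_⟩
  · rw [← zpow_add]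
    conv_rhs => rw [← zpow_one x]
    congr 1
    rw [Nat.cast_one] at hbez
    linarith
  · have h1 : (x ^ ((m : ℤ) * Nat.gcdB (p ^ a) m)) ^ (p ^ a) = 1 := by
      rw [← zpow_natCast, ← zpow_mul]
      have : (m : ℤ) * Nat.gcdB (p ^ a) m * ((p ^ a : ℕ) : ℤ) =
          ((orderOf x : ℕ) : ℤ) * Nat.gcdB (p ^ a) m := by
        rw [← hnm]; push_cast; ring
      rw [this, zpow_mul, zpow_natCast, pow_orderOf_eq_one, one_zpow]
    obtain ⟨b, _, hb⟩ := (Nat.dvd_prime_pow hp).mp (orderOf_dvd_of_pow_eq_one h1)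
    exact ⟨b, hb⟩
  · have h1 : (x ^ (((p ^ a : ℕ) : ℤ) * Nat.gcdA (p ^ a) m)) ^ m = 1 := by
      rw [← zpow_natCast, ← zpow_mul]
      have : ((p ^ a : ℕ) : ℤ) * Nat.gcdA (p ^ a) m * (m : ℤ) =
          ((orderOf x : ℕ) : ℤ) * Nat.gcdA (p ^ a) m := by
        rw [← hnm]; push_cast; ring
      rw [this, zpow_mul, zpow_natCast, pow_orderOf_eq_one, one_zpow]
    have hd := orderOf_dvd_of_pow_eq_one h1
    have hmp : m.Coprime p := by
      rw [Nat.coprime_comm]
      exact (Nat.Prime.coprime_iff_not_dvd hp).2 hpm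
    exact Nat.Coprime.coprime_dvd_left hd hmp

lemma zpowers_le_Cz {x w : G} (hw : w ∈ Cz(x)) : Subgroup.zpowers w ≤ Cz(x) :=
  Subgroup.zpowers_le.2 hw

lemma coprime_of_prime_pow {q r a b : ℕ} (hq : q.Prime) (hr : r.Prime) (hqr : q ≠ r) :
    (q ^ a).Coprime (r ^ b) :=
  Nat.Coprime.pow _ _ ((Nat.coprime_primes hq hr).2 hqr)

/-- L9: the centralizer of a noncentral `q`-element containing a noncentral `r`-element is
abelian -/
lemma Cz_comm (h : TwoSizes G n) {q r : ℕ} (hq : q.Prime) (hr : r.Prime) (hqr : q ≠ r) {x y : G}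
    (hx : x ∉ Subgroup.center G) (hy : y ∉ Subgroup.center G) (hxq : ∃ a : ℕ, orderOf x = q ^ a)
    (hyr : ∃ b : ℕ, orderOf y = r ^ b) (hxy : Commute x y) :
    Cz(x) = Cz(y) ∧ ∀ w ∈ Cz(x), Cz(x) ≤ Cz(w) := by
  obtain ⟨a, ha⟩ := hxq
  obtain ⟨b, hb⟩ := hyr
  have hcop : (orderOf x).Coprime (orderOf y) := by
    rw [ha, hb]; exact coprime_of_prime_pow hq hr hqr
  have hle : Cz(x) ≤ Cz(y) := Cz_le_of_coprime h hx hxy hcop
  have heq : Cz(x) = Cz(y) := Cz_eq_of_le h hx hy hle
  refine ⟨heq, ?_⟩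
  intro w hw
  obtain ⟨u, v, huv, hu, hv, ⟨c, hc⟩, hvq⟩ := dec' w q hq
  have hu' : u ∈ Cz(x) := zpowers_le_Cz hw hu
  have hv' : v ∈ Cz(x) := zpowers_le_Cz hw hv
  have h1 : Cz(x) ≤ Cz(v) := by
    apply Cz_le_of_coprime h hx
    · exact (mem_Cz.1 hv').symm
    · rw [ha]; exact (Nat.Coprime.pow_left a hvq.symm)
  have h2 : Cz(y) ≤ Cz(u) := by
    apply Cz_le_of_coprime h hy
    · rw [heq] at hu'
      exact (mem_Cz.1 hu').symm
    · rw [hb, hc]; exact coprime_of_prime_pow hr hq hqr.symm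
  intro g hg
  have hgu : g ∈ Cz(u) := h2 (heq ▸ hg)
  have hgv : g ∈ Cz(v) := h1 hg
  rw [mem_Cz] at hgu hgv ⊢
  rw [← huv, ← mul_assoc, hgu, mul_assoc, hgv, mul_assoc]

/-- L10 -/
lemma Cz_eq_of_mem (h : TwoSizes G n) {x w : G} (hx : x ∉ Subgroup.center G)
    (hab : ∀ w ∈ Cz(x), Cz(x) ≤ Cz(w)) (hw : w ∈ Cz(x)) (hwz : w ∉ Subgroup.center G) :
    Cz(w) = Cz(x) :=
  (Cz_eq_of_le h hx hwz (hab w hw)).symm

end ito

section act

variable {G : Type*} [Group G]

/-- if all point stabilizers have index `d`, then `d` divides the number of points -/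
theorem dvd_card_of_index_stab {K β : Type*} [Group K] [Finite K] [MulAction K β] [Finite β]
    (d : ℕ)
    (h : ∀ b : β, (MulAction.stabilizer K b).index = d) : d ∣ Nat.card β := by
  classical
  have := Fintype.ofFinite (Quotient (MulAction.orbitRel K β))
  have e2 := Nat.card_congr (MulAction.selfEquivSigmaOrbitsQuotientStabilizer K β)
  rw [Nat.card_sigma] at e2
  have e3 : ∀ ω : Quotient (MulAction.orbitRel K β),
      Nat.card (K ⧸ MulAction.stabilizer K ω.out) = d := fun ω => h _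
  rw [Finset.sum_congr rfl (fun ω _ => e3 ω), Finset.sum_const, smul_eq_mul] at e2
  exact ⟨_, by rw [e2, mul_comm]⟩

/-- conjugation action of a subgroup on an invariant set -/
@[reducible] def conjActOn (H : Subgroup G) (Ω : Set G) (hΩ : ∀ g ∈ H, ∀ w ∈ Ω, g * w * g⁻¹ ∈ Ω) :
    MulAction ↥H ↥Ω where
  smul g w := ⟨(g : G) * (w : G) * (g : G)⁻¹, hΩ g g.2 w w.2⟩
  one_smul w := Subtype.ext (by show ((1 : H) : G) * (w : G) * ((1 : H) : G)⁻¹ = w; simp)
  mul_smul g k w := Subtype.ext (by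
    show ((g * k : H) : G) * (w : G) * ((g * k : H) : G)⁻¹ =
      (g : G) * ((k : G) * (w : G) * (k : G)⁻¹) * (g : G)⁻¹
    simp [mul_assoc])

/-- ACT: a subgroup `H` acting by conjugation on a finite invariant set, all of whose point
stabilizers are `H ⊓ C`: the index of `H ⊓ C` in `H` divides the size of the set. -/
theorem relIndex_dvd_card_of_conj [Finite G] (H C : Subgroup G) (Ω : Set G)
    (hΩ : ∀ g ∈ H, ∀ w ∈ Ω, g * w * g⁻¹ ∈ Ω)
    (hstab : ∀ g ∈ H, ∀ w ∈ Ω, (g * w * g⁻¹ = w ↔ g ∈ C)) : C.relIndex H ∣ Nat.card Ω := by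
  let _ : MulAction ↥H ↥Ω := conjActOn H Ω hΩ
  refine dvd_card_of_index_stab (K := ↥H) (β := ↥Ω) _ ?_
  intro b
  have : MulAction.stabilizer ↥H b = C.subgroupOf H := by
    ext g
    rw [MulAction.mem_stabilizer_iff, Subgroup.mem_subgroupOf, ← hstab g g.2 b b.2]
    constructor
    · intro e
      exact congrArg Subtype.val e
    · intro e
      exact Subtype.ext e
  rw [this]
  rfl

/-- class size = number of conjugates -/
theorem index_Cz_eq_card_conj [Finite G] (g : G) :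
    (Subgroup.centralizer ({g} : Set G)).index = Nat.card {h : G // IsConj g h} := by
  classical
  have : Fintype G := Fintype.ofFinite G
  have h := MulAction.card_orbit_mul_card_stabilizer_eq_card_group (ConjAct G) g
  rw [← Nat.card_eq_fintype_card, ← Nat.card_eq_fintype_card, ← Nat.card_eq_fintype_card] at h
  have h2 : Nat.card (MulAction.stabilizer (ConjAct G) g) =
      Nat.card (Subgroup.centralizer ({g} : Set G)) := by
    rw [ConjAct.stabilizer_eq_centralizer]
    rfl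
  have h3 : Nat.card (MulAction.orbit (ConjAct G) g) = Nat.card {h : G // IsConj g h} := by
    apply Nat.card_congr
    apply Equiv.subtypeEquivRight
    intro x
    rw [ConjAct.mem_orbit_conjAct]
    exact isConj_comm
  rw [h2, h3] at h
  have h4 := Subgroup.index_mul_card (Subgroup.centralizer ({g} : Set G))
  have hpos : 0 < Nat.card (Subgroup.centralizer ({g} : Set G)) := Nat.card_pos
  have hG : Nat.card (ConjAct G) = Nat.card G := rfl
  rw [hG] at h
  exact Nat.eq_of_mul_eq_mul_right hpos (h4.trans h.symm)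

end act

section ito2

variable {G : Type*} [Group G] [Finite G] {n : ℕ}

local notation "Cz(" x ")" => Subgroup.centralizer ({x} : Set G)

/-- a subgroup of an abelian centralizer acts semiregularly modulo the center on a class
missing the centralizer, so its index over the center divides `n` -/
lemma relIndex_dvd_n (h : TwoSizes G n) {x : G} (hx : x ∉ Subgroup.center G)
    (hab : ∀ w ∈ Cz(x), Cz(x) ≤ Cz(w)) (S : Subgroup G) (hS : S ≤ Cz(x)) :
    (Subgroup.center G).relIndex S ∣ n := by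
  have hD : Cz(x) ≠ ⊤ := by
    intro e
    apply hx
    rw [← index_Cz_eq_one_iff, e, Subgroup.index_top]
  obtain ⟨t, ht⟩ := Cfsg.Agent.Lib.Helper77.exists_not_mem_conj (Cz(x)) hD
  have ht' : ∀ c : G, c * t * c⁻¹ ∉ Cz(x) := by
    intro c hc
    apply ht c⁻¹
    rw [Cfsg.Agent.Lib.Helper77.mem_conj_smul_iff]
    simpa using hc
  have htz : t ∉ Subgroup.center G := by
    intro hc
    apply ht' 1
    have : t ∈ Cz(x) := Subgroup.center_le_centralizer _ hc
    simpa using this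
  have hcard : Nat.card {w : G // IsConj t w} = n := by
    rw [← index_Cz_eq_card_conj, index_of_not_mem h htz]
  rw [← hcard]
  apply relIndex_dvd_card_of_conj S (Subgroup.center G) {w : G | IsConj t w}
  · intro g _ w hw
    exact hw.trans (isConj_iff.2 ⟨g, rfl⟩)
  · intro g hg w hw
    constructor
    · intro e
      by_contra hgz
      have hgD : g ∈ Cz(x) := hS hg
      have h1 : Cz(g) = Cz(x) := Cz_eq_of_mem h hx hab hgD hgz
      have hwg : w ∈ Cz(g) := by
        rw [mem_Cz]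
        have : g * w = w * g := by
          calc g * w = g * w * g⁻¹ * g := by group
            _ = w * g := by rw [e]
        exact this.symm
      rw [h1] at hwg
      obtain ⟨c, hc⟩ := isConj_iff.1 hw
      rw [← hc] at hwg
      exact ht' c hwg
    · intro hgz
      rw [Subgroup.mem_center_iff] at hgz
      rw [← hgz w]
      group

theorem card_comap_mk_aux {X : Type*} [Group X] [Finite X] (N : Subgroup X) [N.Normal]
    (K : Subgroup (X ⧸ N)) :
    Nat.card (K.comap (QuotientGroup.mk' N)) = Nat.card N * Nat.card K := by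
  have h1 := Subgroup.index_comap_of_surjective K (QuotientGroup.mk'_surjective N)
  have h2 := Subgroup.card_mul_index (K.comap (QuotientGroup.mk' N))
  have h3 := Subgroup.card_mul_index K
  have h4 := Subgroup.card_eq_card_quotient_mul_card_subgroup N
  have hpos : 0 < K.index := Nat.pos_of_ne_zero Subgroup.index_ne_zero_of_finite
  rw [h1] at h2
  have : Nat.card (K.comap (QuotientGroup.mk' N)) * K.index =
      (Nat.card N * Nat.card K) * K.index := by
    rw [h2, h4, ← h3]; ring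
  exact Nat.eq_of_mul_eq_mul_right hpos this

theorem card_map_mk_aux {X : Type*} [Group X] [Finite X] (N : Subgroup X) [N.Normal]
    (A : Subgroup X) (h : N ≤ A) :
    Nat.card A = Nat.card N * Nat.card (A.map (QuotientGroup.mk' N)) := by
  rw [← card_comap_mk_aux N (A.map (QuotientGroup.mk' N))]
  rw [Subgroup.comap_map_eq_self]
  rw [QuotientGroup.ker_mk']
  exact h

lemma n_pos (h : TwoSizes G n) {x : G} (hx : x ∉ Subgroup.center G) : 0 < n := by
  rw [← index_of_not_mem h hx]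
  exact Nat.pos_of_ne_zero Subgroup.index_ne_zero_of_finite

/-- F3: a noncentral `r`-element somewhere gives a noncentral `r`-element in every centralizer
of a noncentral element -/
lemma exists_r_elt (h : TwoSizes G n) {r : ℕ} (hr : r.Prime) {x y0 : G}
    (hx : x ∉ Subgroup.center G) (hy0 : y0 ∉ Subgroup.center G)
    (hy0r : ∃ b : ℕ, orderOf y0 = r ^ b) :
    ∃ y ∈ Cz(x), y ∉ Subgroup.center G ∧ ∃ b : ℕ, orderOf y = r ^ b := by
  obtain ⟨b, hb⟩ := hy0r
  have hZx : Subgroup.center G ≤ Cz(x) := Subgroup.center_le_centralizer _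
  have hZy : Subgroup.center G ≤ Cz(y0) := Subgroup.center_le_centralizer _
  have c1 := card_map_mk_aux (Subgroup.center G) (Cz(x)) hZx
  have c2 := card_map_mk_aux (Subgroup.center G) (Cz(y0)) hZy
  have hcard : Nat.card (Cz(x)) = Nat.card (Cz(y0)) := by
    have i1 := Subgroup.card_mul_index (Cz(x))
    have i2 := Subgroup.card_mul_index (Cz(y0))
    rw [index_of_not_mem h hx] at i1
    rw [index_of_not_mem h hy0] at i2
    exact Nat.eq_of_mul_eq_mul_right (n_pos h hx) (i1.trans i2.symm)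
  have hmap : Nat.card ((Cz(x)).map (QuotientGroup.mk' (Subgroup.center G))) =
      Nat.card ((Cz(y0)).map (QuotientGroup.mk' (Subgroup.center G))) := by
    rw [c1, c2] at hcard
    exact Nat.eq_of_mul_eq_mul_left Nat.card_pos hcard
  have hr1 : r ∣ Nat.card ((Cz(y0)).map (QuotientGroup.mk' (Subgroup.center G))) := by
    have hmem : (QuotientGroup.mk' (Subgroup.center G)) y0 ∈
        (Cz(y0)).map (QuotientGroup.mk' (Subgroup.center G)) :=
      Subgroup.mem_map_of_mem _ (mem_Cz.2 rfl)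
    have hd := Subgroup.orderOf_dvd_natCard _ hmem
    have hd2 : orderOf ((QuotientGroup.mk' (Subgroup.center G)) y0) ∣ r ^ b := by
      rw [← hb]; exact orderOf_map_dvd _ y0
    obtain ⟨c, _, hc'⟩ := (Nat.dvd_prime_pow hr).1 hd2
    have hc0 : c ≠ 0 := by
      intro h0
      rw [h0, pow_zero, orderOf_eq_one_iff] at hc'
      exact hy0 ((QuotientGroup.eq_one_iff y0).1 hc')
    exact (dvd_pow_self r hc0).trans (hc' ▸ hd)
  have : Fact r.Prime := ⟨hr⟩
  rw [← hmap] at hr1
  obtain ⟨gbar, hg⟩ := exists_prime_orderOf_dvd_card' r hr1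
  obtain ⟨g, hgC, hgg⟩ := Subgroup.mem_map.1 gbar.2
  have hord : orderOf ((QuotientGroup.mk' (Subgroup.center G)) g) = r := by
    rw [hgg, Subgroup.orderOf_coe, hg]
  obtain ⟨u, v, huv, hu, hv, hur, hvr⟩ := dec' g r hr
  refine ⟨u, zpowers_le_Cz hgC hu, ?_, hur⟩
  intro huz
  have e : (QuotientGroup.mk' (Subgroup.center G)) g =
      (QuotientGroup.mk' (Subgroup.center G)) v := by
    rw [← huv, map_mul]
    have : (QuotientGroup.mk' (Subgroup.center G)) u = 1 := (QuotientGroup.eq_one_iff u).2 huz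
    rw [this, one_mul]
  have hd : orderOf ((QuotientGroup.mk' (Subgroup.center G)) v) ∣ orderOf v :=
    orderOf_map_dvd _ v
  rw [← e, hord] at hd
  exact hr.one_lt.ne' (hvr.symm.eq_one_of_dvd hd)

/-- L4 -/
lemma central_of_not_dvd (h : TwoSizes G n) {q : ℕ} (hq : q.Prime) (hqn : ¬ q ∣ n) {y : G}
    (hy : ∃ a : ℕ, orderOf y = q ^ a) : y ∈ Subgroup.center G := by
  have : Fact q.Prime := ⟨hq⟩
  obtain ⟨D, _, hD2, hD3⟩ := Cfsg.Agent.S4127.thmT (L := G) q (by
    intro z _ hdvd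
    rcases h z with h1 | h1
    · rw [h1] at hdvd; exact hq.one_lt.ne' (Nat.dvd_one.1 hdvd)
    · rw [h1] at hdvd; exact hqn hdvd)
  by_contra hyz
  have hDle : D ≤ Cz(y) := fun d hd => mem_Cz.2 (hD3 d hd y hy)
  have h1 : (Cz(y)).index ∣ D.index := Subgroup.index_dvd_of_le hDle
  rw [index_of_not_mem h hyz] at h1
  have h2 : D.index = q ^ (Nat.card G).factorization q := by
    have := Subgroup.card_mul_index D
    rw [← hD2] at this
    exact Nat.eq_of_mul_eq_mul_left Nat.card_pos this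
  rw [h2] at h1
  obtain ⟨c, _, hc⟩ := (Nat.dvd_prime_pow hq).1 h1
  have hc0 : c = 0 := by
    by_contra hne
    exact hqn (hc ▸ dvd_pow_self q hne)
  rw [hc0, pow_zero] at hc
  have h3 := index_of_not_mem h hyz
  rw [hc, index_Cz_eq_one_iff] at h3
  exact hyz h3

/-- L5 -/
lemma center_sylow_le (h : TwoSizes G n) {q : ℕ} [hq : Fact q.Prime] (Q : Sylow q G) {x0 : G}
    (hx0 : x0 ∉ Subgroup.center G) (hx0q : ∃ a : ℕ, orderOf x0 = q ^ a) {z : G}
    (hzQ : ∀ g ∈ (Q : Subgroup G), g * z = z * g) : z ∈ Subgroup.center G := by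
  by_contra hz
  have hQle : (Q : Subgroup G) ≤ Cz(z) := fun g hg => mem_Cz.2 (hzQ g hg)
  have h1 : (Cz(z)).index ∣ (Q : Subgroup G).index := Subgroup.index_dvd_of_le hQle
  rw [index_of_not_mem h hz] at h1
  have hqn : ¬ q ∣ n := fun hd => Q.not_dvd_index (hd.trans h1)
  exact hx0 (central_of_not_dvd h hq.out hqn hx0q)

/-- a noncentral element of the second center of a nonabelian `q`-group -/
lemma exists_second_center {P : Type*} [Group P] [Finite P] {q : ℕ} [Fact q.Prime]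
    (hP : IsPGroup q P) (hne : Subgroup.center P ≠ ⊤) :
    ∃ z : P, z ∉ Subgroup.center P ∧ ∀ g : P, g * z * g⁻¹ * z⁻¹ ∈ Subgroup.center P := by
  have hnt : Nontrivial (P ⧸ Subgroup.center P) := by
    obtain ⟨x, hx⟩ : ∃ x, x ∉ Subgroup.center P := by
      by_contra hall
      push Not at hall
      exact hne (eq_top_iff.2 fun x _ => hall x)
    exact ⟨⟨QuotientGroup.mk x, 1, fun e => hx ((QuotientGroup.eq_one_iff x).1 e)⟩⟩
  have hQ : IsPGroup q (P ⧸ Subgroup.center P) := hP.to_quotient _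
  have hcnt : Nontrivial (Subgroup.center (P ⧸ Subgroup.center P)) := hQ.center_nontrivial
  obtain ⟨⟨zb, hzb⟩, hzb1⟩ := exists_ne (1 : Subgroup.center (P ⧸ Subgroup.center P))
  obtain ⟨z, rfl⟩ := QuotientGroup.mk_surjective zb
  refine ⟨z, ?_, ?_⟩
  · intro hz
    apply hzb1
    apply Subtype.ext
    exact (QuotientGroup.eq_one_iff z).2 hz
  · intro g
    rw [← QuotientGroup.eq_one_iff]
    have hc := Subgroup.mem_center_iff.1 hzb (QuotientGroup.mk g)
    simp only [QuotientGroup.mk_mul, QuotientGroup.mk_inv]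
    rw [hc]
    group

/-- L6 -/
lemma exists_u (h : TwoSizes G n) {q : ℕ} [hq : Fact q.Prime] (Q : Sylow q G) {x0 : G}
    (hx0 : x0 ∉ Subgroup.center G) (hx0q : ∃ a : ℕ, orderOf x0 = q ^ a)
    (hx0Q : x0 ∈ (Q : Subgroup G)) :
    ∃ u ∈ (Q : Subgroup G), u ∉ Subgroup.center G ∧ (∃ a : ℕ, orderOf u = q ^ a) ∧
      ∀ g ∈ (Q : Subgroup G), g * u * g⁻¹ * u⁻¹ ∈ Subgroup.center G := by
  have hne : Subgroup.center (Q : Subgroup G) ≠ ⊤ := by
    intro e
    apply hx0
    apply center_sylow_le h Q hx0 hx0q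
    intro g hg
    have hm : (⟨x0, hx0Q⟩ : (Q : Subgroup G)) ∈ Subgroup.center (Q : Subgroup G) := by
      rw [e]; trivial
    have := Subgroup.mem_center_iff.1 hm ⟨g, hg⟩
    exact congrArg Subtype.val this
  obtain ⟨z, hz1, hz2⟩ := exists_second_center (P := (Q : Subgroup G)) Q.2 hne
  refine ⟨(z : G), z.2, ?_, ?_, ?_⟩
  · intro hc
    apply hz1
    rw [Subgroup.mem_center_iff]
    intro g
    apply Subtype.ext
    exact Subgroup.mem_center_iff.1 hc (g : G)
  · obtain ⟨k, hk⟩ := Q.2 z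
    have hd : orderOf z ∣ q ^ k := orderOf_dvd_of_pow_eq_one hk
    obtain ⟨a, _, ha⟩ := (Nat.dvd_prime_pow hq.out).1 hd
    exact ⟨a, by rw [Subgroup.orderOf_coe, ha]⟩
  · intro g hg
    have hm := hz2 ⟨g, hg⟩
    apply center_sylow_le h Q hx0 hx0q
    intro k hk
    have := Subgroup.mem_center_iff.1 hm ⟨k, hk⟩
    exact congrArg Subtype.val this

/-- L7 -/
lemma conj_mem_Cz {u g d : G} (hg : g⁻¹ * u * g⁻¹⁻¹ * u⁻¹ ∈ Subgroup.center G)
    (hd : d ∈ Cz(u)) : g * d * g⁻¹ ∈ Cz(u) := by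
  rw [inv_inv] at hg
  have hc := Subgroup.mem_center_iff.1 hg
  rw [mem_Cz] at hd ⊢
  have e1 : g⁻¹ * u * g = (g⁻¹ * u * g * u⁻¹) * u := by group
  have e2 : d * ((g⁻¹ * u * g * u⁻¹) * u) = ((g⁻¹ * u * g * u⁻¹) * u) * d := by
    obtain ⟨c, hcdef⟩ : ∃ c, c = g⁻¹ * u * g * u⁻¹ := ⟨_, rfl⟩
    rw [← hcdef] at hc ⊢
    calc d * (c * u) = (d * c) * u := by rw [mul_assoc]
      _ = (c * d) * u := by rw [hc d]
      _ = c * (d * u) := by rw [mul_assoc]
      _ = c * (u * d) := by rw [hd]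
      _ = c * u * d := by rw [mul_assoc]
  calc g * d * g⁻¹ * u = g * (d * (g⁻¹ * u * g)) * g⁻¹ := by group
    _ = g * ((g⁻¹ * u * g) * d) * g⁻¹ := by rw [e1, e2]
    _ = u * (g * d * g⁻¹) := by group

/-- the `r`-elements of a subgroup with commuting elements -/
def rPart (D : Subgroup G) (hD : ∀ a ∈ D, ∀ b ∈ D, a * b = b * a) (r : ℕ) : Subgroup G where
  carrier := {w | w ∈ D ∧ ∃ k : ℕ, w ^ (r ^ k) = 1}
  one_mem' := ⟨D.one_mem, 0, by simp⟩
  mul_mem' := by
    rintro a b ⟨ha, k, hk⟩ ⟨hb, l, hl⟩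
    refine ⟨D.mul_mem ha hb, k + l, ?_⟩
    rw [(show Commute a b from hD a ha b hb).mul_pow, pow_add, pow_mul, hk, one_pow,
      mul_comm (r ^ k), pow_mul, hl, one_pow, one_mul]
  inv_mem' := by
    rintro a ⟨ha, k, hk⟩
    exact ⟨D.inv_mem ha, k, by rw [inv_pow, hk, inv_one]⟩

lemma relIndex_mul_card_inf (H K : Subgroup G) :
    H.relIndex K * Nat.card (H ⊓ K : Subgroup G) = Nat.card K := by
  have h1 := Subgroup.index_mul_card (H.subgroupOf K)
  have h2 : Nat.card (H.subgroupOf K) = Nat.card (H ⊓ K : Subgroup G) := by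
    rw [← Subgroup.inf_subgroupOf_right]
    exact Nat.card_congr (Subgroup.subgroupOfEquivOfLe inf_le_right).toEquiv
  rw [h2] at h1
  exact h1

/-- KEY inequality -/
lemma key (h : TwoSizes G n) {q r : ℕ} (hq : q.Prime) (hr : r.Prime) (hqr : q ≠ r) {x0 y0 : G}
    (hx0 : x0 ∉ Subgroup.center G) (hx0q : ∃ a : ℕ, orderOf x0 = q ^ a)
    (hy0 : y0 ∉ Subgroup.center G) (hy0r : ∃ b : ℕ, orderOf y0 = r ^ b) :
    q ^ n.factorization q < r ^ n.factorization r := by
  have : Fact q.Prime := ⟨hq⟩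
  have : Fact r.Prime := ⟨hr⟩
  have hn0 : n ≠ 0 := (n_pos h hx0).ne'
  obtain ⟨a0, ha0⟩ := hx0q
  have hzp : IsPGroup q (Subgroup.zpowers x0) :=
    IsPGroup.of_card (n := a0) (by rw [Nat.card_zpowers, ha0])
  obtain ⟨Q, hQ⟩ := hzp.exists_le_sylow
  have hx0Q : x0 ∈ (Q : Subgroup G) := hQ (Subgroup.mem_zpowers x0)
  obtain ⟨u, huQ, huz, huq, hucomm⟩ := exists_u h Q hx0 ⟨a0, ha0⟩ hx0Q
  obtain ⟨y, hyD, hyz, b, hb⟩ := exists_r_elt h hr huz hy0 hy0r
  have hxy : Commute u y := (mem_Cz.1 hyD).symm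
  obtain ⟨hDy, hab⟩ := Cz_comm h hq hr hqr huz hyz huq ⟨b, hb⟩ hxy
  have hDcomm : ∀ a ∈ Cz(u), ∀ b ∈ Cz(u), a * b = b * a :=
    fun a ha b hb => mem_Cz.1 (hab b hb ha)
  obtain ⟨S, hS⟩ : ∃ S : Subgroup G, S = rPart (Cz(u)) hDcomm r := ⟨_, rfl⟩
  have hSmem : ∀ w, w ∈ S ↔ w ∈ Cz(u) ∧ ∃ k : ℕ, w ^ (r ^ k) = 1 := by
    intro w; rw [hS]; rfl
  have hSD : S ≤ Cz(u) := fun w hw => ((hSmem w).1 hw).1
  have hyS : y ∈ S := (hSmem y).2 ⟨hyD, b, by rw [← hb, pow_orderOf_eq_one]⟩
  have hρn := relIndex_dvd_n h huz hab S hSD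
  -- the action
  have hact : (Cz(u)).relIndex (Q : Subgroup G) ∣
      Nat.card {w : G | w ∈ S ∧ w ∉ Subgroup.center G} := by
    apply relIndex_dvd_card_of_conj
    · rintro g hg w ⟨hwS, hwz⟩
      obtain ⟨hwD, k, hk⟩ := (hSmem w).1 hwS
      refine ⟨(hSmem _).2 ⟨conj_mem_Cz (hucomm g⁻¹ (Subgroup.inv_mem _ hg)) hwD, k, ?_⟩, ?_⟩
      · rw [conj_pow, hk]; group
      · intro hc
        apply hwz
        have := (Subgroup.center G).normal_of_characteristic.conj_mem _ hc g⁻¹
        simpa [mul_assoc] using this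
    · rintro g hg w ⟨hwS, hwz⟩
      have hwD : w ∈ Cz(u) := hSD hwS
      have h1 : Cz(w) = Cz(u) := Cz_eq_of_mem h huz hab hwD hwz
      rw [← h1, mem_Cz]
      constructor
      · intro e
        calc g * w = g * w * g⁻¹ * g := by group
          _ = w * g := by rw [e]
      · intro e
        rw [e]; group
  -- arithmetic
  have hSp : IsPGroup r S := by
    intro w
    obtain ⟨_, k, hk⟩ := (hSmem w).1 w.2
    exact ⟨k, Subtype.ext (by simpa using hk)⟩
  obtain ⟨a, ha⟩ := IsPGroup.iff_card.1 hSp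
  have hZSp : IsPGroup r (Subgroup.center G ⊓ S : Subgroup G) := hSp.to_le inf_le_right
  obtain ⟨b', hb'⟩ := IsPGroup.iff_card.1 hZSp
  have hA4 := relIndex_mul_card_inf (Subgroup.center G) S
  have hA6 := relIndex_mul_card_inf (Cz(u)) (Q : Subgroup G)
  have hA3 : Nat.card {w : G | w ∈ S ∧ w ∉ Subgroup.center G} +
      Nat.card (Subgroup.center G ⊓ S : Subgroup G) = Nat.card S := by
    have e1 : {w : G | w ∈ S ∧ w ∉ Subgroup.center G} =
        (S : Set G) \ ((Subgroup.center G ⊓ S : Subgroup G) : Set G) := by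
      ext w
      simp only [Set.mem_ofPred_eq, Set.mem_sdiff, SetLike.mem_coe, Subgroup.mem_inf]
      tauto
    have e2 : ((Subgroup.center G ⊓ S : Subgroup G) : Set G) ⊆ (S : Set G) := by
      intro w hw
      exact (Subgroup.mem_inf.1 hw).2
    have e3 := Set.ncard_sdiff_add_ncard_of_subset e2 (Set.toFinite _)
    rw [← e1] at e3
    rw [Nat.card_coe_set_eq]
    have e4 : Nat.card (Subgroup.center G ⊓ S : Subgroup G) =
        ((Subgroup.center G ⊓ S : Subgroup G) : Set G).ncard :=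
      Nat.card_coe_set_eq _
    have e5 : Nat.card S = (S : Set G).ncard := Nat.card_coe_set_eq _
    rw [e4, e5]
    exact e3
  -- set names
  obtain ⟨ℓ, hℓ⟩ : ∃ ℓ, ℓ = (Cz(u)).relIndex (Q : Subgroup G) := ⟨_, rfl⟩
  obtain ⟨ρ, hρ⟩ : ∃ ρ, ρ = (Subgroup.center G).relIndex S := ⟨_, rfl⟩
  obtain ⟨ω, hω⟩ : ∃ ω, ω = Nat.card {w : G | w ∈ S ∧ w ∉ Subgroup.center G} := ⟨_, rfl⟩
  rw [← hℓ] at hact hA6
  rw [← hρ] at hρn hA4
  rw [← hω] at hact hA3
  rw [ha, hb'] at hA4
  rw [ha, hb'] at hA3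
  rw [Q.card_eq_multiplicity] at hA6
  -- ρ ≠ 1
  have hρ1 : ρ ≠ 1 := by
    intro e
    rw [hρ, Subgroup.relIndex_eq_one] at e
    exact hyz (e hyS)
  have hρ0 : ρ ≠ 0 := by
    intro e
    rw [e, zero_mul] at hA4
    exact (pow_pos hr.pos a).ne hA4
  -- ρ is a power of r bounded by the r-part of n
  have hρle : ρ ≤ r ^ n.factorization r := by
    have hd : ρ ∣ r ^ a := ⟨_, hA4.symm⟩
    obtain ⟨j, _, hj⟩ := (Nat.dvd_prime_pow hr).1 hd
    rw [hj] at hρn ⊢
    exact Nat.pow_le_pow_right hr.pos ((hr.pow_dvd_iff_le_factorization hn0).1 hρn)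
  -- ℓ is a q-power at least the q-part of n
  have hℓd : ℓ ∣ q ^ (Nat.card G).factorization q := ⟨_, hA6.symm⟩
  obtain ⟨c, _, hc⟩ := (Nat.dvd_prime_pow hq).1 hℓd
  have hed : Nat.card (Cz(u) ⊓ (Q : Subgroup G) : Subgroup G) ∣
      q ^ (Nat.card G).factorization q := ⟨_, by rw [← hA6, mul_comm]⟩
  obtain ⟨e, _, he⟩ := (Nat.dvd_prime_pow hq).1 hed
  have hce : c + e = (Nat.card G).factorization q := by
    rw [hc, he, ← pow_add] at hA6
    exact Nat.pow_right_injective hq.two_le hA6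
  have hcardD0 : Nat.card (Cz(u)) ≠ 0 := Nat.card_pos.ne'
  have hele : e ≤ (Nat.card (Cz(u))).factorization q := by
    have : q ^ e ∣ Nat.card (Cz(u)) := by
      rw [← he]
      exact Subgroup.card_dvd_of_le inf_le_left
    exact (hq.pow_dvd_iff_le_factorization hcardD0).1 this
  have hfac : (Nat.card G).factorization q =
      (Nat.card (Cz(u))).factorization q + n.factorization q := by
    have := Subgroup.card_mul_index (Cz(u))
    rw [index_of_not_mem h huz] at this
    rw [← this, Nat.factorization_mul hcardD0 hn0]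
    rfl
  have hℓge : q ^ n.factorization q ≤ ℓ := by
    rw [hc]
    apply Nat.pow_le_pow_right hq.pos
    omega
  -- ℓ ∣ ρ - 1
  have hcop : Nat.Coprime ℓ (r ^ b') := by
    rw [hc]; exact coprime_of_prime_pow hq hr hqr
  have hω' : ω = r ^ b' * (ρ - 1) := by
    have h1 : 1 ≤ ρ := Nat.one_le_iff_ne_zero.2 hρ0
    have : r ^ b' * (ρ - 1) + r ^ b' = r ^ a := by
      rw [← hA4]
      have : ρ = (ρ - 1) + 1 := by omega
      conv_rhs => rw [this]
      ring
    omega
  rw [hω'] at hact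
  have hℓρ : ℓ ∣ ρ - 1 := hcop.dvd_of_dvd_mul_left hact
  have hρpos : 0 < ρ - 1 := by omega
  have := Nat.le_of_dvd hρpos hℓρ
  omega

/-- a prime dividing the index of the center gives a noncentral element of prime power order -/
lemma exists_noncentral_of_dvd {s : ℕ} (hs : s.Prime) (hd : s ∣ (Subgroup.center G).index) :
    ∃ x : G, x ∉ Subgroup.center G ∧ ∃ a : ℕ, orderOf x = s ^ a := by
  have : Fact s.Prime := ⟨hs⟩
  by_contra hall
  push Not at hall
  obtain ⟨S⟩ : Nonempty (Sylow s G) := inferInstance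
  have hle : (S : Subgroup G) ≤ Subgroup.center G := by
    intro x hx
    by_contra hxz
    obtain ⟨k, hk⟩ := S.2 ⟨x, hx⟩
    have hd : orderOf x ∣ s ^ k :=
      orderOf_dvd_of_pow_eq_one (by simpa using congrArg Subtype.val hk)
    obtain ⟨a, _, ha⟩ := (Nat.dvd_prime_pow hs).1 hd
    exact hall x hxz a ha
  exact S.not_dvd_index (hd.trans (Subgroup.index_dvd_of_le hle))

/-- **Itô**: with two class sizes the central quotient is a group of prime power order -/
theorem index_center_prime_pow (h : TwoSizes G n) :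
    ∃ p : ℕ, p.Prime ∧ ∃ k : ℕ, (Subgroup.center G).index = p ^ k := by
  by_cases h1 : (Subgroup.center G).index = 1
  · exact ⟨2, Nat.prime_two, 0, by rw [h1, pow_zero]⟩
  have hq : ((Subgroup.center G).index.minFac).Prime := Nat.minFac_prime h1
  have hqd : (Subgroup.center G).index.minFac ∣ (Subgroup.center G).index := Nat.minFac_dvd _
  refine ⟨_, hq, ?_⟩
  by_contra hne
  have hex : ∃ r : ℕ, r.Prime ∧ r ∣ (Subgroup.center G).index ∧
      r ≠ (Subgroup.center G).index.minFac := by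
    by_contra hall
    push Not at hall
    apply hne
    exact ⟨_, Nat.eq_prime_pow_of_unique_prime_dvd Subgroup.index_ne_zero_of_finite
      (fun {d} hd hdd => hall d hd hdd)⟩
  obtain ⟨r, hr, hrd, hrq⟩ := hex
  obtain ⟨x0, hx0, hx0q⟩ := exists_noncentral_of_dvd hq hqd
  obtain ⟨y0, hy0, hy0r⟩ := exists_noncentral_of_dvd hr hrd
  have k1 := key h hq hr (Ne.symm hrq) hx0 hx0q hy0 hy0r
  have k2 := key h hr hq hrq hy0 hy0r hx0 hx0q
  exact lt_asymm k1 k2

lemma central_of_coprime {p k : ℕ} (hZ : (Subgroup.center G).index = p ^ k) {x : G}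
    (hx : (orderOf x).Coprime p) : x ∈ Subgroup.center G := by
  have h1 : x ^ (p ^ k) ∈ Subgroup.center G := by
    rw [← hZ]; exact Subgroup.pow_index_mem _ x
  obtain ⟨m, hm⟩ := exists_pow_eq_self_of_coprime (x := x) (n := p ^ k) (hx.symm.pow_left k)
  rw [← hm]
  exact Subgroup.pow_mem _ h1 m

/-- **Itô**, structural form -/
theorem ito_structure (h : TwoSizes G n) {x0 : G} (hx0 : x0 ∉ Subgroup.center G) :
    ∃ p : ℕ, p.Prime ∧ (∃ a : ℕ, n = p ^ a) ∧
      (∀ x : G, (orderOf x).Coprime p → x ∈ Subgroup.center G) ∧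
      ∃ k : ℕ, (Subgroup.center G).index = p ^ k := by
  obtain ⟨p, hp, k, hk⟩ := index_center_prime_pow h
  refine ⟨p, hp, ?_, fun x hx => central_of_coprime hk hx, k, hk⟩
  have hd : (Cz(x0)).index ∣ (Subgroup.center G).index :=
    Subgroup.index_dvd_of_le (Subgroup.center_le_centralizer _)
  rw [index_of_not_mem h hx0, hk] at hd
  obtain ⟨a, _, ha⟩ := (Nat.dvd_prime_pow hp).1 hd
  exact ⟨a, ha⟩

end ito2

end Cfsg.Agent.Lib.Helper73
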