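import Mathlib
import Cfsg.Agent.Lib.Helper73.Ito
import Cfsg.Agent.Lib.Helper01.Basic

set_option autoImplicit false
set_option linter.unusedSectionVars false

/-!
General lemmas on centralizers and class sizes used for the Bertram--Herzog--Mann theorem on
groups whose two largest class sizes are coprime.
-/

namespace Cfsg.Agent.Lib.Helper73

section basic

variable {G : Type*} [Group G]

local notation "Cz(" x ")" => Subgroup.centralizer ({x} : Set G)

lemma self_mem_Cz (x : G) : x ∈ Cz(x) := mem_Cz.2 rfl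

lemma Cz_mul_central (g : G) {z : G} (hz : z ∈ Subgroup.center G) : Cz(g * z) = Cz(g) := by
  have hzc := Subgroup.mem_center_iff.1 hz
  ext a
  rw [mem_Cz, mem_Cz]
  constructor
  · intro e
    have e2 : a * g * z = g * a * z := by
      calc a * g * z = a * (g * z) := by group
        _ = g * z * a := e
        _ = g * (z * a) := by group
        _ = g * (a * z) := by rw [hzc a]
        _ = g * a * z := by group
    exact mul_right_cancel e2
  · intro e
    calc a * (g * z) = (a * g) * z := by group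
      _ = (g * a) * z := by rw [e]
      _ = g * (a * z) := by group
      _ = g * (z * a) := by rw [hzc a]
      _ = g * z * a := by group

lemma center_le_Cz (g : G) : Subgroup.center G ≤ Cz(g) := Subgroup.center_le_centralizer _

/-- the class size is a class function -/
lemma index_Cz_conj [Finite G] (g h : G) : (Cz(h * g * h⁻¹)).index = (Cz(g)).index := by
  rw [index_Cz_eq_card_conj, index_Cz_eq_card_conj]
  apply Nat.card_congr
  apply Equiv.subtypeEquivRight
  intro w
  have hc : IsConj g (h * g * h⁻¹) := isConj_iff.2 ⟨h, rfl⟩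
  constructor
  · intro e
    exact hc.trans e
  · intro e
    exact hc.symm.trans e

lemma index_Cz_of_isConj [Finite G] {g w : G} (h : IsConj g w) : (Cz(w)).index = (Cz(g)).index := by
  obtain ⟨c, hc⟩ := isConj_iff.1 h
  rw [← hc, index_Cz_conj]

/-- centralizer of a product of commuting elements of coprime orders -/
lemma Cz_mul_of_coprime {a b : G} (hab : Commute a b) (hcop : (orderOf a).Coprime (orderOf b)) :
    Cz(a * b) = Cz(a) ⊓ Cz(b) := by
  apply le_antisymm
  · intro g hg
    rw [mem_Cz] at hg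
    have := Cfsg.Agent.S4127.comm_of_comm_mul a b g hab hcop hg
    exact Subgroup.mem_inf.2 ⟨mem_Cz.2 this.1, mem_Cz.2 this.2⟩
  · intro g hg
    obtain ⟨h1, h2⟩ := Subgroup.mem_inf.1 hg
    rw [mem_Cz] at h1 h2 ⊢
    rw [← mul_assoc, h1, mul_assoc, h2, mul_assoc]

/-- powers of an element centralize whatever the element centralizes -/
lemma Cz_le_Cz_of_mem_zpowers {x u : G} (hu : u ∈ Subgroup.zpowers x) : Cz(x) ≤ Cz(u) := by
  intro g hg
  rw [mem_Cz] at hg ⊢
  obtain ⟨k, rfl⟩ := Subgroup.mem_zpowers_iff.1 hu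
  exact ((Commute.zpow_right (show Commute g x from hg) k)).eq

end basic

section index

variable {G : Type*} [Group G] [Finite G]

lemma relIndex_le_index' (H K : Subgroup G) : H.relIndex K ≤ H.index := by
  rw [← Subgroup.relIndex_top_right]
  apply Subgroup.relIndex_le_of_le_right le_top
  rw [Subgroup.relIndex_top_right]
  exact Subgroup.index_ne_zero_of_finite

/-- coprime indices: the relative index is the index -/
lemma relIndex_eq_index_of_coprime (H K : Subgroup G) (h : H.index.Coprime K.index) :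
    H.relIndex K = H.index := by
  have h1 : (H ⊓ K).relIndex K * K.index = (H ⊓ K).index := Subgroup.relIndex_mul_index inf_le_right
  have h2 : (H ⊓ K).relIndex H * H.index = (H ⊓ K).index := Subgroup.relIndex_mul_index inf_le_left
  rw [Subgroup.inf_relIndex_right] at h1
  have hd : H.index ∣ H.relIndex K * K.index := by
    rw [h1, ← h2]
    exact dvd_mul_left _ _
  have hd2 : H.index ∣ H.relIndex K := h.dvd_of_dvd_mul_right hd
  have hpos : 0 < H.relIndex K := by
    apply Nat.pos_of_ne_zero
    intro h0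
    rw [h0, zero_mul] at h1
    exact Subgroup.index_ne_zero_of_finite h1.symm
  exact le_antisymm (relIndex_le_index' H K) (Nat.le_of_dvd hpos hd2)

lemma index_inf_of_coprime (H K : Subgroup G) (h : H.index.Coprime K.index) :
    (H ⊓ K).index = H.index * K.index := by
  have h1 : (H ⊓ K).relIndex K * K.index = (H ⊓ K).index := Subgroup.relIndex_mul_index inf_le_right
  rw [Subgroup.inf_relIndex_right, relIndex_eq_index_of_coprime H K h] at h1
  exact h1.symm

/-- for a normal subgroup `N`, the index of `H ⊓ N` in `N` divides the index of `H` -/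
lemma relIndex_dvd_index_of_normal_right (H N : Subgroup G) [N.Normal] :
    H.relIndex N ∣ H.index := by
  have h1 := Cfsg.Agent.Lib.Helper01.card_sup_mul_card_inf N H
  have h2 := relIndex_mul_card_inf H N
  have h3 : Nat.card (H ⊔ N : Subgroup G) = H.relIndex N * Nat.card H := by
    have hpos : 0 < Nat.card (N ⊓ H : Subgroup G) := Nat.card_pos
    have : Nat.card (H ⊔ N : Subgroup G) * Nat.card (N ⊓ H : Subgroup G) =
        (H.relIndex N * Nat.card H) * Nat.card (N ⊓ H : Subgroup G) := by
      rw [h1, ← h2, inf_comm]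
      ring
    exact Nat.eq_of_mul_eq_mul_right hpos this
  have h4 : Nat.card (H ⊔ N : Subgroup G) ∣ Nat.card G := Subgroup.card_subgroup_dvd_card _
  rw [h3, ← Subgroup.index_mul_card H] at h4
  exact Nat.dvd_of_mul_dvd_mul_right Nat.card_pos h4

local notation "Cz(" x ")" => Subgroup.centralizer ({x} : Set G)

/-- a normal subgroup whose order is coprime to the class size of `c` centralizes `c` -/
lemma normal_le_Cz_of_coprime (N : Subgroup G) [N.Normal] (c : G)
    (h : (Nat.card N).Coprime (Cz(c)).index) : N ≤ Cz(c) := by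
  have h1 : (Cz(c)).relIndex N ∣ Nat.card N := Subgroup.relIndex_dvd_card _ _
  have h2 : (Cz(c)).relIndex N ∣ (Cz(c)).index := relIndex_dvd_index_of_normal_right _ N
  have h3 : (Cz(c)).relIndex N = 1 := Nat.eq_one_of_dvd_coprimes h h1 h2
  exact Subgroup.relIndex_eq_one.1 h3

end index

section orbits

variable {G : Type*} [Group G] [Finite G]

local notation "Cz(" x ")" => Subgroup.centralizer ({x} : Set G)

/-- coprime class sizes: the centralizer of `a` is transitive on the class of `b` -/
lemma exists_mem_Cz_conj_eq {a b : G} (hcop : (Cz(a)).index.Coprime (Cz(b)).index) (g : G) :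
    ∃ h ∈ Cz(a), h * b * h⁻¹ = g * b * g⁻¹ := by
  have hΩ : ∀ k ∈ Cz(a), ∀ w ∈ {w : G | IsConj b w}, k * w * k⁻¹ ∈ {w : G | IsConj b w} := by
    intro k _ w hw
    exact (show IsConj b w from hw).trans (isConj_iff.2 ⟨k, rfl⟩)
  let _ : MulAction ↥(Cz(a)) ↥{w : G | IsConj b w} := conjActOn (Cz(a)) {w : G | IsConj b w} hΩ
  have hb : b ∈ {w : G | IsConj b w} := IsConj.refl b
  have hstab : MulAction.stabilizer ↥(Cz(a)) (⟨b, hb⟩ : ↥{w : G | IsConj b w}) =
      (Cz(b)).subgroupOf (Cz(a)) := by
    ext k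
    rw [MulAction.mem_stabilizer_iff, Subgroup.mem_subgroupOf, mem_Cz]
    constructor
    · intro e
      have e' : (k : G) * b * (k : G)⁻¹ = b := congrArg Subtype.val e
      calc (k : G) * b = (k : G) * b * (k : G)⁻¹ * (k : G) := by group
        _ = b * (k : G) := by rw [e']
    · intro e
      apply Subtype.ext
      show (k : G) * b * (k : G)⁻¹ = b
      rw [e]; group
  have h1 := MulAction.index_stabilizer ↥(Cz(a)) (⟨b, hb⟩ : ↥{w : G | IsConj b w})
  rw [hstab] at h1
  have h2 : ((Cz(b)).subgroupOf (Cz(a))).index = (Cz(b)).index :=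
    relIndex_eq_index_of_coprime (Cz(b)) (Cz(a)) hcop.symm
  rw [h2, index_Cz_eq_card_conj] at h1
  have h3 : MulAction.orbit ↥(Cz(a)) (⟨b, hb⟩ : ↥{w : G | IsConj b w}) = Set.univ := by
    rw [Set.eq_univ_iff_ncard]
    exact h1.symm
  have hg : (⟨g * b * g⁻¹, isConj_iff.2 ⟨g, rfl⟩⟩ : ↥{w : G | IsConj b w}) ∈
      MulAction.orbit ↥(Cz(a)) (⟨b, hb⟩ : ↥{w : G | IsConj b w}) := by
    rw [h3]; trivial
  obtain ⟨k, hk⟩ := hg
  exact ⟨k, k.2, congrArg Subtype.val hk⟩

/-- coprime class sizes: products of conjugates are conjugate to the product -/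
lemma isConj_mul_conj_right {a b : G} (hcop : (Cz(a)).index.Coprime (Cz(b)).index) (g : G) :
    IsConj (a * b) (a * (g * b * g⁻¹)) := by
  obtain ⟨h, hh, e⟩ := exists_mem_Cz_conj_eq hcop g
  rw [← e, isConj_iff]
  refine ⟨h, ?_⟩
  have : h * a = a * h := mem_Cz.1 hh
  calc h * (a * b) * h⁻¹ = (h * a) * b * h⁻¹ := by group
    _ = a * h * b * h⁻¹ := by rw [this]
    _ = a * (h * b * h⁻¹) := by group

lemma isConj_mul_conj_left {a b : G} (hcop : (Cz(a)).index.Coprime (Cz(b)).index) (g : G) :
    IsConj (a * b) ((g * a * g⁻¹) * b) := by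
  obtain ⟨h, hh, e⟩ := exists_mem_Cz_conj_eq hcop.symm g
  rw [← e, isConj_iff]
  refine ⟨h, ?_⟩
  have : h * b = b * h := mem_Cz.1 hh
  calc h * (a * b) * h⁻¹ = h * a * (b * h⁻¹) := by group
    _ = h * a * (h⁻¹ * (h * b) * h⁻¹) := by group
    _ = h * a * (h⁻¹ * (b * h) * h⁻¹) := by rw [this]
    _ = (h * a * h⁻¹) * b := by group

/-- if the class of `a * u` is not bigger than the class of `a` (coprime class sizes), then
`a` is conjugate to `a * u * (g u g⁻¹)⁻¹` -/
lemma isConj_mul_commutator {a u : G} (hcop : (Cz(a)).index.Coprime (Cz(u)).index)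
    (hle : (Cz(a * u)).index ≤ (Cz(a)).index) (g : G) :
    IsConj a (a * (u * (g * u * g⁻¹)⁻¹)) := by
  have hu' : (Cz(g * u * g⁻¹)).index = (Cz(u)).index := index_Cz_conj u g
  have hcop' : (Cz(a)).index.Coprime (Cz(g * u * g⁻¹)).index := by rw [hu']; exact hcop
  -- the map `w ↦ w * u'` from the class of `a` to the class of `a * u`
  have hwd : ∀ w : {w : G // IsConj a w}, IsConj (a * u) ((w : G) * (g * u * g⁻¹)) := by
    intro w
    obtain ⟨c, hc⟩ := isConj_iff.1 w.2
    have h1 : IsConj (a * (g * u * g⁻¹)) ((w : G) * (g * u * g⁻¹)) := by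
      rw [← hc]; exact isConj_mul_conj_left hcop' c
    exact (isConj_mul_conj_right hcop g).trans h1
  let φ : {w : G // IsConj a w} → {w : G // IsConj (a * u) w} :=
    fun w => ⟨(w : G) * (g * u * g⁻¹), hwd w⟩
  have hinj : Function.Injective φ := by
    intro w w' e
    have e' : (w : G) * (g * u * g⁻¹) = (w' : G) * (g * u * g⁻¹) := congrArg Subtype.val e
    exact Subtype.ext (mul_right_cancel e')
  have hcard : Nat.card {w : G // IsConj (a * u) w} ≤ Nat.card {w : G // IsConj a w} := by
    rw [← index_Cz_eq_card_conj, ← index_Cz_eq_card_conj]; exact hle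
  have hsurj : Function.Surjective φ :=
    (Function.Injective.bijective_of_nat_card_le hinj hcard).2
  obtain ⟨w, hw⟩ := hsurj ⟨a * u, IsConj.refl _⟩
  have hw' : (w : G) * (g * u * g⁻¹) = a * u := congrArg Subtype.val hw
  have : a * (u * (g * u * g⁻¹)⁻¹) = (w : G) := by
    rw [← mul_assoc, ← hw']; group
  rw [this]
  exact w.2

end orbits

section commSub

variable {G : Type*} [Group G]

/-- the subgroup generated by the elements `u * (g u g⁻¹)⁻¹` for `u` satisfying `P` -/
def commSub (P : G → Prop) : Subgroup G :=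
  Subgroup.closure {k : G | ∃ u g : G, P u ∧ k = u * (g * u * g⁻¹)⁻¹}

lemma mem_commSub {P : G → Prop} {u : G} (hu : P u) (g : G) :
    u * (g * u * g⁻¹)⁻¹ ∈ commSub P :=
  Subgroup.subset_closure ⟨u, g, hu, rfl⟩

lemma commSub_normal (P : G → Prop) (hP : ∀ u h : G, P u → P (h * u * h⁻¹)) :
    (commSub P).Normal := by
  refine ⟨fun k hk h => ?_⟩
  induction hk using Subgroup.closure_induction with
  | mem k hk =>
    obtain ⟨u, g, hu, rfl⟩ := hk
    have : h * (u * (g * u * g⁻¹)⁻¹) * h⁻¹ =
        (h * u * h⁻¹) * ((h * g * h⁻¹) * (h * u * h⁻¹) * (h * g * h⁻¹)⁻¹)⁻¹ := by group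
    rw [this]
    exact mem_commSub (hP u h hu) _
  | one => simp
  | mul a b _ _ ha hb =>
    have : h * (a * b) * h⁻¹ = (h * a * h⁻¹) * (h * b * h⁻¹) := by group
    rw [this]
    exact Subgroup.mul_mem _ ha hb
  | inv a _ ha =>
    have : h * a⁻¹ * h⁻¹ = (h * a * h⁻¹)⁻¹ := by group
    rw [this]
    exact Subgroup.inv_mem _ ha

/-- right multiplication by elements of `commSub P` preserves the class of `a` -/
lemma isConj_mul_of_mem_commSub [Finite G] {P : G → Prop} (a : G)
    (h : ∀ w : G, IsConj a w → ∀ u g : G, P u → IsConj w (w * (u * (g * u * g⁻¹)⁻¹))) :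
    ∀ k ∈ commSub P, ∀ w : G, IsConj a w → IsConj a (w * k) := by
  intro k hk
  induction hk using Subgroup.closure_induction with
  | mem k hk =>
    obtain ⟨u, g, hu, rfl⟩ := hk
    intro w hw
    exact hw.trans (h w hw u g hu)
  | one => intro w hw; simpa using hw
  | mul k1 k2 _ _ h1 h2 =>
    intro w hw
    rw [← mul_assoc]
    exact h2 _ (h1 w hw)
  | inv k _ hk =>
    intro w hw
    let φ : {w : G // IsConj a w} → {w : G // IsConj a w} := fun w => ⟨(w : G) * k, hk w w.2⟩
    have hinj : Function.Injective φ := by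
      intro w w' e
      have e' : (w : G) * k = (w' : G) * k := congrArg Subtype.val e
      exact Subtype.ext (mul_right_cancel e')
    obtain ⟨w', hw'⟩ := Finite.surjective_of_injective hinj ⟨w, hw⟩
    have e : (w' : G) * k = w := congrArg Subtype.val hw'
    have : w * k⁻¹ = (w' : G) := by rw [← e]; group
    rw [this]
    exact w'.2

/-- a subgroup stabilizing a finite set under right multiplication has order dividing the
size of the set -/
lemma card_dvd_of_mul_stable [Finite G] (K : Subgroup G) (Ω : Set G)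
    (h : ∀ w ∈ Ω, ∀ k ∈ K, w * k ∈ Ω) : Nat.card K ∣ Nat.card Ω := by
  let act : MulAction ↥K ↥Ω :=
    { smul := fun k w => ⟨(w : G) * (k : G)⁻¹, h w w.2 _ (K.inv_mem k.2)⟩
      one_smul := fun w => Subtype.ext (by
        show (w : G) * ((1 : K) : G)⁻¹ = w
        simp)
      mul_smul := fun k k' w => Subtype.ext (by
        show (w : G) * ((k * k' : K) : G)⁻¹ = (w : G) * (k' : G)⁻¹ * (k : G)⁻¹
        simp [mul_assoc]) }
  refine dvd_card_of_index_stab (K := ↥K) (β := ↥Ω) _ ?_
  intro b
  have : MulAction.stabilizer ↥K b = ⊥ := by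
    rw [eq_bot_iff]
    intro k hk
    rw [MulAction.mem_stabilizer_iff] at hk
    have e : (b : G) * (k : G)⁻¹ = b := congrArg Subtype.val hk
    rw [Subgroup.mem_bot]
    apply Subtype.ext
    have : (k : G)⁻¹ = 1 := mul_left_cancel (a := (b : G)) (by rw [e, mul_one])
    simpa using this
  rw [this, Subgroup.index_bot]

end commSub

section parts

lemma coprime_div_gcd_pow (o N : ℕ) (ho : o ≠ 0) (hN : N ≠ 0) :
    (o / Nat.gcd o (N ^ o)).Coprime N := by
  apply Nat.coprime_of_dvd
  intro q hq hqe hqN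
  have hd0 : Nat.gcd o (N ^ o) ≠ 0 := Nat.gcd_ne_zero_left ho
  have hdo : Nat.gcd o (N ^ o) ∣ o := Nat.gcd_dvd_left _ _
  have hmul : o / Nat.gcd o (N ^ o) * Nat.gcd o (N ^ o) = o := Nat.div_mul_cancel hdo
  have he0 : o / Nat.gcd o (N ^ o) ≠ 0 := by
    intro h; rw [h, zero_mul] at hmul; exact ho hmul.symm
  have hN0 : N ^ o ≠ 0 := pow_ne_zero _ hN
  have h1 : o.factorization q =
      (o / Nat.gcd o (N ^ o)).factorization q + (Nat.gcd o (N ^ o)).factorization q := by
    conv_lhs => rw [← hmul]
    rw [Nat.factorization_mul he0 hd0]; rfl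
  have h2 : (Nat.gcd o (N ^ o)).factorization q = min (o.factorization q) ((N ^ o).factorization q) := by
    rw [Nat.factorization_gcd ho hN0]; rfl
  have h3 : (N ^ o).factorization q = o * N.factorization q := by
    rw [Nat.factorization_pow]; rfl
  have h4 : 1 ≤ N.factorization q := (hq.dvd_iff_one_le_factorization hN).1 hqN
  have h5 : 1 ≤ (o / Nat.gcd o (N ^ o)).factorization q := (hq.dvd_iff_one_le_factorization he0).1 hqe
  have h6 : o.factorization q < o := Nat.factorization_lt q ho
  have h7 : o ≤ o * N.factorization q := Nat.le_mul_of_pos_right o h4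
  rw [h3] at h2
  have : min (o.factorization q) (o * N.factorization q) = o.factorization q := min_eq_left (by omega)
  omega

/-- decomposition of an element into its `N'`-part and its `N`-part -/
lemma decN {G : Type*} [Group G] [Finite G] (x : G) (N : ℕ) (hN : N ≠ 0) :
    ∃ u v : G, u * v = x ∧ u ∈ Subgroup.zpowers x ∧ v ∈ Subgroup.zpowers x ∧
      (orderOf u).Coprime N ∧ ∀ M : ℕ, M.Coprime N → (orderOf v).Coprime M := by
  have ho : orderOf x ≠ 0 := (orderOf_pos x).ne'
  obtain ⟨d, hd⟩ : ∃ d, d = Nat.gcd (orderOf x) (N ^ orderOf x) := ⟨_, rfl⟩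
  obtain ⟨e, he⟩ : ∃ e, e = orderOf x / d := ⟨_, rfl⟩
  have hdo : d ∣ orderOf x := hd ▸ Nat.gcd_dvd_left _ _
  have hdN : d ∣ N ^ orderOf x := hd ▸ Nat.gcd_dvd_right _ _
  have hmul : e * d = orderOf x := by rw [he]; exact Nat.div_mul_cancel hdo
  have heN : e.Coprime N := by rw [he, hd]; exact coprime_div_gcd_pow _ _ ho hN
  have hed : e.Coprime d := Nat.Coprime.coprime_dvd_right hdN (heN.pow_right _)
  have hbez := Nat.gcd_eq_gcd_ab e d
  rw [hed.gcd_eq_one] at hbez
  refine ⟨x ^ ((d : ℤ) * Nat.gcdB e d), x ^ ((e : ℤ) * Nat.gcdA e d), ?_,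
    Subgroup.zpow_mem_zpowers x _, Subgroup.zpow_mem_zpowers x _, ?_, ?_⟩
  · rw [← zpow_add]
    conv_rhs => rw [← zpow_one x]
    congr 1
    rw [Nat.cast_one] at hbez
    linarith
  · have h1 : (x ^ ((d : ℤ) * Nat.gcdB e d)) ^ e = 1 := by
      rw [← zpow_natCast, ← zpow_mul]
      have : (d : ℤ) * Nat.gcdB e d * (e : ℤ) = ((orderOf x : ℕ) : ℤ) * Nat.gcdB e d := by
        rw [← hmul]; push_cast; ring
      rw [this, zpow_mul, zpow_natCast, pow_orderOf_eq_one, one_zpow]
    exact Nat.Coprime.coprime_dvd_left (orderOf_dvd_of_pow_eq_one h1) heN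
  · intro M hM
    have h1 : (x ^ ((e : ℤ) * Nat.gcdA e d)) ^ d = 1 := by
      rw [← zpow_natCast, ← zpow_mul]
      have : (e : ℤ) * Nat.gcdA e d * (d : ℤ) = ((orderOf x : ℕ) : ℤ) * Nat.gcdA e d := by
        rw [← hmul]; push_cast; ring
      rw [this, zpow_mul, zpow_natCast, pow_orderOf_eq_one, one_zpow]
    have h2 : orderOf (x ^ ((e : ℤ) * Nat.gcdA e d)) ∣ N ^ orderOf x :=
      (orderOf_dvd_of_pow_eq_one h1).trans hdN
    exact Nat.Coprime.coprime_dvd_left h2 ((hM.symm).pow_left _)

variable {G : Type*} [Group G] [Finite G]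

local notation "Cz(" x ")" => Subgroup.centralizer ({x} : Set G)

/-- coprime class sizes: the class of the product is at least as big as each class -/
lemma index_le_index_mul {a b : G} (hcop : (Cz(a)).index.Coprime (Cz(b)).index) :
    (Cz(b)).index ≤ (Cz(a * b)).index := by
  rw [index_Cz_eq_card_conj, index_Cz_eq_card_conj]
  let φ : {w : G // IsConj b w} → {w : G // IsConj (a * b) w} := fun w =>
    ⟨a * (w : G), by
      obtain ⟨c, hc⟩ := isConj_iff.1 w.2
      rw [← hc]
      exact isConj_mul_conj_right hcop c⟩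
  apply Nat.card_le_card_of_injective φ
  intro w w' e
  have e' : a * (w : G) = a * (w' : G) := congrArg Subtype.val e
  exact Subtype.ext (mul_left_cancel e')

end parts

end Cfsg.Agent.Lib.Helper73
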