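import Mathlib

set_option autoImplicit false

/-!
Definitions for S4146: finite groups whose conjugacy class sizes are exactly `1, n, m, n * m`
with `n, m > 1` coprime (Beltran--Felipe).  Such a group is nilpotent and `n`, `m` are prime powers.
-/

namespace Cfsg.Agent.Lib.Helper73.CT4

/-- `cs(G) = {1, n, m, n * m}` with `n, m > 1` coprime. -/
structure Hyp (G : Type*) [Group G] (n m : ℕ) : Prop where
  hn : 1 < n
  hm : 1 < m
  cop : n.Coprime m
  range : Set.range (fun x : G => (Subgroup.centralizer ({x} : Set G)).index) =
    ({1, n, m, n * m} : Set ℕ)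

/-- there is an element of prime power order `r ^ k` with `r ∣ a` whose class size is exactly `a`
(a "good" element for the class size `a`). -/
def Good (G : Type*) [Group G] (a : ℕ) : Prop :=
  ∃ (x : G) (r k : ℕ), r.Prime ∧ r ∣ a ∧ orderOf x = r ^ k ∧
    (Subgroup.centralizer ({x} : Set G)).index = a

end Cfsg.Agent.Lib.Helper73.CT4
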