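import Mathlib
import Cfsg.Agent.S4127
import Cfsg.Agent.Lib.Helper73.Ito

set_option autoImplicit false
set_option linter.unusedSectionVars false

/-!
Normal subgroups with two `G`-class sizes: if `N ⊴ G` contains a noncentral Sylow subgroup of `G`
and all elements of `N` have `G`-class size `1` or `m`, then `N` is nilpotent.
-/

namespace Cfsg.Agent.Lib.Helper73.NTS

open Subgroup Cfsg.Agent.Lib.Helper73

section basic

variable {G : Type*} [Group G] [Finite G]

local notation "Cz(" x ")" => Subgroup.centralizer ({x} : Set G)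

/-- two `G`-class sizes on `N` -/
def TwoSizesOn (N : Subgroup G) (m : ℕ) : Prop :=
  ∀ x ∈ N, (Subgroup.centralizer ({x} : Set G)).index = 1 ∨
    (Subgroup.centralizer ({x} : Set G)).index = m

variable {N : Subgroup G} {m : ℕ}

lemma idx_of_not_mem (h : TwoSizesOn N m) {x : G} (hxN : x ∈ N) (hx : x ∉ Subgroup.center G) :
    (Cz(x)).index = m := by
  rcases h x hxN with h1 | h1
  · exact absurd ((index_Cz_eq_one_iff x).1 h1) hx
  · exact h1

lemma CzN_eq_of_le (h : TwoSizesOn N m) {x y : G} (hxN : x ∈ N) (hyN : y ∈ N)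
    (hx : x ∉ Subgroup.center G) (hy : y ∉ Subgroup.center G) (hle : Cz(x) ≤ Cz(y)) :
    Cz(x) = Cz(y) :=
  eq_of_le_of_index_eq hle (by rw [idx_of_not_mem h hxN hx, idx_of_not_mem h hyN hy])

/-- (F1) -/
lemma CzN_le_of_coprime (h : TwoSizesOn N m) {x y : G} (hxN : x ∈ N) (hyN : y ∈ N)
    (hx : x ∉ Subgroup.center G)
    (hxy : Commute x y) (hcop : (orderOf x).Coprime (orderOf y)) : Cz(x) ≤ Cz(y) := by
  have hsub : Cz(x * y) ≤ Cz(x) ⊓ Cz(y) := by
    intro g hg
    rw [mem_Cz] at hg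
    have := Cfsg.Agent.S4127.comm_of_comm_mul x y g hxy hcop hg
    exact Subgroup.mem_inf.2 ⟨mem_Cz.2 this.1, mem_Cz.2 this.2⟩
  have hxyc : x * y ∉ Subgroup.center G := by
    intro hc
    apply hx
    rw [← index_Cz_eq_one_iff] at hc ⊢
    rw [Subgroup.index_eq_one] at hc ⊢
    exact top_le_iff.1 (hc ▸ (hsub.trans inf_le_left))
  have h1 : Cz(x * y) = Cz(x) :=
    CzN_eq_of_le h (N.mul_mem hxN hyN) hxN hxyc hx (hsub.trans inf_le_left)
  rw [← h1]
  exact hsub.trans inf_le_right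

lemma CzN_eq_of_coprime (h : TwoSizesOn N m) {x y : G} (hxN : x ∈ N) (hyN : y ∈ N)
    (hx : x ∉ Subgroup.center G) (hy : y ∉ Subgroup.center G)
    (hxy : Commute x y) (hcop : (orderOf x).Coprime (orderOf y)) : Cz(x) = Cz(y) :=
  CzN_eq_of_le h hxN hyN hx hy (CzN_le_of_coprime h hxN hyN hx hxy hcop)

lemma Cz_le_Cz_of_mem_zpowers {a v : G} (hv : v ∈ Subgroup.zpowers a) : Cz(a) ≤ Cz(v) := by
  intro g hg
  rw [mem_Cz] at hg ⊢
  obtain ⟨k, rfl⟩ := Subgroup.mem_zpowers_iff.1 hv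
  exact ((Commute.zpow_right (show Commute g a from hg) k)).eq

/-- (D) the mixed centralizer -/
lemma mixed (h : TwoSizesOn N m) {q r : ℕ} (hq : q.Prime) (hr : r.Prime) (hqr : q ≠ r) {x y : G}
    (hxN : x ∈ N) (hyN : y ∈ N)
    (hx : x ∉ Subgroup.center G) (hy : y ∉ Subgroup.center G) (hxr : ∃ a : ℕ, orderOf x = r ^ a)
    (hyq : ∃ b : ℕ, orderOf y = q ^ b) (hxy : Commute x y) :
    Cz(x) = Cz(y) ∧ ∀ a ∈ Cz(y) ⊓ N, a ∉ Subgroup.center G → Cz(a) = Cz(y) := by
  obtain ⟨a0, ha0⟩ := hxr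
  obtain ⟨b0, hb0⟩ := hyq
  have hcop : (orderOf x).Coprime (orderOf y) := by
    rw [ha0, hb0]; exact coprime_of_prime_pow hr hq hqr.symm
  have heq : Cz(x) = Cz(y) := CzN_eq_of_coprime h hxN hyN hx hy hxy hcop
  refine ⟨heq, ?_⟩
  intro a ha haz
  obtain ⟨haC, haN⟩ := Subgroup.mem_inf.1 ha
  obtain ⟨u, v, huv, hu, hv, ⟨c, hc⟩, hvr⟩ := dec' a r hr
  have huN : u ∈ N := (Subgroup.zpowers_le.2 haN) hu
  have hvN : v ∈ N := (Subgroup.zpowers_le.2 haN) hv
  have huC : u ∈ Cz(y) := zpowers_le_Cz haC hu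
  have hvC : v ∈ Cz(y) := zpowers_le_Cz haC hv
  by_cases hvz : v ∈ Subgroup.center G
  · have huz : u ∉ Subgroup.center G := by
      intro huz
      apply haz
      rw [← huv]
      exact Subgroup.mul_mem _ huz hvz
    have h1 : Cz(u) = Cz(y) := by
      apply CzN_eq_of_coprime h huN hyN huz hy
      · exact (mem_Cz.1 huC)
      · rw [hc, hb0]; exact coprime_of_prime_pow hr hq hqr.symm
    have h2 : Cz(a) ≤ Cz(u) := Cz_le_Cz_of_mem_zpowers hu
    rw [← h1]
    exact CzN_eq_of_le h haN huN haz huz h2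
  · have h1 : Cz(v) = Cz(x) := by
      apply CzN_eq_of_coprime h hvN hxN hvz hx
      · rw [← heq] at hvC
        exact (mem_Cz.1 hvC)
      · rw [ha0]; exact Nat.Coprime.pow_right a0 hvr
    have h2 : Cz(a) ≤ Cz(v) := Cz_le_Cz_of_mem_zpowers hv
    rw [← heq, ← h1]
    exact CzN_eq_of_le h haN hvN haz hvz h2

/-- (B) a noncentral `r`-element somewhere gives a noncentral `r`-element in every centralizer
of the same index -/
lemma exists_r_elt' {r : ℕ} (hr : r.Prime) {x y0 : G}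
    (hidx : (Cz(x)).index = (Cz(y0)).index) (hy0 : y0 ∉ Subgroup.center G)
    (hy0r : ∃ b : ℕ, orderOf y0 = r ^ b) :
    ∃ y ∈ Cz(x), y ∉ Subgroup.center G ∧ ∃ b : ℕ, orderOf y = r ^ b := by
  obtain ⟨b, hb⟩ := hy0r
  have hZx : Subgroup.center G ≤ Cz(x) := Subgroup.center_le_centralizer _
  have hZy : Subgroup.center G ≤ Cz(y0) := Subgroup.center_le_centralizer _
  have c1 := card_map_mk_aux (Subgroup.center G) (Cz(x)) hZx
  have c2 := card_map_mk_aux (Subgroup.center G) (Cz(y0)) hZy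
  have hcard : Nat.card (Cz(x)) = Nat.card (Cz(y0)) := by
    have i1 := Subgroup.card_mul_index (Cz(x))
    have i2 := Subgroup.card_mul_index (Cz(y0))
    rw [hidx] at i1
    have hpos : 0 < (Cz(y0)).index := Nat.pos_of_ne_zero Subgroup.index_ne_zero_of_finite
    exact Nat.eq_of_mul_eq_mul_right hpos (i1.trans i2.symm)
  have hmap : Nat.card ((Cz(x)).map (QuotientGroup.mk' (Subgroup.center G))) =
      Nat.card ((Cz(y0)).map (QuotientGroup.mk' (Subgroup.center G))) := by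
    rw [c1, c2] at hcard
    exact Nat.eq_of_mul_eq_mul_left Nat.card_pos hcard
  have hr1 : r ∣ Nat.card ((Cz(y0)).map (QuotientGroup.mk' (Subgroup.center G))) := by
    have hmem : (QuotientGroup.mk' (Subgroup.center G)) y0 ∈
        (Cz(y0)).map (QuotientGroup.mk' (Subgroup.center G)) :=
      Subgroup.mem_map_of_mem _ (mem_Cz.2 rfl)
    have hd := Subgroup.orderOf_dvd_natCard _ hmem
    have hd2 : orderOf ((QuotientGroup.mk' (Subgroup.center G)) y0) ∣ r ^ b := by
      rw [← hb]; exact orderOf_map_dvd _ y0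
    obtain ⟨c, _, hc'⟩ := (Nat.dvd_prime_pow hr).1 hd2
    have hc0 : c ≠ 0 := by
      intro h0
      rw [h0, pow_zero, orderOf_eq_one_iff] at hc'
      exact hy0 ((QuotientGroup.eq_one_iff y0).1 hc')
    exact (dvd_pow_self r hc0).trans (hc' ▸ hd)
  have : Fact r.Prime := ⟨hr⟩
  rw [← hmap] at hr1
  obtain ⟨gbar, hg⟩ := exists_prime_orderOf_dvd_card' r hr1
  obtain ⟨g, hgC, hgg⟩ := Subgroup.mem_map.1 gbar.2
  have hord : orderOf ((QuotientGroup.mk' (Subgroup.center G)) g) = r := by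
    rw [hgg, Subgroup.orderOf_coe, hg]
  obtain ⟨u, v, huv, hu, hv, hur, hvr⟩ := dec' g r hr
  refine ⟨u, zpowers_le_Cz hgC hu, ?_, hur⟩
  intro huz
  have e : (QuotientGroup.mk' (Subgroup.center G)) g =
      (QuotientGroup.mk' (Subgroup.center G)) v := by
    rw [← huv, map_mul]
    have : (QuotientGroup.mk' (Subgroup.center G)) u = 1 := (QuotientGroup.eq_one_iff u).2 huz
    rw [this, one_mul]
  have hd : orderOf ((QuotientGroup.mk' (Subgroup.center G)) v) ∣ orderOf v :=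
    orderOf_map_dvd _ v
  rw [← e, hord] at hd
  exact hr.one_lt.ne' (hvr.symm.eq_one_of_dvd hd)

/-- an element outside a subgroup has a primary component outside it -/
lemma exists_primary_not_mem (Z : Subgroup G) :
    ∀ (n : ℕ) (y : G), orderOf y = n → y ∉ Z →
      ∃ q : ℕ, q.Prime ∧ q ∣ orderOf y ∧ ∃ u ∈ Subgroup.zpowers y, u ∉ Z ∧
        ∃ a : ℕ, orderOf u = q ^ a := by
  intro n
  induction n using Nat.strong_induction_on with
  | _ n ih =>
    intro y hyn hyZ
    have hy1 : orderOf y ≠ 1 := by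
      intro h1
      rw [orderOf_eq_one_iff] at h1
      exact hyZ (h1 ▸ Z.one_mem)
    obtain ⟨q, hq, hqd⟩ := Nat.exists_prime_and_dvd hy1
    obtain ⟨u, v, huv, hu, hv, hur, hvr⟩ := dec' y q hq
    by_cases huZ : u ∈ Z
    · have hvZ : v ∉ Z := by
        intro hvZ
        apply hyZ
        rw [← huv]
        exact Z.mul_mem huZ hvZ
      have hvd : orderOf v ∣ orderOf y := by
        obtain ⟨k, rfl⟩ := Subgroup.mem_zpowers_iff.1 hv
        exact orderOf_dvd_of_pow_eq_one (by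
          rw [← zpow_natCast, ← zpow_mul, mul_comm, zpow_mul, zpow_natCast, pow_orderOf_eq_one,
            one_zpow])
      have hvlt : orderOf v < n := by
        rw [← hyn]
        apply lt_of_le_of_ne (Nat.le_of_dvd (orderOf_pos y) hvd)
        intro e
        rw [e] at hvr
        exact hq.one_lt.ne' (Nat.Coprime.eq_one_of_dvd hvr.symm hqd)
      obtain ⟨q', hq', hq'd, u', hu', hu'Z, ha'⟩ := ih (orderOf v) hvlt v rfl hvZ
      refine ⟨q', hq', hq'd.trans hvd, u', ?_, hu'Z, ha'⟩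
      exact (Subgroup.zpowers_le.2 hv) hu'
    · exact ⟨q, hq, hqd, u, hu, huZ, hur⟩

end basic

section nilp

variable {M : Type*} [Group M]

open scoped commutatorElement

/-- in a nilpotent group `Q`, a `Q`-invariant subgroup `I ≤ Q` not contained in `Z` has an element
outside `Z` which is central in `Q` modulo `Z` -/
lemma exists_central_mod' (Q I Z : Subgroup M) (hnil : Group.IsNilpotent Q) (hIQ : I ≤ Q)
    (hQI : ∀ x ∈ Q, ∀ l ∈ I, x * l * x⁻¹ ∈ I) (hIN : ¬ I ≤ Z) :
    ∃ z ∈ I, z ∉ Z ∧ ∀ y ∈ Q, ⁅z, y⁆ ∈ Z := by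
  classical
  obtain ⟨n, hn⟩ := (Subgroup.isNilpotent_iff_lowerCentralSeries Q).1 hnil
  have hex : ∃ k, I ⊓ Q.lowerCentralSeries k ≤ Z := ⟨n, by rw [hn, inf_bot_eq]; exact bot_le⟩
  have hk0 : Nat.find hex ≠ 0 := by
    intro h0
    have h1 := Nat.find_spec hex
    rw [h0, Subgroup.lowerCentralSeries_zero, inf_eq_left.2 hIQ] at h1
    exact hIN h1
  obtain ⟨k, hk⟩ := Nat.exists_eq_succ_of_ne_zero hk0
  have hk1 : ¬ I ⊓ Q.lowerCentralSeries k ≤ Z :=
    Nat.find_min hex (by rw [hk]; exact Nat.lt_succ_self k)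
  have hk2 : I ⊓ Q.lowerCentralSeries (k + 1) ≤ Z := by
    have := Nat.find_spec hex
    rwa [hk] at this
  obtain ⟨z, hz, hzN⟩ := SetLike.not_le_iff_exists.1 hk1
  obtain ⟨hzI, hzk⟩ := Subgroup.mem_inf.1 hz
  refine ⟨z, hzI, hzN, ?_⟩
  intro y hy
  apply hk2
  refine Subgroup.mem_inf.2 ⟨?_, ?_⟩
  · have e : ⁅z, y⁆ = z * (y * z⁻¹ * y⁻¹) := by simp only [commutatorElement_def]; group
    rw [e]
    exact I.mul_mem hzI (hQI y hy _ (I.inv_mem hzI))
  · rw [Subgroup.lowerCentralSeries_succ]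
    exact Subgroup.commutator_mem_commutator hzk hy

end nilp

section sylow

variable {G : Type*} [Group G] [Finite G]

open scoped commutatorElement

/-- (C) an element of a Sylow subgroup inside a normal subgroup, noncentral but central modulo the
center -/
lemma exists_second_center' {q : ℕ} [hq : Fact q.Prime] (Q : Sylow q G) (N : Subgroup G)
    [N.Normal] {y2 : G} (hy2Q : y2 ∈ (Q : Subgroup G)) (hy2N : y2 ∈ N)
    (hy2 : y2 ∉ Subgroup.center G) :
    ∃ y ∈ (Q : Subgroup G), y ∈ N ∧ y ∉ Subgroup.center G ∧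
      ∀ g ∈ (Q : Subgroup G), g * y * g⁻¹ * y⁻¹ ∈ Subgroup.center G := by
  have hnil : Group.IsNilpotent (Q : Subgroup G) := Q.2.isNilpotent
  obtain ⟨z, hzI, hzZ, hzc⟩ := exists_central_mod' (Q : Subgroup G) ((Q : Subgroup G) ⊓ N)
    (Subgroup.center G) hnil inf_le_left (by
      intro x hx l hl
      obtain ⟨hlQ, hlN⟩ := Subgroup.mem_inf.1 hl
      exact Subgroup.mem_inf.2 ⟨Subgroup.mul_mem _ (Subgroup.mul_mem _ hx hlQ)
        (Subgroup.inv_mem _ hx), (inferInstance : N.Normal).conj_mem l hlN x⟩)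
    (fun hle => hy2 (hle (Subgroup.mem_inf.2 ⟨hy2Q, hy2N⟩)))
  obtain ⟨hzQ, hzN⟩ := Subgroup.mem_inf.1 hzI
  refine ⟨z, hzQ, hzN, hzZ, ?_⟩
  intro g hg
  have h1 := hzc g hg
  have e : g * z * g⁻¹ * z⁻¹ = (⁅z, g⁆)⁻¹ := by
    simp only [commutatorElement_def]; group
  rw [e]
  exact Subgroup.inv_mem _ h1

/-- all `r`-elements lie in a normal subgroup containing a Sylow `r`-subgroup -/
lemma relem_mem {r : ℕ} [hr : Fact r.Prime] (R : Sylow r G) (N : Subgroup G) [N.Normal]
    (hRN : (R : Subgroup G) ≤ N) {w : G} (hw : ∃ k : ℕ, orderOf w = r ^ k) : w ∈ N := by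
  obtain ⟨k, hk⟩ := hw
  have hzp : IsPGroup r (Subgroup.zpowers w) :=
    IsPGroup.of_card (n := k) (by rw [Nat.card_zpowers, hk])
  obtain ⟨R', hR'⟩ := hzp.exists_le_sylow
  obtain ⟨g, hg⟩ := MulAction.exists_smul_eq G R R'
  have hwR' : w ∈ (R' : Subgroup G) := hR' (Subgroup.mem_zpowers w)
  rw [← hg, Sylow.coe_subgroup_smul, Subgroup.mem_smul_pointwise_iff_exists] at hwR'
  obtain ⟨s, hs, hsw⟩ := hwR'
  rw [← hsw]
  have : (MulAut.conj g) • s = g * s * g⁻¹ := rfl
  rw [this]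
  exact (inferInstance : N.Normal).conj_mem s (hRN hs) g

end sylow

section core

variable {G : Type*} [Group G] [Finite G]

local notation "Cz(" x ")" => Subgroup.centralizer ({x} : Set G)

/-- a mixed centralizer `C`: all noncentral elements of `C ⊓ N` have centralizer `C` -/
structure Mixed (N C : Subgroup G) : Prop where
  center_le : Subgroup.center G ≤ C
  hA : ∀ a ∈ C ⊓ N, a ∉ Subgroup.center G → Subgroup.centralizer ({a} : Set G) = C

variable {N C : Subgroup G} {m : ℕ}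

lemma Mixed.comm (hM : Mixed N C) : ∀ a ∈ C ⊓ N, ∀ b ∈ C ⊓ N, a * b = b * a := by
  intro a ha b hb
  by_cases haz : a ∈ Subgroup.center G
  · exact (Subgroup.mem_center_iff.1 haz b).symm
  · have h1 := hM.hA a ha haz
    have hb' : b ∈ Cz(a) := by rw [h1]; exact (Subgroup.mem_inf.1 hb).1
    exact (mem_Cz.1 hb').symm

/-- the `K`-bound: a class of `N` missing `C` forces `|S : S ∩ Z(G)|` to divide `m` -/
lemma Mixed.relIndex_dvd (hM : Mixed N C) (h : TwoSizesOn N m) {t : G} (htN : t ∈ N)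
    (ht : ∀ c : G, c * t * c⁻¹ ∉ C) (S : Subgroup G) (hS : S ≤ C ⊓ N) :
    (Subgroup.center G).relIndex S ∣ m := by
  have htz : t ∉ Subgroup.center G := by
    intro hc
    apply ht 1
    have : t ∈ C := hM.center_le hc
    simpa using this
  have hcard : Nat.card {w : G // IsConj t w} = m := by
    rw [← index_Cz_eq_card_conj, idx_of_not_mem h htN htz]
  rw [← hcard]
  apply relIndex_dvd_card_of_conj S (Subgroup.center G) {w : G | IsConj t w}
  · intro g _ w hw
    exact hw.trans (isConj_iff.2 ⟨g, rfl⟩)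
  · intro g hg w hw
    constructor
    · intro e
      by_contra hgz
      have h1 : Cz(g) = C := hM.hA g (hS hg) hgz
      have hwg : w ∈ Cz(g) := by
        rw [mem_Cz]
        have : g * w = w * g := by
          calc g * w = g * w * g⁻¹ * g := by group
            _ = w * g := by rw [e]
        exact this.symm
      rw [h1] at hwg
      obtain ⟨c, hc⟩ := isConj_iff.1 hw
      rw [← hc] at hwg
      exact ht c hwg
    · intro hgz
      rw [Subgroup.mem_center_iff] at hgz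
      rw [← hgz w]
      group

/-- a `p₁`-group normalizing `C` acts semiregularly on the noncentral `p₂`-elements of `C ⊓ N` -/
lemma Mixed.act [N.Normal] (hM : Mixed N C) {p₁ p₂ : ℕ} (hp₁ : p₁.Prime) (hp₂ : p₂.Prime)
    (hne : p₁ ≠ p₂) (H : Subgroup G) (hH : IsPGroup p₁ H)
    (hHC : H ≤ Subgroup.normalizer (C : Set G)) :
    C.relIndex H ∣ (Subgroup.center G).relIndex (rPart (C ⊓ N) hM.comm p₂) - 1 := by
  have : Fact p₁.Prime := ⟨hp₁⟩
  have : Fact p₂.Prime := ⟨hp₂⟩
  obtain ⟨S, hS⟩ : ∃ S : Subgroup G, S = rPart (C ⊓ N) hM.comm p₂ := ⟨_, rfl⟩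
  rw [← hS]
  have hSmem : ∀ w, w ∈ S ↔ w ∈ C ⊓ N ∧ ∃ k : ℕ, w ^ (p₂ ^ k) = 1 := by
    intro w; rw [hS]; rfl
  have hSD : S ≤ C ⊓ N := fun w hw => ((hSmem w).1 hw).1
  have hact : C.relIndex H ∣ Nat.card {w : G | w ∈ S ∧ w ∉ Subgroup.center G} := by
    apply relIndex_dvd_card_of_conj
    · rintro g hg w ⟨hwS, hwz⟩
      obtain ⟨hwD, k, hk⟩ := (hSmem w).1 hwS
      obtain ⟨hwC, hwN⟩ := Subgroup.mem_inf.1 hwD
      refine ⟨(hSmem _).2 ⟨Subgroup.mem_inf.2 ⟨?_, ?_⟩, k, ?_⟩, ?_⟩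
      · exact (Subgroup.mem_normalizer_iff.1 (hHC hg) w).1 hwC
      · exact (inferInstance : N.Normal).conj_mem w hwN g
      · rw [conj_pow, hk]; group
      · intro hc
        apply hwz
        have := (Subgroup.center G).normal_of_characteristic.conj_mem _ hc g⁻¹
        simpa [mul_assoc] using this
    · rintro g hg w ⟨hwS, hwz⟩
      have h1 : Cz(w) = C := hM.hA w (hSD hwS) hwz
      rw [← h1, mem_Cz]
      constructor
      · intro e
        calc g * w = g * w * g⁻¹ * g := by group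
          _ = w * g := by rw [e]
      · intro e
        rw [e]; group
  -- arithmetic
  have hSp : IsPGroup p₂ S := by
    intro w
    obtain ⟨_, k, hk⟩ := (hSmem w).1 w.2
    exact ⟨k, Subtype.ext (by simpa using hk)⟩
  obtain ⟨a, ha⟩ := IsPGroup.iff_card.1 hSp
  have hZSp : IsPGroup p₂ (Subgroup.center G ⊓ S : Subgroup G) := hSp.to_le inf_le_right
  obtain ⟨b', hb'⟩ := IsPGroup.iff_card.1 hZSp
  have hA4 := relIndex_mul_card_inf (Subgroup.center G) S
  have hA3 : Nat.card {w : G | w ∈ S ∧ w ∉ Subgroup.center G} +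
      Nat.card (Subgroup.center G ⊓ S : Subgroup G) = Nat.card S := by
    have e1 : {w : G | w ∈ S ∧ w ∉ Subgroup.center G} =
        (S : Set G) \ ((Subgroup.center G ⊓ S : Subgroup G) : Set G) := by
      ext w
      simp only [Set.mem_ofPred_eq, Set.mem_sdiff, SetLike.mem_coe, Subgroup.mem_inf]
      tauto
    have e2 : ((Subgroup.center G ⊓ S : Subgroup G) : Set G) ⊆ (S : Set G) := by
      intro w hw
      exact (Subgroup.mem_inf.1 hw).2
    have e3 := Set.ncard_sdiff_add_ncard_of_subset e2 (Set.toFinite _)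
    rw [← e1] at e3
    rw [Nat.card_coe_set_eq]
    have e4 : Nat.card (Subgroup.center G ⊓ S : Subgroup G) =
        ((Subgroup.center G ⊓ S : Subgroup G) : Set G).ncard :=
      Nat.card_coe_set_eq _
    have e5 : Nat.card S = (S : Set G).ncard := Nat.card_coe_set_eq _
    rw [e4, e5]
    exact e3
  obtain ⟨ℓ, hℓ⟩ : ∃ ℓ, ℓ = C.relIndex H := ⟨_, rfl⟩
  obtain ⟨ρ, hρ⟩ : ∃ ρ, ρ = (Subgroup.center G).relIndex S := ⟨_, rfl⟩
  obtain ⟨ω, hω⟩ : ∃ ω, ω = Nat.card {w : G | w ∈ S ∧ w ∉ Subgroup.center G} := ⟨_, rfl⟩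
  rw [← hℓ] at hact ⊢
  rw [← hρ] at hA4 ⊢
  rw [← hω] at hact hA3
  rw [ha, hb'] at hA4
  rw [ha, hb'] at hA3
  have hρ0 : ρ ≠ 0 := by
    intro e
    rw [e, zero_mul] at hA4
    exact (pow_pos hp₂.pos a).ne hA4
  obtain ⟨c, hc⟩ := IsPGroup.iff_card.1 hH
  have hℓd : ℓ ∣ p₁ ^ c := by
    rw [hℓ, ← hc]; exact Subgroup.relIndex_dvd_card C H
  obtain ⟨c', _, hc'⟩ := (Nat.dvd_prime_pow hp₁).1 hℓd
  have hcop : Nat.Coprime ℓ (p₂ ^ b') := by
    rw [hc']; exact coprime_of_prime_pow hp₁ hp₂ hne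
  have hω' : ω = p₂ ^ b' * (ρ - 1) := by
    have h1 : 1 ≤ ρ := Nat.one_le_iff_ne_zero.2 hρ0
    have : p₂ ^ b' * (ρ - 1) + p₂ ^ b' = p₂ ^ a := by
      rw [← hA4]
      have : ρ = (ρ - 1) + 1 := by omega
      conv_rhs => rw [this]
      ring
    omega
  rw [hω'] at hact
  exact hcop.dvd_of_dvd_mul_left hact

/-- a Sylow `q`-subgroup meets `C` in index at least the `q`-part of the index of `C` -/
lemma pow_factorization_le_relIndex {q : ℕ} [hq : Fact q.Prime] (Q : Sylow q G)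
    (C : Subgroup G) : q ^ (C.index).factorization q ≤ C.relIndex (Q : Subgroup G) := by
  have hA6 := relIndex_mul_card_inf C (Q : Subgroup G)
  rw [Q.card_eq_multiplicity] at hA6
  obtain ⟨ℓ, hℓ⟩ : ∃ ℓ, ℓ = C.relIndex (Q : Subgroup G) := ⟨_, rfl⟩
  rw [← hℓ] at hA6 ⊢
  have hℓd : ℓ ∣ q ^ (Nat.card G).factorization q := ⟨_, hA6.symm⟩
  obtain ⟨c, _, hc⟩ := (Nat.dvd_prime_pow hq.out).1 hℓd
  have hed : Nat.card (C ⊓ (Q : Subgroup G) : Subgroup G) ∣
      q ^ (Nat.card G).factorization q := ⟨_, by rw [← hA6, mul_comm]⟩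
  obtain ⟨e, _, he⟩ := (Nat.dvd_prime_pow hq.out).1 hed
  have hce : c + e = (Nat.card G).factorization q := by
    rw [hc, he, ← pow_add] at hA6
    exact Nat.pow_right_injective hq.out.two_le hA6
  have hcardD0 : Nat.card C ≠ 0 := Nat.card_pos.ne'
  have hn0 : C.index ≠ 0 := Subgroup.index_ne_zero_of_finite
  have hele : e ≤ (Nat.card C).factorization q := by
    have : q ^ e ∣ Nat.card C := by
      rw [← he]
      exact Subgroup.card_dvd_of_le inf_le_left
    exact (hq.out.pow_dvd_iff_le_factorization hcardD0).1 this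
  have hfac : (Nat.card G).factorization q =
      (Nat.card C).factorization q + (C.index).factorization q := by
    have := Subgroup.card_mul_index C
    rw [← this, Nat.factorization_mul hcardD0 hn0]
    rfl
  rw [hc]
  apply Nat.pow_le_pow_right hq.out.pos
  omega

/-- a `p`-power dividing `m` is at most the `p`-part of `m` -/
lemma le_pow_factorization {p ρ a m : ℕ} (hp : p.Prime) (hm : m ≠ 0) (h1 : ρ ∣ p ^ a)
    (h2 : ρ ∣ m) : ρ ≤ p ^ m.factorization p := by
  obtain ⟨j, _, hj⟩ := (Nat.dvd_prime_pow hp).1 h1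
  rw [hj] at h2 ⊢
  exact Nat.pow_le_pow_right hp.pos ((hp.pow_dvd_iff_le_factorization hm).1 h2)


/-- normalizers grow in `p`-groups (relative form) -/
lemma exists_normalizing_not_mem {p : ℕ} [Fact p.Prime] {P D : Subgroup G} (hP : IsPGroup p P)
    (hDP : D ≤ P) (hne : ¬ P ≤ D) :
    ∃ v ∈ P, v ∉ D ∧ ∀ w ∈ D, v * w * v⁻¹ ∈ D := by
  have hnil : Group.IsNilpotent P := hP.isNilpotent
  have hnc : NormalizerCondition P := Group.normalizerCondition_of_isNilpotent
  have hlt : D.subgroupOf P < ⊤ := by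
    rw [lt_top_iff_ne_top]
    intro e
    exact hne (Subgroup.subgroupOf_eq_top.1 e)
  have h1 := hnc (D.subgroupOf P) hlt
  obtain ⟨v', hv'n, hv'D⟩ := SetLike.exists_of_lt h1
  refine ⟨v'.1, v'.2, ?_, ?_⟩
  · intro hv
    exact hv'D (Subgroup.mem_subgroupOf.2 hv)
  · intro w hw
    have hwP : w ∈ P := hDP hw
    have h2 := (Subgroup.mem_normalizer_iff.1 hv'n ⟨w, hwP⟩).1 (Subgroup.mem_subgroupOf.2 hw)
    have h3 := Subgroup.mem_subgroupOf.1 h2
    simpa using h3

/-- (G) the non-covering case is contradictory -/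
lemma no_miss [N.Normal] (h : TwoSizesOn N m) {q r : ℕ} [hq : Fact q.Prime] [hr : Fact r.Prime]
    (hqr : q ≠ r) (R : Sylow r G) (hRN : (R : Subgroup G) ≤ N)
    (Q : Sylow q G) {x y : G} (hyQ : y ∈ (Q : Subgroup G)) (hyN : y ∈ N)
    (hyz : y ∉ Subgroup.center G)
    (hyc : ∀ g ∈ (Q : Subgroup G), g * y * g⁻¹ * y⁻¹ ∈ Subgroup.center G)
    (hxC : x ∈ Cz(y)) (hxz : x ∉ Subgroup.center G) (hxr : ∃ a : ℕ, orderOf x = r ^ a)
    (hM : Mixed N (Cz(y)))
    {t : G} (htN : t ∈ N) (ht : ∀ c : G, c * t * c⁻¹ ∉ Cz(y)) : False := by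
  have hne0 : ∀ A B : Subgroup G, A.relIndex B ≠ 0 := fun A B => Subgroup.index_ne_zero_of_finite
  have hidx : (Cz(y)).index = m := idx_of_not_mem h hyN hyz
  have hm0 : m ≠ 0 := by rw [← hidx]; exact Subgroup.index_ne_zero_of_finite
  have hxN : x ∈ N := relem_mem R N hRN hxr
  have hyC : y ∈ Cz(y) := mem_Cz.2 rfl
  -- `Q` normalizes `C`
  have hQC : (Q : Subgroup G) ≤ Subgroup.normalizer ((Cz(y) : Subgroup G) : Set G) := by
    intro g hg
    rw [Subgroup.mem_normalizer_iff]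
    intro w
    constructor
    · intro hw
      exact conj_mem_Cz (hyc g⁻¹ (Subgroup.inv_mem _ hg)) hw
    · intro hw
      have h1 := conj_mem_Cz (u := y) (g := g⁻¹) (by rw [inv_inv]; exact hyc g hg) hw
      have e : g⁻¹ * (g * w * g⁻¹) * g⁻¹⁻¹ = w := by group
      rwa [e] at h1
  obtain ⟨C, hC⟩ : ∃ C : Subgroup G, C = Cz(y) := ⟨_, rfl⟩
  rw [← hC] at hM hxC ht hidx hyC hQC
  obtain ⟨S, hS⟩ : ∃ S : Subgroup G, S = rPart (C ⊓ N) hM.comm r := ⟨_, rfl⟩
  obtain ⟨T, hT⟩ : ∃ T : Subgroup G, T = rPart (C ⊓ N) hM.comm q := ⟨_, rfl⟩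
  have hSmem : ∀ w, w ∈ S ↔ w ∈ C ⊓ N ∧ ∃ k : ℕ, w ^ (r ^ k) = 1 := by
    intro w; rw [hS]; rfl
  have hTmem : ∀ w, w ∈ T ↔ w ∈ C ⊓ N ∧ ∃ k : ℕ, w ^ (q ^ k) = 1 := by
    intro w; rw [hT]; rfl
  have hSD : S ≤ C ⊓ N := fun w hw => ((hSmem w).1 hw).1
  have hTD : T ≤ C ⊓ N := fun w hw => ((hTmem w).1 hw).1
  have hxS : x ∈ S := by
    obtain ⟨a, ha⟩ := hxr
    exact (hSmem x).2 ⟨Subgroup.mem_inf.2 ⟨hxC, hxN⟩, a, by rw [← ha, pow_orderOf_eq_one]⟩
  have hyT : y ∈ T := by
    obtain ⟨k, hk⟩ := Q.2 ⟨y, hyQ⟩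
    refine (hTmem y).2 ⟨Subgroup.mem_inf.2 ⟨hyC, hyN⟩, k, ?_⟩
    have := congrArg Subtype.val hk
    simpa using this
  have hSp : IsPGroup r S := by
    intro w
    obtain ⟨_, k, hk⟩ := (hSmem w).1 w.2
    exact ⟨k, Subtype.ext (by simpa using hk)⟩
  have hTp : IsPGroup q T := by
    intro w
    obtain ⟨_, k, hk⟩ := (hTmem w).1 w.2
    exact ⟨k, Subtype.ext (by simpa using hk)⟩
  -- the two ratios
  obtain ⟨ρr, hρr⟩ : ∃ ρ, ρ = (Subgroup.center G).relIndex S := ⟨_, rfl⟩
  obtain ⟨ρq, hρq⟩ : ∃ ρ, ρ = (Subgroup.center G).relIndex T := ⟨_, rfl⟩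
  have hρr_dvd : ρr ∣ m := by rw [hρr]; exact hM.relIndex_dvd h htN ht S hSD
  have hρq_dvd : ρq ∣ m := by rw [hρq]; exact hM.relIndex_dvd h htN ht T hTD
  have hρr2 : 2 ≤ ρr := by
    have h0 : ρr ≠ 0 := by rw [hρr]; exact hne0 _ _
    have h1 : ρr ≠ 1 := by
      rw [hρr]
      intro e
      exact hxz (Subgroup.relIndex_eq_one.1 e hxS)
    omega
  have hρq2 : 2 ≤ ρq := by
    have h0 : ρq ≠ 0 := by rw [hρq]; exact hne0 _ _
    have h1 : ρq ≠ 1 := by
      rw [hρq]
      intro e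
      exact hyz (Subgroup.relIndex_eq_one.1 e hyT)
    omega
  have hρr_le : ρr ≤ r ^ m.factorization r := by
    obtain ⟨a, ha⟩ := IsPGroup.iff_card.1 hSp
    apply le_pow_factorization hr.out hm0 (a := a) _ hρr_dvd
    rw [hρr, ← ha]; exact Subgroup.relIndex_dvd_card _ _
  have hρq_le : ρq ≤ q ^ m.factorization q := by
    obtain ⟨a, ha⟩ := IsPGroup.iff_card.1 hTp
    apply le_pow_factorization hq.out hm0 (a := a) _ hρq_dvd
    rw [hρq, ← ha]; exact Subgroup.relIndex_dvd_card _ _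
  -- `Q` acts
  have hℓ1 : q ^ m.factorization q ≤ C.relIndex (Q : Subgroup G) := by
    have := pow_factorization_le_relIndex Q C
    rwa [hidx] at this
  have hℓ2 : C.relIndex (Q : Subgroup G) ≤ ρr - 1 := by
    have h1 := hM.act hq.out hr.out hqr (Q : Subgroup G) Q.2 hQC
    rw [← hS, ← hρr] at h1
    exact Nat.le_of_dvd (by omega) h1
  -- a Sylow `r`-subgroup containing `S`
  obtain ⟨R', hSR'⟩ := hSp.exists_le_sylow
  obtain ⟨R₁, hR₁⟩ : ∃ R₁ : Subgroup G,
      R₁ = (R' : Subgroup G) ⊓ Subgroup.normalizer ((C : Subgroup G) : Set G) := ⟨_, rfl⟩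
  have hR₁R' : R₁ ≤ (R' : Subgroup G) := by rw [hR₁]; exact inf_le_left
  have hR₁C : R₁ ≤ Subgroup.normalizer ((C : Subgroup G) : Set G) := by rw [hR₁]; exact inf_le_right
  have hR₁p : IsPGroup r R₁ := R'.2.to_le hR₁R'
  have hSR₁ : S ≤ R₁ := by
    rw [hR₁]
    refine le_inf hSR' ?_
    exact (hSD.trans inf_le_left).trans Subgroup.le_normalizer
  have hℓ'1 : C.relIndex R₁ ≤ ρq - 1 := by
    have h1 := hM.act hr.out hq.out hqr.symm R₁ hR₁p hR₁C
    rw [← hT, ← hρq] at h1
    exact Nat.le_of_dvd (by omega) h1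
  have hCR₁S : C ⊓ R₁ ≤ S := by
    intro w hw
    obtain ⟨hwC, hwR⟩ := Subgroup.mem_inf.1 hw
    obtain ⟨k, hk⟩ := hR₁p ⟨w, hwR⟩
    have hk' : w ^ (r ^ k) = 1 := by
      have := congrArg Subtype.val hk
      simpa using this
    have hwN : w ∈ N := by
      apply relem_mem R N hRN
      obtain ⟨j, _, hj⟩ := (Nat.dvd_prime_pow hr.out).1 (orderOf_dvd_of_pow_eq_one hk')
      exact ⟨j, hj⟩
    exact (hSmem w).2 ⟨Subgroup.mem_inf.2 ⟨hwC, hwN⟩, k, hk'⟩
  have hSC : S.relIndex R₁ ≤ C.relIndex R₁ := by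
    rw [← Subgroup.inf_relIndex_right C R₁]
    exact Subgroup.relIndex_le_of_le_left hCR₁S (hne0 _ _)
  -- the key inequality
  have hkey : ρr ≤ C.relIndex R₁ := by
    by_cases hcase : (R' : Subgroup G) ≤ Subgroup.normalizer ((C : Subgroup G) : Set G)
    · have e : R₁ = (R' : Subgroup G) := by rw [hR₁]; exact inf_eq_left.2 hcase
      rw [e]
      have := pow_factorization_le_relIndex R' C
      rw [hidx] at this
      exact hρr_le.trans this
    · have hne : ¬ (R' : Subgroup G) ≤ R₁ := fun hle => hcase (hle.trans hR₁C)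
      obtain ⟨v, hvR', hvR₁, hvn⟩ := exists_normalizing_not_mem R'.2 hR₁R' hne
      have hvC : v ∉ Subgroup.normalizer ((C : Subgroup G) : Set G) := by
        intro hv
        apply hvR₁
        rw [hR₁]
        exact Subgroup.mem_inf.2 ⟨hvR', hv⟩
      obtain ⟨Sv, hSv⟩ : ∃ Sv : Subgroup G, Sv = S.map (MulAut.conj v).toMonoidHom := ⟨_, rfl⟩
      have hSvmem : ∀ w, w ∈ Sv ↔ ∃ s ∈ S, v * s * v⁻¹ = w := by
        intro w
        rw [hSv, Subgroup.mem_map]
        rfl
      have hSvR₁ : Sv ≤ R₁ := by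
        intro w hw
        obtain ⟨s, hs, rfl⟩ := (hSvmem w).1 hw
        exact hvn s (hSR₁ hs)
      have hint : S ⊓ Sv ≤ Subgroup.center G := by
        intro w hw
        obtain ⟨hwS, hwSv⟩ := Subgroup.mem_inf.1 hw
        obtain ⟨s, hs, hsw⟩ := (hSvmem w).1 hwSv
        by_contra hwz
        apply hvC
        have hsz : s ∉ Subgroup.center G := by
          intro hsz
          apply hwz
          rw [← hsw]
          exact (Subgroup.center G).normal_of_characteristic.conj_mem s hsz v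
        have h1 : Cz(w) = C := hM.hA w (hSD hwS) hwz
        have h2 : Cz(s) = C := hM.hA s (hSD hs) hsz
        rw [Subgroup.mem_normalizer_iff]
        intro c
        rw [← h2, mem_Cz]
        conv_rhs => rw [h2, ← h1, mem_Cz, ← hsw]
        constructor
        · intro e
          calc v * c * v⁻¹ * (v * s * v⁻¹) = v * (c * s) * v⁻¹ := by group
            _ = v * (s * c) * v⁻¹ := by rw [e]
            _ = v * s * v⁻¹ * (v * c * v⁻¹) := by group
        · intro e
          calc c * s = v⁻¹ * (v * c * v⁻¹ * (v * s * v⁻¹)) * v := by group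
            _ = v⁻¹ * (v * s * v⁻¹ * (v * c * v⁻¹)) * v := by rw [e]
            _ = s * c := by group
      have e1 : ρr = (Subgroup.center G).relIndex Sv := by
        rw [hρr, hSv, ← Subgroup.relIndex_comap]
        congr 1
        ext w
        rw [Subgroup.mem_comap]
        constructor
        · intro hw
          exact (Subgroup.center G).normal_of_characteristic.conj_mem w hw v
        · intro hw
          have := (Subgroup.center G).normal_of_characteristic.conj_mem _ hw v⁻¹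
          have e : v⁻¹ * ((MulAut.conj v).toMonoidHom w) * v⁻¹⁻¹ = w := by
            show v⁻¹ * (v * w * v⁻¹) * v⁻¹⁻¹ = w
            group
          rwa [e] at this
      have e2 : (Subgroup.center G).relIndex Sv ≤ S.relIndex Sv := by
        rw [← Subgroup.inf_relIndex_right S Sv]
        exact Subgroup.relIndex_le_of_le_left hint (hne0 _ _)
      have e3 : S.relIndex Sv ≤ S.relIndex R₁ :=
        Subgroup.relIndex_le_of_le_right hSvR₁ (hne0 _ _)
      rw [e1]
      exact (e2.trans e3).trans hSC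
  omega

lemma orderOf_of_mem_sylow {p : ℕ} [hp : Fact p.Prime] (P : Sylow p G) {g : G}
    (hg : g ∈ (P : Subgroup G)) : ∃ k : ℕ, orderOf g = p ^ k := by
  obtain ⟨k, hk⟩ := P.2 ⟨g, hg⟩
  have hk' : g ^ (p ^ k) = 1 := by
    have := congrArg Subtype.val hk
    simpa using this
  obtain ⟨j, _, hj⟩ := (Nat.dvd_prime_pow hp.out).1 (orderOf_dvd_of_pow_eq_one hk')
  exact ⟨j, hj⟩

/-- (F) the covering case: `N` has two class sizes of its own, hence is nilpotent by Itô -/
lemma nilpotent_of_cover [N.Normal] (hM : Mixed N C)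
    (hcov : ∀ t ∈ N, ∃ c : G, c * t * c⁻¹ ∈ C) : Group.IsNilpotent N := by
  have hTS : TwoSizes N (C.relIndex N) := by
    intro w
    by_cases hwz : (w : G) ∈ Subgroup.center G
    · left
      rw [index_Cz_eq_one_iff, Subgroup.mem_center_iff]
      intro n
      apply Subtype.ext
      exact Subgroup.mem_center_iff.1 hwz n
    · right
      obtain ⟨c, hc⟩ := hcov w w.2
      have hcN : c * w * c⁻¹ ∈ N := (inferInstance : N.Normal).conj_mem _ w.2 c
      have hcz : c * w * c⁻¹ ∉ Subgroup.center G := by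
        intro hz
        apply hwz
        have := (Subgroup.center G).normal_of_characteristic.conj_mem _ hz c⁻¹
        have e : c⁻¹ * (c * w * c⁻¹) * c⁻¹⁻¹ = w := by group
        rwa [e] at this
      have h1 : Cz(c * w * c⁻¹) = C := hM.hA _ (Subgroup.mem_inf.2 ⟨hc, hcN⟩) hcz
      have ha : Subgroup.centralizer ({w} : Set N) = (Cz((w : G))).subgroupOf N := by
        ext n
        rw [Subgroup.mem_subgroupOf, mem_Cz, Subgroup.mem_centralizer_singleton_iff]
        constructor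
        · intro e
          have := congrArg Subtype.val e
          simpa using this
        · intro e
          apply Subtype.ext
          simpa using e
      have hb : Cz((w : G)) = C.comap (MulAut.conj c).toMonoidHom := by
        ext g
        rw [Subgroup.mem_comap, ← h1, mem_Cz, mem_Cz]
        show g * w = w * g ↔ c * g * c⁻¹ * (c * w * c⁻¹) = c * w * c⁻¹ * (c * g * c⁻¹)
        constructor
        · intro e
          calc c * g * c⁻¹ * (c * w * c⁻¹) = c * (g * w) * c⁻¹ := by group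
            _ = c * (w * g) * c⁻¹ := by rw [e]
            _ = c * w * c⁻¹ * (c * g * c⁻¹) := by group
        · intro e
          calc g * w = c⁻¹ * (c * g * c⁻¹ * (c * w * c⁻¹)) * c := by group
            _ = c⁻¹ * (c * w * c⁻¹ * (c * g * c⁻¹)) * c := by rw [e]
            _ = w * g := by group
      have hc' : N.map (MulAut.conj c).toMonoidHom = N := Subgroup.Normal.map_conj_eq N c
      show (Subgroup.centralizer ({w} : Set N)).index = C.relIndex N
      rw [ha]
      show (Cz((w : G))).relIndex N = C.relIndex N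
      rw [hb, Subgroup.relIndex_comap, hc']
  obtain ⟨p, hp, k, hk⟩ := index_center_prime_pow hTS
  have : Fact p.Prime := ⟨hp⟩
  have hq : IsPGroup p (N ⧸ Subgroup.center N) := IsPGroup.of_card (n := k) hk
  exact Group.of_quotient_center_nilpotent hq.isNilpotent

/-- if all `r'`-elements of `N` are central in `G`, then `N` is nilpotent -/
lemma nilpotent_of_rprime_central {r : ℕ} [hr : Fact r.Prime]
    (hc : ∀ y ∈ N, (orderOf y).Coprime r → y ∈ Subgroup.center G) : Group.IsNilpotent N := by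
  have hle : (Subgroup.center G).subgroupOf N ≤ Subgroup.center N := by
    intro w hw
    rw [Subgroup.mem_subgroupOf] at hw
    rw [Subgroup.mem_center_iff]
    intro n
    apply Subtype.ext
    exact Subgroup.mem_center_iff.1 hw n
  have hnorm : ((Subgroup.center G).subgroupOf N).Normal := inferInstance
  have hq : IsPGroup r (N ⧸ (Subgroup.center G).subgroupOf N) := by
    intro gq
    induction gq using QuotientGroup.induction_on with
    | H w =>
      refine ⟨(orderOf (w : G)).factorization r, ?_⟩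
      rw [← QuotientGroup.mk_pow, QuotientGroup.eq_one_iff, Subgroup.mem_subgroupOf]
      apply hc
      · exact Subgroup.pow_mem _ w.2 _
      · have hn0 : orderOf (w : G) ≠ 0 := (orderOf_pos _).ne'
        have hpn0 : r ^ (orderOf (w : G)).factorization r ≠ 0 := (pow_pos hr.out.pos _).ne'
        rw [Subgroup.coe_pow, orderOf_pow' _ hpn0,
          Nat.gcd_eq_right (Nat.ordProj_dvd (orderOf (w : G)) r)]
        exact (Nat.coprime_ordCompl hr.out hn0).symm
  have hnil : Group.IsNilpotent (N ⧸ (Subgroup.center G).subgroupOf N) := hq.isNilpotent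
  apply Subgroup.isNilpotent_of_ker_le_center (QuotientGroup.mk' ((Subgroup.center G).subgroupOf N))
  rw [QuotientGroup.ker_mk']
  exact hle

/-- **Main theorem.** A normal subgroup containing a noncentral Sylow subgroup of `G` and having
`G`-class sizes `1` and `m` only is nilpotent. -/
theorem nilpotent_of_twoSizesOn (r : ℕ) [hr : Fact r.Prime] (R : Sylow r G)
    (hR : ¬ (R : Subgroup G) ≤ Subgroup.center G) (N : Subgroup G) [N.Normal]
    (hRN : (R : Subgroup G) ≤ N) (m : ℕ) (h : TwoSizesOn N m) : Group.IsNilpotent N := by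
  by_cases hall : ∀ y ∈ N, (orderOf y).Coprime r → y ∈ Subgroup.center G
  · exact nilpotent_of_rprime_central hall
  · push Not at hall
    obtain ⟨y₁, hy₁N, hy₁c, hy₁z⟩ := hall
    obtain ⟨q, hq, hqd, y₂, hy₂, hy₂z, ⟨a, ha⟩⟩ :=
      exists_primary_not_mem (Subgroup.center G) _ y₁ rfl hy₁z
    have hqr : q ≠ r := by
      rintro rfl
      exact hq.one_lt.ne' (Nat.Coprime.eq_one_of_dvd hy₁c.symm hqd)
    have : Fact q.Prime := ⟨hq⟩
    have hy₂N : y₂ ∈ N := (Subgroup.zpowers_le.2 hy₁N) hy₂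
    have hzp : IsPGroup q (Subgroup.zpowers y₂) :=
      IsPGroup.of_card (n := a) (by rw [Nat.card_zpowers, ha])
    obtain ⟨Q, hQ⟩ := hzp.exists_le_sylow
    have hy₂Q : y₂ ∈ (Q : Subgroup G) := hQ (Subgroup.mem_zpowers y₂)
    obtain ⟨y, hyQ, hyN, hyz, hyc⟩ := exists_second_center' Q N hy₂Q hy₂N hy₂z
    obtain ⟨x₀, hx₀R, hx₀z⟩ := SetLike.not_le_iff_exists.1 hR
    have hx₀r := orderOf_of_mem_sylow R hx₀R
    have hyq := orderOf_of_mem_sylow Q hyQ
    have hidx : (Cz(y)).index = (Cz(x₀)).index := by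
      rw [idx_of_not_mem h hyN hyz, idx_of_not_mem h (hRN hx₀R) hx₀z]
    obtain ⟨x, hxC, hxz, hxr⟩ := exists_r_elt' hr.out hidx hx₀z hx₀r
    have hxN : x ∈ N := relem_mem R N hRN hxr
    have hxy : Commute x y := mem_Cz.1 hxC
    have hmix := mixed h hq hr.out hqr hxN hyN hxz hyz hxr hyq hxy
    have hM : Mixed N (Cz(y)) := ⟨Subgroup.center_le_centralizer _, hmix.2⟩
    by_cases hcov : ∀ t ∈ N, ∃ c : G, c * t * c⁻¹ ∈ Cz(y)
    · exact nilpotent_of_cover hM hcov
    · push Not at hcov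
      obtain ⟨t, htN, ht⟩ := hcov
      exact (no_miss h hqr R hRN Q hyQ hyN hyz hyc hxC hxz hxr hM htN ht).elim

end core

end Cfsg.Agent.Lib.Helper73.NTS
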