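import Mathlib
import Cfsg.Agent.Lib.Helper73.CT4Defs
import Cfsg.Agent.Lib.Helper73.BHMBasic
import Cfsg.Agent.Lib.Helper73.NormalTwoSizes

set_option autoImplicit false
set_option linter.unusedSectionVars false

/-!
Basic facts for S4146 (class sizes `1, n, m, n * m`).
-/

namespace Cfsg.Agent.Lib.Helper73.CT4

open Cfsg.Agent.Lib.Helper73

variable {G : Type*} [Group G] {n m : ℕ}

local notation "Cz(" x ")" => Subgroup.centralizer ({x} : Set G)

theorem Hyp.idx_cases (H : Hyp G n m) (x : G) :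
    (Subgroup.centralizer ({x} : Set G)).index = 1 ∨ (Subgroup.centralizer ({x} : Set G)).index = n ∨
    (Subgroup.centralizer ({x} : Set G)).index = m ∨ (Subgroup.centralizer ({x} : Set G)).index = n * m := by
  have h1 : (Cz(x)).index ∈ Set.range (fun x : G => (Subgroup.centralizer ({x} : Set G)).index) :=
    ⟨x, rfl⟩
  rw [H.range] at h1
  simpa using h1

theorem Hyp.exists_n (H : Hyp G n m) : ∃ x : G, (Subgroup.centralizer ({x} : Set G)).index = n := by
  have h1 : n ∈ ({1, n, m, n * m} : Set ℕ) := by simp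
  rw [← H.range] at h1
  exact h1

theorem Hyp.exists_m (H : Hyp G n m) : ∃ x : G, (Subgroup.centralizer ({x} : Set G)).index = m := by
  have h1 : m ∈ ({1, n, m, n * m} : Set ℕ) := by simp
  rw [← H.range] at h1
  exact h1

theorem Hyp.exists_nm (H : Hyp G n m) :
    ∃ x : G, (Subgroup.centralizer ({x} : Set G)).index = n * m := by
  have h1 : n * m ∈ ({1, n, m, n * m} : Set ℕ) := by simp
  rw [← H.range] at h1
  exact h1

theorem Hyp.symm (H : Hyp G n m) : Hyp G m n where
  hn := H.hm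
  hm := H.hn
  cop := H.cop.symm
  range := by
    rw [H.range, mul_comm m n]
    ext a
    simp only [Set.mem_insert_iff, Set.mem_singleton_iff]
    tauto

theorem Hyp.n_pos (H : Hyp G n m) : 0 < n := lt_trans Nat.zero_lt_one H.hn
theorem Hyp.m_pos (H : Hyp G n m) : 0 < m := lt_trans Nat.zero_lt_one H.hm

/-- `m` does not divide `n`. -/
theorem Hyp.not_m_dvd_n (H : Hyp G n m) : ¬ m ∣ n := by
  intro h
  have := Nat.Coprime.eq_one_of_dvd H.cop.symm h
  have := H.hm
  omega

theorem Hyp.not_n_dvd_m (H : Hyp G n m) : ¬ n ∣ m := H.symm.not_m_dvd_n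

/-- a class size dividing `n` is `1` or `n`. -/
theorem Hyp.idx_of_dvd_n (H : Hyp G n m) {x : G} (hd : (Cz(x)).index ∣ n) :
    (Cz(x)).index = 1 ∨ (Cz(x)).index = n := by
  rcases H.idx_cases x with h | h | h | h
  · exact Or.inl h
  · exact Or.inr h
  · rw [h] at hd; exact absurd hd H.not_m_dvd_n
  · rw [h] at hd
    exact absurd (Dvd.dvd.trans (dvd_mul_left m n) hd) H.not_m_dvd_n

/-- P1: an element of class size `n` has a primary power with the same centralizer. -/
theorem Hyp.exists_primary [Finite G] (H : Hyp G n m) {x : G}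
    (hx : (Subgroup.centralizer ({x} : Set G)).index = n) :
    ∃ u ∈ Subgroup.zpowers x, ∃ r k : ℕ, r.Prime ∧ orderOf u = r ^ k ∧
      (Subgroup.centralizer ({u} : Set G)).index = n ∧
      Subgroup.centralizer ({u} : Set G) = Subgroup.centralizer ({x} : Set G) := by
  have hxZ : x ∉ Subgroup.center G := by
    intro h
    rw [← index_Cz_eq_one_iff, hx] at h
    have := H.hn
    omega
  obtain ⟨q, hq, _, u, hu, huZ, a, ha⟩ :=
    NTS.exists_primary_not_mem (Subgroup.center G) (orderOf x) x rfl hxZ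
  have hle : Cz(x) ≤ Cz(u) := Cz_le_Cz_of_mem_zpowers hu
  have hd : (Cz(u)).index ∣ n := hx ▸ Subgroup.index_dvd_of_le hle
  have hun : (Cz(u)).index = n := by
    rcases H.idx_of_dvd_n hd with h | h
    · exact absurd ((index_Cz_eq_one_iff u).1 h) huZ
    · exact h
  refine ⟨u, hu, q, a, hq, ha, hun, ?_⟩
  exact (eq_of_le_of_index_eq hle (by rw [hx, hun])).symm

/-- (A): commuting elements of coprime class sizes: all their conjugates commute. -/
theorem commute_conj_of_coprime [Finite G] {x y : G}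
    (hcop : (Subgroup.centralizer ({x} : Set G)).index.Coprime (Subgroup.centralizer ({y} : Set G)).index)
    (hxy : Commute x y) (g h : G) : Commute (g * x * g⁻¹) (h * y * h⁻¹) := by
  obtain ⟨c, hc, e⟩ := exists_mem_Cz_conj_eq hcop (g⁻¹ * h)
  have hcx : c * x = x * c := mem_Cz.1 hc
  have h1 : Commute x (c * y * c⁻¹) := by
    show x * (c * y * c⁻¹) = c * y * c⁻¹ * x
    have hcx' : c⁻¹ * x = x * c⁻¹ := by
      have : c⁻¹ * (c * x) * c⁻¹ = c⁻¹ * (x * c) * c⁻¹ := by rw [hcx]
      calc c⁻¹ * x = c⁻¹ * (x * c) * c⁻¹ := by group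
        _ = c⁻¹ * (c * x) * c⁻¹ := by rw [hcx]
        _ = x * c⁻¹ := by group
    calc x * (c * y * c⁻¹) = (x * c) * y * c⁻¹ := by group
      _ = (c * x) * y * c⁻¹ := by rw [hcx]
      _ = c * (x * y) * c⁻¹ := by group
      _ = c * (y * x) * c⁻¹ := by rw [hxy.eq]
      _ = c * y * (x * c⁻¹) := by group
      _ = c * y * (c⁻¹ * x) := by rw [hcx']
      _ = c * y * c⁻¹ * x := by group
  rw [e] at h1
  have h2 : g * x * g⁻¹ * (h * y * h⁻¹) = g * (x * (g⁻¹ * h * y * (g⁻¹ * h)⁻¹)) * g⁻¹ := by group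
  have h3 : h * y * h⁻¹ * (g * x * g⁻¹) = g * ((g⁻¹ * h * y * (g⁻¹ * h)⁻¹) * x) * g⁻¹ := by group
  show g * x * g⁻¹ * (h * y * h⁻¹) = h * y * h⁻¹ * (g * x * g⁻¹)
  rw [h2, h3, h1.eq]

/-- an element of `r`-power order has a conjugate in any subgroup of index prime to `r`. -/
theorem exists_conj_mem_of_not_dvd_index [Finite G] {r k : ℕ} (hr : r.Prime) {x : G}
    (hxo : orderOf x = r ^ k) (N : Subgroup G) (hN : ¬ r ∣ N.index) :
    ∃ g : G, g * x * g⁻¹ ∈ N := by
  have : Fact r.Prime := ⟨hr⟩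
  obtain ⟨P, hP⟩ := Cfsg.Agent.S4127.exists_sylow_le (p := r) N hN
  have hzp : IsPGroup r (Subgroup.zpowers x) := by
    apply IsPGroup.of_card (n := k)
    rw [Nat.card_zpowers, hxo]
  obtain ⟨Q, hQ⟩ := hzp.exists_le_sylow
  have hxQ : x ∈ (Q : Subgroup G) := hQ (Subgroup.mem_zpowers x)
  obtain ⟨t, ht⟩ := MulAction.exists_smul_eq G P Q
  rw [← ht, Cfsg.Agent.S4127.mem_smul_sylow] at hxQ
  refine ⟨t⁻¹, ?_⟩
  rw [inv_inv]
  exact hP hxQ

/-- (B): a good element of class size `n` commutes with every element of class size `m`. -/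
theorem Hyp.good_commute [Finite G] (H : Hyp G n m) {x y : G} {r k : ℕ} (hr : r.Prime) (hrn : r ∣ n)
    (hxo : orderOf x = r ^ k) (hx : (Subgroup.centralizer ({x} : Set G)).index = n)
    (hy : (Subgroup.centralizer ({y} : Set G)).index = m) : Commute x y := by
  have hrm : ¬ r ∣ (Cz(y)).index := by
    rw [hy]
    intro h
    have := Nat.eq_one_of_dvd_coprimes H.cop hrn h
    exact hr.one_lt.ne' this
  obtain ⟨g, hg⟩ := exists_conj_mem_of_not_dvd_index hr hxo (Cz(y)) hrm
  have h1 : Commute (g * x * g⁻¹) y := (mem_Cz.1 hg : g * x * g⁻¹ * y = y * (g * x * g⁻¹))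
  have hcop : (Cz(g * x * g⁻¹)).index.Coprime (Cz(y)).index := by
    rw [index_Cz_conj, hx, hy]; exact H.cop
  have := commute_conj_of_coprime hcop h1 g⁻¹ 1
  simpa [mul_assoc] using this

/-- (D): the centralizer of an element of maximal class size `n * m` is minimal. -/
theorem Hyp.le_of_max [Finite G] (H : Hyp G n m) {g w : G}
    (hg : (Subgroup.centralizer ({g} : Set G)).index = n * m)
    (hw : w ∈ Subgroup.centralizer ({g} : Set G)) (hcop : (orderOf g).Coprime (orderOf w)) :
    Subgroup.centralizer ({g} : Set G) ≤ Subgroup.centralizer ({w} : Set G) := by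
  have hgw : Commute g w := ((mem_Cz.1 hw : w * g = g * w)).symm
  have h1 : Cz(g * w) = Cz(g) ⊓ Cz(w) := Cz_mul_of_coprime hgw hcop
  have hle : Cz(g * w) ≤ Cz(g) := h1 ▸ inf_le_left
  have hd : n * m ∣ (Cz(g * w)).index := hg ▸ Subgroup.index_dvd_of_le hle
  have hnm : (Cz(g * w)).index = n * m := by
    have hn := H.hn
    have hm := H.hm
    rcases H.idx_cases (g * w) with h | h | h | h
    · rw [h] at hd
      have := Nat.le_of_dvd Nat.one_pos hd
      nlinarith
    · rw [h] at hd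
      have := Nat.le_of_dvd H.n_pos hd
      nlinarith
    · rw [h] at hd
      have := Nat.le_of_dvd H.m_pos hd
      nlinarith
    · exact h
  have heq : Cz(g * w) = Cz(g) := eq_of_le_of_index_eq hle (by rw [hnm, hg])
  rw [← heq, h1]
  exact inf_le_right

/-- (E): primary elements for primes not dividing `n * m` are central. -/
theorem Hyp.central_of_not_dvd [Finite G] (H : Hyp G n m) {x : G} {r k : ℕ} (hr : r.Prime)
    (hxo : orderOf x = r ^ k) (hnd : ¬ r ∣ n * m) : x ∈ Subgroup.center G := by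
  have : Fact r.Prime := ⟨hr⟩
  have hrn : ¬ r ∣ n := fun h => hnd (Dvd.dvd.mul_right h m)
  have hrm : ¬ r ∣ m := fun h => hnd (Dvd.dvd.mul_left h n)
  have hall : ∀ z : G, ¬ r ∣ (Cz(z)).index := by
    intro z hdvd
    rcases H.idx_cases z with h1 | h1 | h1 | h1
    · rw [h1] at hdvd; exact hr.one_lt.ne' (Nat.dvd_one.1 hdvd)
    · rw [h1] at hdvd; exact hrn hdvd
    · rw [h1] at hdvd; exact hrm hdvd
    · rw [h1] at hdvd; exact hnd hdvd
  obtain ⟨D, _, hD2, hD3⟩ := Cfsg.Agent.S4127.thmT (L := G) r (fun z _ => hall z)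
  have hDle : D ≤ Cz(x) := fun d hd => mem_Cz.2 (hD3 d hd x ⟨k, hxo⟩)
  have h1 : (Cz(x)).index ∣ D.index := Subgroup.index_dvd_of_le hDle
  have h2 : D.index = r ^ (Nat.card G).factorization r := by
    have := Subgroup.card_mul_index D
    rw [← hD2] at this
    exact Nat.eq_of_mul_eq_mul_left Nat.card_pos this
  rw [h2] at h1
  obtain ⟨c, _, hc⟩ := (Nat.dvd_prime_pow hr).1 h1
  have hc0 : c = 0 := by
    by_contra hne
    exact hall x (hc ▸ dvd_pow_self r hne)
  rw [hc0, pow_zero] at hc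
  exact (index_Cz_eq_one_iff x).1 hc

/-- Lemma X: noncommuting elements of class sizes `n` and `m` never have a product of class size
`n * m`. -/
theorem Hyp.idx_mul_ne [Finite G] (H : Hyp G n m) {x y : G}
    (hx : (Subgroup.centralizer ({x} : Set G)).index = n)
    (hy : (Subgroup.centralizer ({y} : Set G)).index = m) (hxy : ¬ Commute x y) :
    (Subgroup.centralizer ({x * y} : Set G)).index ≠ n * m := by
  intro h
  have hcop : (Cz(x)).index.Coprime (Cz(y)).index := by rw [hx, hy]; exact H.cop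
  have h1 : (Cz(x) ⊓ Cz(y)).index = n * m := by
    rw [index_inf_of_coprime _ _ hcop, hx, hy]
  have hle : Cz(x) ⊓ Cz(y) ≤ Cz(x * y) := by
    intro g hg
    obtain ⟨h1, h2⟩ := Subgroup.mem_inf.1 hg
    rw [mem_Cz] at h1 h2 ⊢
    rw [← mul_assoc, h1, mul_assoc, h2, mul_assoc]
  have heq : Cz(x) ⊓ Cz(y) = Cz(x * y) := eq_of_le_of_index_eq hle (by rw [h1, h])
  have h2 : x * y ∈ Cz(x * y) := mem_Cz.2 rfl
  rw [← heq] at h2
  have h3 : x * y * x = x * (x * y) := mem_Cz.1 (Subgroup.mem_inf.1 h2).1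
  apply hxy
  show x * y = y * x
  have : x * (y * x) = x * (x * y) := by rw [← mul_assoc]; exact h3
  exact (mul_left_cancel this).symm

end Cfsg.Agent.Lib.Helper73.CT4
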