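import Mathlib

/-!
# K-IP CASE A leaf IPA-BETW (keystone 446324): a subgroup of prime index between `K` and `N`
-/

set_option autoImplicit false

namespace Cfsg.Agent.Lib.Helper73.IPA

universe u

theorem exists_between_index {G : Type u} [Group G] [Finite G] (K N : Subgroup G) [K.Normal] (hKN : K ≤ N)
    {r : ℕ} (hr : r.Prime) (hidx : ∃ a : ℕ, 0 < a ∧ K.relIndex N = r ^ a) :
    ∃ H : Subgroup G, K ≤ H ∧ H ≤ N ∧ H.relIndex N = r := by
  obtain ⟨a, ha, hidx⟩ := hidx
  haveI : Fact r.Prime := ⟨hr⟩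
  set K' : Subgroup N := K.subgroupOf N with hK'
  have hcard : Nat.card (N ⧸ K') = r ^ a := by
    rw [← Subgroup.index_eq_card]; exact hidx
  obtain ⟨M, hM⟩ := Sylow.exists_subgroup_card_pow_prime (G := N ⧸ K') r (n := a - 1)
    (by rw [hcard]; exact pow_dvd_pow r (Nat.sub_le a 1))
  set H' : Subgroup N := M.comap (QuotientGroup.mk' K') with hH'
  have hMidx : M.index = r := by
    have h1 := M.card_mul_index
    rw [hcard, hM] at h1
    have h2 : r ^ a = r ^ (a - 1) * r := by
      rw [← pow_succ]; congr 1; omega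
    rw [h2] at h1
    exact Nat.eq_of_mul_eq_mul_left (pow_pos hr.pos _) h1
  have hH'idx : H'.index = r := by
    rw [hH', Subgroup.index_comap_of_surjective _ (QuotientGroup.mk'_surjective K'), hMidx]
  refine ⟨H'.map N.subtype, ?_, Subgroup.map_subtype_le H', ?_⟩
  · intro k hk
    refine ⟨⟨k, hKN hk⟩, ?_, rfl⟩
    show QuotientGroup.mk' K' ⟨k, hKN hk⟩ ∈ M
    have : (QuotientGroup.mk' K') ⟨k, hKN hk⟩ = 1 :=
      (QuotientGroup.eq_one_iff _).2 (Subgroup.mem_subgroupOf.2 hk)
    rw [this]; exact M.one_mem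
  · have hsub : (H'.map N.subtype).subgroupOf N = H' := by
      ext x
      rw [Subgroup.mem_subgroupOf]
      constructor
      · rintro ⟨y, hy, hxy⟩
        have : y = x := Subtype.ext hxy
        rwa [← this]
      · intro hx
        exact ⟨x, hx, rfl⟩
    rw [Subgroup.relIndex, hsub]
    exact hH'idx

end Cfsg.Agent.Lib.Helper73.IPA
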