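import Mathlib
import Cfsg.Prelude.Def_Classical
import Cfsg.Agent.Lib.Helper99.HermONB
import Cfsg.Agent.Lib.Helper80.AschUONB
import Cfsg.Agent.Lib.Helper98.Elus15

/-!
# K-UNd (helper73): shared definitions for hermitian spaces over `F`, `|F| = q ^ 2`

Forms are plain functions `h : V → V → F` with `Cfsg.Agent.Lib.Helper99.HermONB.HForm q h`
(additive and `F`-linear in the first variable, `h y x = (h x y) ^ q`, nondegenerate on `V`).
`Inv`, `V0`, `V1`, `gsum` are the ones of `Cfsg.Agent.Lib.Helper98.Elus`.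
-/

set_option autoImplicit false

namespace Cfsg.Agent.Lib.Helper73.UNd

open Module Cfsg.Agent.Lib.Helper99.HermONB Cfsg.Agent.Lib.Helper98.Elus

universe u
variable {F : Type u} [Field F] {V : Type u} [AddCommGroup V] [Module F V]

/-- `W` is nondegenerate for `h` -/
def ND (h : V → V → F) (W : Submodule F V) : Prop :=
  ∀ u ∈ W, (∀ v ∈ W, h u v = 0) → u = 0

/-- `W` and `W'` are orthogonal for `h` -/
def Ort (h : V → V → F) (W W' : Submodule F V) : Prop :=
  ∀ u ∈ W, ∀ v ∈ W', h u v = 0

/-- `y` is an isometry of `h` -/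
def Isom (h : V → V → F) (y : V →ₗ[F] V) : Prop := ∀ u v, h (y u) (y v) = h u v

/-- `y` fixes a nondegenerate subspace of dimension `m` -/
def Fixes (h : V → V → F) (y : V →ₗ[F] V) (m : ℕ) : Prop :=
  ∃ W : Submodule F V, Inv y W ∧ ND h W ∧ finrank F W = m

/-- the orthogonal complement `{v | ∀ w ∈ W, h v w = 0}` -/
def perp {q : ℕ} {h : V → V → F} (hh : HForm q h) (W : Submodule F V) : Submodule F V where
  carrier := {v | ∀ w ∈ W, h v w = 0}
  add_mem' := by
    intro a b ha hb w hw
    rw [hh.add_left, ha w hw, hb w hw, add_zero]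
  zero_mem' := by
    intro w _
    exact hh.zero_left w
  smul_mem' := by
    intro c a ha w hw
    show h (c • a) w = 0
    rw [hh.smul_left, ha w hw, mul_zero]

theorem mem_perp {q : ℕ} {h : V → V → F} (hh : HForm q h) (W : Submodule F V) (v : V) :
    v ∈ perp hh W ↔ ∀ w ∈ W, h v w = 0 := Iff.rfl

/-- the unitary `c`: minimal dimension of a nondegenerate space carrying an isometry of odd prime
order `r ≠ p` without fixed vectors, `i` the order of `q` modulo `r` -/
def cU (i : ℕ) : ℕ := if i % 4 = 0 then i else if i % 4 = 2 then i / 2 else 2 * i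

/-- the standard hermitian form -/
theorem stdH_hform [Fintype F] {q : ℕ} (hF : Fintype.card F = q ^ 2) (n : ℕ) :
    HForm q (Cfsg.hermForm n F q) := by
  classical
  have hq0 : q ≠ 0 := (Cfsg.Agent.Lib.Helper19.q_pos hF).ne'
  refine ⟨?_, ?_, ?_, ?_⟩
  · intro x x' y
    simp only [Cfsg.hermForm, Pi.add_apply, add_mul, Finset.sum_add_distrib]
  · intro c x y
    simp only [Cfsg.hermForm, Pi.smul_apply, smul_eq_mul, Finset.mul_sum, mul_assoc]
  · intro x y
    simp only [Cfsg.hermForm]
    rw [Cfsg.Agent.Lib.Helper19.sum_pow_q hF]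
    apply Finset.sum_congr rfl
    intro i _
    rw [mul_pow, Cfsg.Agent.Lib.Helper19.pow_q_pow_q hF, mul_comm]
  · intro x hx
    funext i
    have := hx (Pi.single i 1)
    simp only [Cfsg.hermForm] at this
    rw [Finset.sum_eq_single i] at this
    · simpa using this
    · intro j _ hji
      rw [Pi.single_eq_of_ne hji, zero_pow hq0, mul_zero]
    · intro hi
      exact absurd (Finset.mem_univ i) hi

end Cfsg.Agent.Lib.Helper73.UNd
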