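import Mathlib
import Cfsg.Prelude.Def_GeometricClasses
import Cfsg.Agent.Lib.Helper84.AschUA2a

/-!
# Shared definitions for the `q = 2` degree-3 field leaf pack of S5802

`F` has four elements, `h = hermForm 6 F 2`, `K` is an adjoint-closed field subalgebra of degree 3 of the `6 × 6` matrices
(so `K` has 64 elements and `F^6` is a 2-dimensional `K`-space).  `adj hF` is helper84's adjoint
(`Cfsg.Agent.Lib.Helper84.AschU.adj`, `adj hF M i j = (M j i) ^ 2`, `h (M x) y = h x (adj hF M y)`).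

* `IsSA hF K a` : `a ∈ K` is self-adjoint (these form the subfield `K₀` with 8 elements).
* `IsHypPair K u v` : `u, v` is a hyperbolic pair of the `K`-hermitian form `H` with `h = Tr_{K/F} ∘ H`:
  `H u u = 0 = H v v`, `H u v = 1`, and `u, v` span `F^6` over `K`.
* `InV0 hF K u v x` : `x = a u + b v` with `a, b` self-adjoint: the `F₂`-structure `V₀ = K₀ u + K₀ v`.
-/

set_option autoImplicit false

namespace Cfsg.Agent.Lib.Helper73.SU6

open Cfsg Cfsg.Geo
open Cfsg.Agent.Lib.Helper84.AschU (adj adj_adj adj_mul adj_apply)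
open scoped Matrix MatrixGroups

variable {F : Type*} [Field F] [Fintype F]

/-- `a` is a self-adjoint element of `K`. -/
def IsSA (hF : Fintype.card F = 2 ^ 2) (K : Subalgebra F (Matrix (Fin 6) (Fin 6) F))
    (a : Matrix (Fin 6) (Fin 6) F) : Prop :=
  a ∈ K ∧ adj hF a = a

/-- `u, v` is a hyperbolic pair for the `K`-hermitian form underlying `hermForm 6 F 2`. -/
structure IsHypPair (K : Subalgebra F (Matrix (Fin 6) (Fin 6) F)) (u v : Fin 6 → F) : Prop where
  iso_u : ∀ k ∈ K, hermForm 6 F 2 (k *ᵥ u) u = 0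
  iso_v : ∀ k ∈ K, hermForm 6 F 2 (k *ᵥ v) v = 0
  pair : ∀ k ∈ K, (hermForm 6 F 2 (k *ᵥ u) v) • (1 : Matrix (Fin 6) (Fin 6) F) = k + k ^ 4 + k ^ 16
  span : ∀ x : Fin 6 → F, ∃ a ∈ K, ∃ b ∈ K, x = a *ᵥ u + b *ᵥ v

/-- The vectors `a u + b v` with `a, b` self-adjoint elements of `K`. -/
def InV0 (hF : Fintype.card F = 2 ^ 2) (K : Subalgebra F (Matrix (Fin 6) (Fin 6) F)) (u v x : Fin 6 → F) : Prop :=
  ∃ a b : Matrix (Fin 6) (Fin 6) F, IsSA hF K a ∧ IsSA hF K b ∧ x = a *ᵥ u + b *ᵥ v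

end Cfsg.Agent.Lib.Helper73.SU6
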