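import Mathlib

set_option autoImplicit false
set_option linter.deprecated false

/-!
# K-3806 pack (S3806), leaf F (parallel hand): the orders of the lower central terms of a
`p`-group of maximal class
-/

namespace Cfsg.Agent.Lib.Helper73.MC3806

open scoped commutatorElement

/-- if `L 1` has index `p` then `L 1 ≤ L 2` -/
theorem mc_f_lcs_one_le_two {S : Type*} [Group S] [Finite S] (p : ℕ) [Fact p.Prime]
    (hidx : Nat.card (S ⧸ (⊤ : Subgroup S).lowerCentralSeries 1) = p) :
    (⊤ : Subgroup S).lowerCentralSeries 1 ≤ (⊤ : Subgroup S).lowerCentralSeries 2 := by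
  set L1 := (⊤ : Subgroup S).lowerCentralSeries 1 with hL1
  set L2 := (⊤ : Subgroup S).lowerCentralSeries 2 with hL2
  have h21 : L2 ≤ L1 := Subgroup.lowerCentralSeries_antitone _ (by norm_num)
  have hL2' : L2 = ⁅L1, (⊤ : Subgroup S)⁆ := rfl
  have hcyc : IsCyclic (S ⧸ L1) := isCyclic_of_prime_card hidx
  let f : S ⧸ L2 →* S ⧸ L1 := QuotientGroup.map L2 L1 (MonoidHom.id S) (by
    rw [Subgroup.comap_id]; exact h21)
  have hker : f.ker ≤ Subgroup.center (S ⧸ L2) := by
    rw [QuotientGroup.ker_map, Subgroup.comap_id]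
    rintro _ ⟨x, hx, rfl⟩
    rw [Subgroup.mem_center_iff]
    intro y
    induction y using QuotientGroup.induction_on with
    | H y =>
      show (QuotientGroup.mk y : S ⧸ L2) * QuotientGroup.mk x = QuotientGroup.mk x * QuotientGroup.mk y
      rw [← QuotientGroup.mk_mul, ← QuotientGroup.mk_mul, QuotientGroup.eq]
      have h3 : (y * x)⁻¹ * (x * y) = ⁅x⁻¹, y⁻¹⁆ := by rw [commutatorElement_def]; group
      rw [h3, hL2']
      exact Subgroup.commutator_mem_commutator (L1.inv_mem hx) (Subgroup.mem_top _)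
  have hcomm : ∀ a b : S ⧸ L2, a * b = b * a := commutative_of_cyclic_center_quotient f hker
  have hL1' : L1 = ⁅(⊤ : Subgroup S), (⊤ : Subgroup S)⁆ := rfl
  rw [hL1', Subgroup.commutator_le]
  intro x _ y _
  have h := hcomm (QuotientGroup.mk y⁻¹) (QuotientGroup.mk x⁻¹)
  rw [← QuotientGroup.mk_mul, ← QuotientGroup.mk_mul, QuotientGroup.eq] at h
  have h5 : ⁅x, y⁆ = (y⁻¹ * x⁻¹)⁻¹ * (x⁻¹ * y⁻¹) := by rw [commutatorElement_def]; group
  rw [h5]
  exact h

/-- LEAF F -/
theorem maxclass_card {S : Type*} [Group S] [Finite S] (p : ℕ) [Fact p.Prime] (hS : IsPGroup p S)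
    [Group.IsNilpotent S] (n : ℕ) (hn : 3 ≤ n) (hcard : Nat.card S = p ^ n)
    (hmax : Group.nilpotencyClass S = n - 1) :
    ∀ i, 1 ≤ i → i ≤ n - 1 →
      Nat.card ((⊤ : Subgroup S).lowerCentralSeries i) = p ^ (n - 1 - i) := by
  have hp : p.Prime := Fact.out
  set L : ℕ → Subgroup S := fun i => (⊤ : Subgroup S).lowerCentralSeries i with hL
  have hanti : Antitone L := Subgroup.lowerCentralSeries_antitone _
  have hbot : L (n - 1) = ⊥ := by
    show (⊤ : Subgroup S).lowerCentralSeries (n - 1) = ⊥
    rw [← hmax]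
    exact Subgroup.lowerCentralSeries_nilpotencyClass
  have hne : ∀ i, i < n - 1 → L i ≠ ⊥ := by
    intro i hi h
    have := (Subgroup.lowerCentralSeries_eq_bot_iff_nilpotencyClass_le (G := S) (n := i)).1 h
    omega
  -- stationary forever
  have hstat : ∀ i, L (i + 1) = L i → ∀ j, L (i + j) = L i := by
    intro i h j
    induction j with
    | zero => rfl
    | succ j ih =>
      show (⊤ : Subgroup S).lowerCentralSeries (i + j + 1) = L i
      show ⁅L (i + j), (⊤ : Subgroup S)⁆ = L i
      rw [ih]
      exact h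
  have hlt : ∀ i, i < n - 1 → L (i + 1) < L i := by
    intro i hi
    refine lt_of_le_of_ne (hanti (Nat.le_succ i)) ?_
    intro h
    have h1 := hstat i h (n - 1 - i)
    rw [show i + (n - 1 - i) = n - 1 by omega, hbot] at h1
    exact hne i hi h1.symm
  -- the exponents
  have hexp : ∀ i, ∃ a, Nat.card (L i) = p ^ a := fun i =>
    (hS.to_subgroup (L i)).exists_card_eq
  choose a ha using hexp
  have ha0 : a 0 = n := by
    have h1 : Nat.card (L 0) = p ^ n := by
      show Nat.card ((⊤ : Subgroup S).lowerCentralSeries 0) = p ^ n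
      rw [Subgroup.lowerCentralSeries_zero, Subgroup.card_top, hcard]
    rw [ha 0] at h1
    exact Nat.pow_right_injective hp.two_le h1
  have halast : a (n - 1) = 0 := by
    have h1 : Nat.card (L (n - 1)) = p ^ 0 := by
      rw [hbot, Subgroup.card_bot, pow_zero]
    rw [ha (n - 1)] at h1
    exact Nat.pow_right_injective hp.two_le h1
  have hdec : ∀ i, i < n - 1 → a (i + 1) < a i := by
    intro i hi
    have h1 := hlt i hi
    have h2 : Nat.card (L (i + 1)) < Nat.card (L i) := by
      by_contra hge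
      exact (ne_of_lt h1) (Subgroup.eq_of_le_of_card_ge h1.le (not_lt.mp hge))
    rw [ha, ha] at h2
    exact (Nat.pow_lt_pow_iff_right hp.one_lt).1 h2
  -- the first step is a double step
  have ha1 : a 1 ≤ n - 2 := by
    by_contra hcon
    have h01 : a 1 < a 0 := hdec 0 (by omega)
    rw [ha0] at h01
    have h1 : a 1 = n - 1 := by omega
    have hidx : Nat.card (S ⧸ (⊤ : Subgroup S).lowerCentralSeries 1) = p := by
      have h2 := Subgroup.card_eq_card_quotient_mul_card_subgroup
        ((⊤ : Subgroup S).lowerCentralSeries 1)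
      have h3 : Nat.card ((⊤ : Subgroup S).lowerCentralSeries 1) = p ^ (n - 1) := by
        rw [← h1]; exact ha 1
      rw [hcard, h3, show n = (n - 1) + 1 by omega, pow_succ] at h2
      have hpos : 0 < p ^ (n - 1 + 1 - 1) := pow_pos hp.pos _
      have h4 : p ^ (n - 1 + 1 - 1) * p =
          Nat.card (S ⧸ (⊤ : Subgroup S).lowerCentralSeries 1) * p ^ (n - 1 + 1 - 1) := h2
      rw [mul_comm] at h4
      exact (Nat.eq_of_mul_eq_mul_right hpos h4).symm
    have h12 := mc_f_lcs_one_le_two p hidx
    exact absurd h12 (not_le_of_gt (hlt 1 (by omega)))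
  -- upper bound
  have hup : ∀ i, 1 ≤ i → i ≤ n - 1 → a i + i ≤ n - 1 := by
    intro i hi1
    induction i, hi1 using Nat.le_induction with
    | base => intro _; omega
    | succ i hi1 ih =>
      intro hi
      have := ih (by omega)
      have := hdec i (by omega)
      omega
  -- lower bound
  have hlow : ∀ k, k ≤ n - 1 → n - 1 - (n - 1 - k) ≤ a (n - 1 - k) + 0 ∧ k ≤ a (n - 1 - k) := by
    intro k
    induction k with
    | zero => intro _; omega
    | succ k ih =>
      intro hk
      have h1 := (ih (by omega)).2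
      have h2 := hdec (n - 1 - (k + 1)) (by omega)
      rw [show n - 1 - (k + 1) + 1 = n - 1 - k by omega] at h2
      omega
  intro i hi1 hi
  rw [show (⊤ : Subgroup S).lowerCentralSeries i = L i from rfl, ha i]
  congr 1
  have h1 := hup i hi1 hi
  have h2 := (hlow (n - 1 - i) (by omega)).2
  rw [show n - 1 - (n - 1 - i) = i by omega] at h2
  omega

end Cfsg.Agent.Lib.Helper73.MC3806
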