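import Mathlib
import Cfsg.Agent.S0022
import Cfsg.Agent.S0026
import Cfsg.Agent.Lib.Helper15.S3Defs

set_option autoImplicit false
set_option linter.unusedSectionVars false

/-!
Sub-task K15-D4 of S4305 (Shult): for `S₃` acting fixed-point-freely on a nilpotent group `Q`
of order prime to `6`, the derived subgroup `Q'` lies in `[Q, a]` for every `a ≠ 1` of `S₃`.
-/

namespace Cfsg.Agent.Lib.Helper73.S3D4

open Cfsg.Agent.Lib.Helper15.S3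

open scoped commutatorElement

/-! ### facts on `S₃` -/

/-- `c` is a `3`-cycle -/
def IsThree (c : Equiv.Perm (Fin 3)) : Prop := c * c * c = 1 ∧ c ≠ 1

/-- `t` is a transposition -/
def IsTr (t : Equiv.Perm (Fin 3)) : Prop := t * t = 1 ∧ t ≠ 1

instance (c : Equiv.Perm (Fin 3)) : Decidable (IsThree c) := by unfold IsThree; infer_instance

instance (t : Equiv.Perm (Fin 3)) : Decidable (IsTr t) := by unfold IsTr; infer_instance

theorem s3_cases : ∀ g : Equiv.Perm (Fin 3), g ≠ 1 →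
    (IsThree g ∧ ∃ t, IsTr t) ∨ (IsTr g ∧ ∃ c, IsThree c) := by
  decide

theorem s3_conj : ∀ c t : Equiv.Perm (Fin 3), IsThree c → IsTr t → t * c * t⁻¹ = c⁻¹ := by
  decide

theorem s3_conj' : ∀ c t : Equiv.Perm (Fin 3), IsThree c → IsTr t → t⁻¹ * c * t = c⁻¹ := by
  decide

set_option maxRecDepth 4000 in
theorem s3_all : ∀ c t : Equiv.Perm (Fin 3), IsThree c → IsTr t → ∀ h : Equiv.Perm (Fin 3),
    h = 1 ∨ h = c ∨ h = c * c ∨ h = t ∨ h = c * t * (c * c) ∨ h = c * c * t * c := by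
  decide

theorem s3_three_sq : ∀ c : Equiv.Perm (Fin 3), IsThree c → IsThree (c * c) := by decide

set_option maxRecDepth 4000 in
theorem s3_tr_conj : ∀ g t : Equiv.Perm (Fin 3), IsTr t → IsTr (g * t * g⁻¹) := by decide

set_option maxRecDepth 4000 in
theorem s3_tr_conj' : ∀ g t : Equiv.Perm (Fin 3), IsTr t → IsTr (g⁻¹ * t * g) := by decide

set_option maxRecDepth 8000 in
theorem s3_split : ∀ ta tb c : Equiv.Perm (Fin 3), IsTr ta → IsTr tb → ta ≠ tb → IsThree c →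
    ∃ p r : Equiv.Perm (Fin 3), IsTr p ∧ IsTr r ∧ c = p * r ∧
      ((p = ta ∧ p * r * p⁻¹ = tb) ∨ (p = tb ∧ p * r * p⁻¹ = ta)) := by
  decide

theorem s3_inv_three : ∀ c : Equiv.Perm (Fin 3), IsThree c → c⁻¹ = c * c := by decide

theorem s3_inv_tr : ∀ t : Equiv.Perm (Fin 3), IsTr t → t⁻¹ = t := by decide

/-- the three transpositions -/
theorem s3_tr_ne : ∀ c t : Equiv.Perm (Fin 3), IsThree c → IsTr t →
    t ≠ c * t * c⁻¹ ∧ t ≠ c⁻¹ * t * c ∧ c * t * c⁻¹ ≠ c⁻¹ * t * c := by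
  decide

theorem s3_tr_all : ∀ c t : Equiv.Perm (Fin 3), IsThree c → IsTr t → ∀ t' : Equiv.Perm (Fin 3),
    IsTr t' → t' = t ∨ t' = c * t * c⁻¹ ∨ t' = c⁻¹ * t * c := by
  decide

set_option maxRecDepth 8000 in
theorem s3_c_t2 : ∀ c t : Equiv.Perm (Fin 3), IsThree c → IsTr t →
    c * (c * t * c⁻¹) * c⁻¹ = c⁻¹ * t * c := by
  decide

set_option maxRecDepth 8000 in
theorem s3_t_t2 : ∀ c t : Equiv.Perm (Fin 3), IsThree c → IsTr t →
    t * (c * t * c⁻¹) * t⁻¹ = c⁻¹ * t * c := by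
  decide

set_option maxRecDepth 8000 in
theorem s3_t_t3 : ∀ c t : Equiv.Perm (Fin 3), IsThree c → IsTr t →
    t * (c⁻¹ * t * c) * t⁻¹ = c * t * c⁻¹ := by
  decide

/-! ### general lemmas -/

section general

/-- a fixed point free involutory automorphism of a finite group inverts every element -/
lemma inv_of_fpf_involution {X : Type*} [Group X] [Finite X] (σ : X →* X)
    (h2 : ∀ x, σ (σ x) = x) (hfpf : ∀ x, σ x = x → x = 1) : ∀ x : X, σ x = x⁻¹ := by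
  have hinj : Function.Injective (fun x : X => x⁻¹ * σ x) := by
    intro x y e
    have e' : x⁻¹ * σ x = y⁻¹ * σ y := e
    have h1 : σ (y * x⁻¹) = y * x⁻¹ := by
      have h3 : σ x = x * (y⁻¹ * σ y) := by rw [← e']; group
      rw [map_mul, map_inv, h3]; group
    have := hfpf _ h1
    exact (mul_inv_eq_one.1 this).symm
  have hsurj := Finite.surjective_of_injective hinj
  intro y
  obtain ⟨x, hx⟩ := hsurj y
  have hx' : x⁻¹ * σ x = y := hx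
  rw [← hx', map_mul, map_inv, h2]; group

lemma comm_of_fpf_involution {X : Type*} [Group X] [Finite X] (σ : X →* X)
    (h2 : ∀ x, σ (σ x) = x) (hfpf : ∀ x, σ x = x → x = 1) : ∀ x y : X, x * y = y * x := by
  have hinv := inv_of_fpf_involution σ h2 hfpf
  intro x y
  have h := hinv (x * y)
  rw [map_mul, hinv x, hinv y, mul_inv_rev] at h
  have h' := congrArg (fun z => z⁻¹) h
  simp only [mul_inv_rev, inv_inv] at h'
  exact h'.symm

variable {M : Type*} [Group M]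

/-- `Q` normalizes `[Q, B]` -/
lemma conj_mem_commutator_left (Q B : Subgroup M) {x : M} (hx : x ∈ Q) {l : M}
    (hl : l ∈ ⁅Q, B⁆) : x * l * x⁻¹ ∈ ⁅Q, B⁆ := by
  replace hl : l ∈ Subgroup.closure {g | ∃ g₁ ∈ Q, ∃ g₂ ∈ B, ⁅g₁, g₂⁆ = g} := hl
  show x * l * x⁻¹ ∈ Subgroup.closure {g | ∃ g₁ ∈ Q, ∃ g₂ ∈ B, ⁅g₁, g₂⁆ = g}
  induction hl using Subgroup.closure_induction with
  | mem g hg =>
    obtain ⟨y, hy, b, hb, rfl⟩ := hg
    have e : x * ⁅y, b⁆ * x⁻¹ = ⁅x * y, b⁆ * (⁅x, b⁆)⁻¹ := by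
      simp only [commutatorElement_def]; group
    rw [e]
    exact Subgroup.mul_mem ⁅Q, B⁆ (Subgroup.commutator_mem_commutator (Q.mul_mem hx hy) hb)
      (Subgroup.inv_mem _ (Subgroup.commutator_mem_commutator hx hb))
  | one => simp
  | mul a b _ _ ha hb =>
    have e : x * (a * b) * x⁻¹ = (x * a * x⁻¹) * (x * b * x⁻¹) := by group
    rw [e]; exact Subgroup.mul_mem _ ha hb
  | inv a _ ha =>
    have e : x * a⁻¹ * x⁻¹ = (x * a * x⁻¹)⁻¹ := by group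
    rw [e]; exact Subgroup.inv_mem _ ha

/-- conjugation maps `[Q, B]` into `[Q, B']` -/
lemma conj_mem_commutator_of (Q B B' : Subgroup M) (a : M) (haQ : ∀ x ∈ Q, a * x * a⁻¹ ∈ Q)
    (haB : ∀ b ∈ B, a * b * a⁻¹ ∈ B') {l : M} (hl : l ∈ ⁅Q, B⁆) : a * l * a⁻¹ ∈ ⁅Q, B'⁆ := by
  replace hl : l ∈ Subgroup.closure {g | ∃ g₁ ∈ Q, ∃ g₂ ∈ B, ⁅g₁, g₂⁆ = g} := hl
  induction hl using Subgroup.closure_induction with
  | mem g hg =>
    obtain ⟨y, hy, b, hb, rfl⟩ := hg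
    have e : a * ⁅y, b⁆ * a⁻¹ = ⁅a * y * a⁻¹, a * b * a⁻¹⁆ := by
      simp only [commutatorElement_def]; group
    rw [e]
    exact Subgroup.commutator_mem_commutator (haQ y hy) (haB b hb)
  | one => simp
  | mul x y _ _ hx hy =>
    have e : a * (x * y) * a⁻¹ = (a * x * a⁻¹) * (a * y * a⁻¹) := by group
    rw [e]; exact Subgroup.mul_mem _ hx hy
  | inv x _ hx =>
    have e : a * x⁻¹ * a⁻¹ = (a * x * a⁻¹)⁻¹ := by group
    rw [e]; exact Subgroup.inv_mem _ hx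

lemma le_normalizer_of_conj_mem (A N : Subgroup M) (h : ∀ a ∈ A, ∀ n ∈ N, a * n * a⁻¹ ∈ N) :
    A ≤ Subgroup.normalizer (N : Set M) :=
  Subgroup.le_normalizer_iff.2 h

lemma commutator_le_left_of_normalizer (Q B : Subgroup M)
    (hB : B ≤ Subgroup.normalizer (Q : Set M)) : ⁅Q, B⁆ ≤ Q := by
  rw [Subgroup.commutator_le]
  intro y hy b hb
  have h1 : b * y⁻¹ * b⁻¹ ∈ Q := (Subgroup.le_normalizer_iff.1 hB) b hb y⁻¹ (Q.inv_mem hy)
  have e : ⁅y, b⁆ = y * (b * y⁻¹ * b⁻¹) := by simp only [commutatorElement_def]; group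
  rw [e]
  exact Q.mul_mem hy h1

/-- commutators modulo a subgroup normalized by `Q` -/
lemma comm_mem_of_mul_left {Q L : Subgroup M} (hQL : ∀ x ∈ Q, ∀ l ∈ L, x * l * x⁻¹ ∈ L)
    {l x y : M} (hl : l ∈ L) (hy : y ∈ Q) (h : ⁅x, y⁆ ∈ L) : ⁅l * x, y⁆ ∈ L := by
  have e : ⁅l * x, y⁆ = l * ⁅x, y⁆ * (y * l⁻¹ * y⁻¹) := by
    simp only [commutatorElement_def]; group
  rw [e]
  exact L.mul_mem (L.mul_mem hl h) (hQL y hy _ (L.inv_mem hl))

lemma comm_mem_of_mul_right {Q L : Subgroup M} (hQL : ∀ x ∈ Q, ∀ l ∈ L, x * l * x⁻¹ ∈ L)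
    {l x y : M} (hl : l ∈ L) (hx : x ∈ Q) (h : ⁅x, y⁆ ∈ L) : ⁅x, l * y⁆ ∈ L := by
  have e : ⁅x, l * y⁆ = (x * l * x⁻¹) * ⁅x, y⁆ * l⁻¹ := by
    simp only [commutatorElement_def]; group
  rw [e]
  exact L.mul_mem (L.mul_mem (hQL x hx _ hl) h) (L.inv_mem hl)

/-- elements of `L ⊔ C` are products when `C` normalizes `L` -/
lemma exists_mul_of_mem_sup {L C : Subgroup M} (hCL : ∀ c ∈ C, ∀ l ∈ L, c * l * c⁻¹ ∈ L)
    {x : M} (hx : x ∈ L ⊔ C) : ∃ l ∈ L, ∃ c ∈ C, x = l * c := by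
  rw [Subgroup.sup_eq_closure] at hx
  induction hx using Subgroup.closure_induction with
  | mem g hg =>
    rcases hg with hg | hg
    · exact ⟨g, hg, 1, C.one_mem, by rw [mul_one]⟩
    · exact ⟨1, L.one_mem, g, hg, by rw [one_mul]⟩
  | one => exact ⟨1, L.one_mem, 1, C.one_mem, by rw [mul_one]⟩
  | mul a b _ _ ha hb =>
    obtain ⟨l, hl, c, hc, rfl⟩ := ha
    obtain ⟨l', hl', c', hc', rfl⟩ := hb
    refine ⟨l * (c * l' * c⁻¹), L.mul_mem hl (hCL c hc l' hl'), c * c', C.mul_mem hc hc', ?_⟩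
    group
  | inv a _ ha =>
    obtain ⟨l, hl, c, hc, rfl⟩ := ha
    refine ⟨c⁻¹ * l⁻¹ * c⁻¹⁻¹, hCL c⁻¹ (C.inv_mem hc) l⁻¹ (L.inv_mem hl), c⁻¹, C.inv_mem hc, ?_⟩
    group

/-- a join of subgroups normalized by `Q` is normalized by `Q` -/
lemma conj_mem_sup {Q A B : Subgroup M} (hA : ∀ x ∈ Q, ∀ l ∈ A, x * l * x⁻¹ ∈ A)
    (hB : ∀ x ∈ Q, ∀ l ∈ B, x * l * x⁻¹ ∈ B) : ∀ x ∈ Q, ∀ l ∈ A ⊔ B, x * l * x⁻¹ ∈ A ⊔ B := by
  intro x hx l hl
  have h1 : (A ⊔ B).map (MulAut.conj x).toMonoidHom ≤ A ⊔ B := by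
    rw [Subgroup.map_sup]
    apply sup_le_sup
    · rintro _ ⟨a, ha, rfl⟩
      exact hA x hx a ha
    · rintro _ ⟨b, hb, rfl⟩
      exact hB x hx b hb
  exact h1 ⟨l, hl, rfl⟩

lemma mem_zpowers_three {s z : M} (hs : s * s * s = 1) (hz : z ∈ Subgroup.zpowers s) :
    z = 1 ∨ z = s ∨ z = s * s := by
  obtain ⟨k, rfl⟩ := Subgroup.mem_zpowers_iff.1 hz
  have h3 : s ^ (3 : ℕ) = 1 := by rw [pow_succ, pow_two]; exact hs
  rw [zpow_eq_zpow_emod' k h3]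
  have h1 : 0 ≤ k % ((3 : ℕ) : ℤ) := Int.emod_nonneg _ (by norm_num)
  have h2 : k % ((3 : ℕ) : ℤ) < 3 := Int.emod_lt_of_pos _ (by norm_num)
  obtain ⟨j, hj⟩ : ∃ j : ℕ, k % ((3 : ℕ) : ℤ) = j := ⟨(k % ((3 : ℕ) : ℤ)).toNat, by omega⟩
  rw [hj, zpow_natCast]
  have hj3 : j < 3 := by omega
  interval_cases j
  · left; simp
  · right; left; simp
  · right; right; rw [pow_two]

end general

/-! ### the `S₃`-context -/

section ctx

variable {M : Type*} [Group M] [Finite M]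

/-- the standing hypotheses -/
structure Ctx (α : Equiv.Perm (Fin 3) →* M) (Q : Subgroup M) : Prop where
  hinv : AInv α Q
  hfpf : AFpf α Q
  hcop : (Nat.card Q).Coprime 6
  hsolv : Group.IsSolvable Q

variable {α : Equiv.Perm (Fin 3) →* M} {Q : Subgroup M}

lemma Ctx.range_le_normalizer (h : Ctx α Q) : α.range ≤ Subgroup.normalizer (Q : Set M) := by
  apply le_normalizer_of_conj_mem
  rintro _ ⟨g, rfl⟩ x hx
  exact h.hinv g x hx

lemma Ctx.card_range_coprime (h : Ctx α Q) : (Nat.card α.range).Coprime (Nat.card Q) := by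
  have h1 : Nat.card α.range ∣ 6 := by
    have := Subgroup.card_range_dvd α
    have e : Nat.card (Equiv.Perm (Fin 3)) = 6 := by
      rw [Nat.card_eq_fintype_card, Fintype.card_perm, Fintype.card_fin]; rfl
    rwa [e] at this
  exact Nat.Coprime.coprime_dvd_left h1 h.hcop.symm

/-- (FS): fixed cosets of invariant normal subgroups contain no new elements -/
lemma Ctx.FS (h : Ctx α Q) (N : Subgroup M) (hNQ : N ≤ Q)
    (hQN : ∀ x ∈ Q, ∀ n ∈ N, x * n * x⁻¹ ∈ N)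
    (hAN : ∀ g : Equiv.Perm (Fin 3), ∀ n ∈ N, α g * n * (α g)⁻¹ ∈ N) {x : M} (hx : x ∈ Q)
    (hfix : ∀ g : Equiv.Perm (Fin 3), α g * x * (α g)⁻¹ * x⁻¹ ∈ N) : x ∈ N := by
  obtain ⟨c, hc, hxc⟩ := Cfsg.Agent.S0022.result α.range Q h.range_le_normalizer
    h.card_range_coprime (Or.inr h.hsolv) N hNQ (le_normalizer_of_conj_mem Q N hQN)
    (le_normalizer_of_conj_mem α.range N (by rintro _ ⟨g, rfl⟩ n hn; exact hAN g n hn))
    x hx (by rintro _ ⟨g, rfl⟩; exact hfix g)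
  obtain ⟨hcQ, hcA⟩ := Subgroup.mem_inf.1 hc
  have hc1 : c = 1 := by
    apply h.hfpf c hcQ
    intro g
    exact (Subgroup.mem_centralizer_iff.1 hcA) (α g) ⟨g, rfl⟩
  rw [hc1, mul_one] at hxc
  have := N.inv_mem hxc
  rwa [inv_inv] at this

/-- (FS) with the conditions checked on generators only -/
lemma Ctx.FS' (h : Ctx α Q) {c t : Equiv.Perm (Fin 3)} (hc : IsThree c) (ht : IsTr t)
    (N : Subgroup M) (hNQ : N ≤ Q) (hQN : ∀ x ∈ Q, ∀ n ∈ N, x * n * x⁻¹ ∈ N)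
    (hsN : ∀ n ∈ N, α c * n * (α c)⁻¹ ∈ N) (htN : ∀ n ∈ N, α t * n * (α t)⁻¹ ∈ N)
    {x : M} (hx : x ∈ Q) (hxs : α c * x * (α c)⁻¹ * x⁻¹ ∈ N)
    (hxt : α t * x * (α t)⁻¹ * x⁻¹ ∈ N) : x ∈ N := by
  have hmul : ∀ a b : M, ((∀ n ∈ N, a * n * a⁻¹ ∈ N) ∧ a * x * a⁻¹ * x⁻¹ ∈ N) →
      ((∀ n ∈ N, b * n * b⁻¹ ∈ N) ∧ b * x * b⁻¹ * x⁻¹ ∈ N) →
      ((∀ n ∈ N, (a * b) * n * (a * b)⁻¹ ∈ N) ∧ (a * b) * x * (a * b)⁻¹ * x⁻¹ ∈ N) := by
    rintro a b ⟨ha1, ha2⟩ ⟨hb1, hb2⟩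
    constructor
    · intro n hn
      have e : (a * b) * n * (a * b)⁻¹ = a * (b * n * b⁻¹) * a⁻¹ := by group
      rw [e]; exact ha1 _ (hb1 n hn)
    · have e : (a * b) * x * (a * b)⁻¹ * x⁻¹ =
          (a * (b * x * b⁻¹ * x⁻¹) * a⁻¹) * (a * x * a⁻¹ * x⁻¹) := by group
      rw [e]; exact N.mul_mem (ha1 _ hb2) ha2
  have h1 : (∀ n ∈ N, (1 : M) * n * (1 : M)⁻¹ ∈ N) ∧ (1 : M) * x * (1 : M)⁻¹ * x⁻¹ ∈ N := by
    constructor
    · intro n hn; simpa using hn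
    · simp
  have hs : (∀ n ∈ N, α c * n * (α c)⁻¹ ∈ N) ∧ α c * x * (α c)⁻¹ * x⁻¹ ∈ N := ⟨hsN, hxs⟩
  have hu : (∀ n ∈ N, α t * n * (α t)⁻¹ ∈ N) ∧ α t * x * (α t)⁻¹ * x⁻¹ ∈ N := ⟨htN, hxt⟩
  have hall : ∀ g : Equiv.Perm (Fin 3),
      (∀ n ∈ N, α g * n * (α g)⁻¹ ∈ N) ∧ α g * x * (α g)⁻¹ * x⁻¹ ∈ N := by
    intro g
    rcases s3_all c t hc ht g with rfl | rfl | rfl | rfl | rfl | rfl
    · rw [map_one]; exact h1
    · exact hs
    · rw [map_mul]; exact hmul _ _ hs hs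
    · exact hu
    · rw [map_mul, map_mul, map_mul]; exact hmul _ _ (hmul _ _ hs hu) (hmul _ _ hs hs)
    · rw [map_mul, map_mul, map_mul]; exact hmul _ _ (hmul _ _ (hmul _ _ hs hs) hu) hs
  exact h.FS N hNQ hQN (fun g => (hall g).1) hx (fun g => (hall g).2)

lemma commute_all {c t : Equiv.Perm (Fin 3)} (hc : IsThree c) (ht : IsTr t) {y : M}
    (hs : α c * y = y * α c) (hu : α t * y = y * α t) :
    ∀ g : Equiv.Perm (Fin 3), α g * y = y * α g := by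
  have Cs : Commute (α c) y := hs
  have Cu : Commute (α t) y := hu
  intro g
  rcases s3_all c t hc ht g with rfl | rfl | rfl | rfl | rfl | rfl
  · rw [map_one, one_mul, mul_one]
  · exact hs
  · rw [map_mul]; exact (Cs.mul_left Cs).eq
  · exact hu
  · rw [map_mul, map_mul, map_mul]; exact ((Cs.mul_left Cu).mul_left (Cs.mul_left Cs)).eq
  · rw [map_mul, map_mul, map_mul]; exact (((Cs.mul_left Cs).mul_left Cu).mul_left Cs).eq

/-- a transposition inverts the fixed points of a `3`-cycle, which commute pairwise -/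
lemma Ctx.inv_on_fix (h : Ctx α Q) {c t : Equiv.Perm (Fin 3)} (hc : IsThree c) (ht : IsTr t) :
    (∀ x ∈ Q, α c * x = x * α c → α t * x * (α t)⁻¹ = x⁻¹) ∧
    (∀ x ∈ Q, α c * x = x * α c → ∀ y ∈ Q, α c * y = y * α c → x * y = y * x) := by
  have hconj : (α t)⁻¹ * α c * α t = (α c)⁻¹ := by
    rw [← map_inv, ← map_mul, ← map_mul, s3_conj' c t hc ht, map_inv]
  have huu : α t * α t = 1 := by rw [← map_mul, ht.1, map_one]
  have hmem : ∀ y : M, y ∈ Q ⊓ Subgroup.centralizer ({α c} : Set M) →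
      α t * y * (α t)⁻¹ ∈ Q ⊓ Subgroup.centralizer ({α c} : Set M) := by
    intro y hy
    obtain ⟨hyQ, hyc⟩ := Subgroup.mem_inf.1 hy
    rw [Subgroup.mem_centralizer_singleton_iff] at hyc
    refine Subgroup.mem_inf.2 ⟨h.hinv t y hyQ, ?_⟩
    rw [Subgroup.mem_centralizer_singleton_iff]
    have hys : y * (α c)⁻¹ = (α c)⁻¹ * y := by
      calc y * (α c)⁻¹ = (α c)⁻¹ * (α c * y) * (α c)⁻¹ := by group
        _ = (α c)⁻¹ * (y * α c) * (α c)⁻¹ := by rw [hyc]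
        _ = (α c)⁻¹ * y := by group
    calc (α t * y * (α t)⁻¹) * α c = α t * (y * ((α t)⁻¹ * α c * α t)) * (α t)⁻¹ := by group
      _ = α t * (y * (α c)⁻¹) * (α t)⁻¹ := by rw [hconj]
      _ = α t * ((α c)⁻¹ * y) * (α t)⁻¹ := by rw [hys]
      _ = α t * (((α t)⁻¹ * α c * α t) * y) * (α t)⁻¹ := by rw [hconj]
      _ = α c * (α t * y * (α t)⁻¹) := by group
  let σ : ↥(Q ⊓ Subgroup.centralizer ({α c} : Set M)) →*
      ↥(Q ⊓ Subgroup.centralizer ({α c} : Set M)) :=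
    MonoidHom.mk' (fun y => ⟨α t * (y : M) * (α t)⁻¹, hmem _ y.2⟩) (by
      intro a b
      apply Subtype.ext
      show α t * ((a : M) * (b : M)) * (α t)⁻¹ =
        (α t * (a : M) * (α t)⁻¹) * (α t * (b : M) * (α t)⁻¹)
      group)
  have hσ : ∀ y : ↥(Q ⊓ Subgroup.centralizer ({α c} : Set M)),
      ((σ y : ↥(Q ⊓ Subgroup.centralizer ({α c} : Set M))) : M) = α t * (y : M) * (α t)⁻¹ :=
    fun y => rfl
  have h2 : ∀ y, σ (σ y) = y := by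
    intro y
    apply Subtype.ext
    rw [hσ, hσ]
    calc α t * (α t * (y : M) * (α t)⁻¹) * (α t)⁻¹ = (α t * α t) * (y : M) * (α t * α t)⁻¹ := by
          group
      _ = (y : M) := by rw [huu]; simp
  have hfpf : ∀ y, σ y = y → y = 1 := by
    intro y hy
    have e : α t * (y : M) * (α t)⁻¹ = (y : M) := by rw [← hσ, hy]
    have hu : α t * (y : M) = (y : M) * α t := by
      calc α t * (y : M) = α t * (y : M) * (α t)⁻¹ * α t := by group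
        _ = (y : M) * α t := by rw [e]
    obtain ⟨hyQ, hyc⟩ := Subgroup.mem_inf.1 y.2
    rw [Subgroup.mem_centralizer_singleton_iff] at hyc
    apply Subtype.ext
    exact h.hfpf _ hyQ (commute_all hc ht hyc.symm hu)
  have hin := inv_of_fpf_involution σ h2 hfpf
  have hco := comm_of_fpf_involution σ h2 hfpf
  constructor
  · intro x hxQ hxs
    have hx : x ∈ Q ⊓ Subgroup.centralizer ({α c} : Set M) :=
      Subgroup.mem_inf.2 ⟨hxQ, Subgroup.mem_centralizer_singleton_iff.2 hxs.symm⟩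
    have := congrArg Subtype.val (hin ⟨x, hx⟩)
    exact this
  · intro x hxQ hxs y hyQ hys
    have hx : x ∈ Q ⊓ Subgroup.centralizer ({α c} : Set M) :=
      Subgroup.mem_inf.2 ⟨hxQ, Subgroup.mem_centralizer_singleton_iff.2 hxs.symm⟩
    have hy : y ∈ Q ⊓ Subgroup.centralizer ({α c} : Set M) :=
      Subgroup.mem_inf.2 ⟨hyQ, Subgroup.mem_centralizer_singleton_iff.2 hys.symm⟩
    have := congrArg Subtype.val (hco ⟨x, hx⟩ ⟨y, hy⟩)
    exact this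

/-- decomposition of `Q` under the cyclic group generated by `α g` -/
lemma Ctx.decomp (h : Ctx α Q) (g : Equiv.Perm (Fin 3)) :
    ⁅Q, Subgroup.zpowers (α g)⁆ ⊔ (Q ⊓ Subgroup.centralizer (Subgroup.zpowers (α g) : Set M)) = Q := by
  have hle : Subgroup.zpowers (α g) ≤ α.range := Subgroup.zpowers_le.2 ⟨g, rfl⟩
  apply Cfsg.Agent.S0026.result (Subgroup.zpowers (α g)) Q (hle.trans h.range_le_normalizer)
    _ (Or.inr h.hsolv)
  exact Nat.Coprime.coprime_dvd_left (Subgroup.card_dvd_of_le hle) h.card_range_coprime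

lemma Ctx.comm_le (h : Ctx α Q) (g : Equiv.Perm (Fin 3)) :
    ⁅Q, Subgroup.zpowers (α g)⁆ ≤ Q := by
  apply commutator_le_left_of_normalizer
  exact (Subgroup.zpowers_le.2 ⟨g, rfl⟩ : Subgroup.zpowers (α g) ≤ α.range).trans
    h.range_le_normalizer

/-- fixed points of a `3`-cycle lie in `[Q, t]` for every transposition `t` -/
lemma Ctx.fix_le (h : Ctx α Q) {c t : Equiv.Perm (Fin 3)} (hc : IsThree c) (ht : IsTr t)
    {x : M} (hx : x ∈ Q) (hxs : α c * x = x * α c) : x ∈ ⁅Q, Subgroup.zpowers (α t)⁆ := by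
  have hinv := (h.inv_on_fix hc ht).1 x hx hxs
  have h1 : ⁅x, α t⁆ = x ^ 2 := by
    have e : ⁅x, α t⁆ = x * (α t * x * (α t)⁻¹)⁻¹ := by
      simp only [commutatorElement_def]; group
    rw [e, hinv, inv_inv, pow_two]
  have h2 : x ^ 2 ∈ ⁅Q, Subgroup.zpowers (α t)⁆ := by
    rw [← h1]
    exact Subgroup.commutator_mem_commutator hx (Subgroup.mem_zpowers _)
  have hord : orderOf x ∣ Nat.card Q := Subgroup.orderOf_dvd_natCard Q hx
  have hcop : Nat.Coprime 2 (orderOf x) := by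
    have h6 : (Nat.card Q).Coprime 2 := Nat.Coprime.coprime_dvd_right (by norm_num) h.hcop
    exact (Nat.Coprime.coprime_dvd_left hord h6).symm
  obtain ⟨m, hm⟩ := exists_pow_eq_self_of_coprime hcop
  rw [← hm]
  exact Subgroup.pow_mem _ h2 m

/-- Theorem A: `Q' ≤ [Q, c]` for a `3`-cycle `c` -/
lemma Ctx.thmA (h : Ctx α Q) {c t : Equiv.Perm (Fin 3)} (hc : IsThree c) (ht : IsTr t) :
    ⁅Q, Q⁆ ≤ ⁅Q, Subgroup.zpowers (α c)⁆ := by
  have hdec := h.decomp c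
  have hQL : ∀ x ∈ Q, ∀ l ∈ ⁅Q, Subgroup.zpowers (α c)⁆, x * l * x⁻¹ ∈ ⁅Q, Subgroup.zpowers (α c)⁆ :=
    fun x hx l hl => conj_mem_commutator_left Q _ hx hl
  have hCL : ∀ d ∈ Q ⊓ Subgroup.centralizer (Subgroup.zpowers (α c) : Set M),
      ∀ l ∈ ⁅Q, Subgroup.zpowers (α c)⁆, d * l * d⁻¹ ∈ ⁅Q, Subgroup.zpowers (α c)⁆ :=
    fun d hd l hl => hQL d (Subgroup.mem_inf.1 hd).1 l hl
  have hfix : ∀ d ∈ Q ⊓ Subgroup.centralizer (Subgroup.zpowers (α c) : Set M),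
      d ∈ Q ∧ α c * d = d * α c := by
    intro d hd
    obtain ⟨hdQ, hdc⟩ := Subgroup.mem_inf.1 hd
    exact ⟨hdQ, (Subgroup.mem_centralizer_iff.1 hdc) (α c) (Subgroup.mem_zpowers _)⟩
  rw [Subgroup.commutator_le]
  intro x hx y hy
  have hx' : x ∈ ⁅Q, Subgroup.zpowers (α c)⁆ ⊔
      (Q ⊓ Subgroup.centralizer (Subgroup.zpowers (α c) : Set M)) := by rw [hdec]; exact hx
  have hy' : y ∈ ⁅Q, Subgroup.zpowers (α c)⁆ ⊔
      (Q ⊓ Subgroup.centralizer (Subgroup.zpowers (α c) : Set M)) := by rw [hdec]; exact hy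
  obtain ⟨l, hl, d, hd, rfl⟩ := exists_mul_of_mem_sup hCL hx'
  obtain ⟨l', hl', d', hd', rfl⟩ := exists_mul_of_mem_sup hCL hy'
  obtain ⟨hdQ, hds⟩ := hfix d hd
  obtain ⟨hdQ', hds'⟩ := hfix d' hd'
  apply comm_mem_of_mul_left hQL hl hy
  apply comm_mem_of_mul_right hQL hl' hdQ
  have hcomm := (h.inv_on_fix hc ht).2 d hdQ hds d' hdQ' hds'
  have e : ⁅d, d'⁆ = 1 := by
    rw [commutatorElement_def, hcomm]; group
  rw [e]
  exact Subgroup.one_mem _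

/-- `Q = [Q, ta][Q, tb]` for distinct transpositions -/
lemma Ctx.le_sup_tr (h : Ctx α Q) {c ta tb : Equiv.Perm (Fin 3)} (hc : IsThree c)
    (hta : IsTr ta) (htb : IsTr tb) (hne : ta ≠ tb) :
    Q ≤ ⁅Q, Subgroup.zpowers (α ta)⁆ ⊔ ⁅Q, Subgroup.zpowers (α tb)⁆ := by
  -- commutators with `3`-cycles
  have key : ∀ c' : Equiv.Perm (Fin 3), IsThree c' → ∀ x ∈ Q,
      ⁅x, α c'⁆ ∈ ⁅Q, Subgroup.zpowers (α ta)⁆ ⊔ ⁅Q, Subgroup.zpowers (α tb)⁆ := by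
    intro c' hc' x hx
    obtain ⟨p, r, hp, hr, hpr, hcase⟩ := s3_split ta tb c' hta htb hne hc'
    have e : ⁅x, α c'⁆ = ⁅x, α p⁆ * ⁅α p * x * (α p)⁻¹, α (p * r * p⁻¹)⁆ := by
      rw [hpr, map_mul, map_mul, map_mul, map_inv]
      simp only [commutatorElement_def]; group
    rw [e]
    have h1 : ⁅x, α p⁆ ∈ ⁅Q, Subgroup.zpowers (α p)⁆ :=
      Subgroup.commutator_mem_commutator hx (Subgroup.mem_zpowers _)
    have h2 : ⁅α p * x * (α p)⁻¹, α (p * r * p⁻¹)⁆ ∈ ⁅Q, Subgroup.zpowers (α (p * r * p⁻¹))⁆ :=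
      Subgroup.commutator_mem_commutator (h.hinv p x hx) (Subgroup.mem_zpowers _)
    rcases hcase with ⟨hpa, hprb⟩ | ⟨hpb, hpra⟩
    · have h1' : ⁅x, α p⁆ ∈ ⁅Q, Subgroup.zpowers (α ta)⁆ := by rw [← hpa]; exact h1
      have h2' : ⁅α p * x * (α p)⁻¹, α (p * r * p⁻¹)⁆ ∈ ⁅Q, Subgroup.zpowers (α tb)⁆ := by
        rw [← hprb]; exact h2
      exact Subgroup.mul_mem _ (Subgroup.mem_sup_left h1') (Subgroup.mem_sup_right h2')
    · have h1' : ⁅x, α p⁆ ∈ ⁅Q, Subgroup.zpowers (α tb)⁆ := by rw [← hpb]; exact h1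
      have h2' : ⁅α p * x * (α p)⁻¹, α (p * r * p⁻¹)⁆ ∈ ⁅Q, Subgroup.zpowers (α ta)⁆ := by
        rw [← hpra]; exact h2
      exact Subgroup.mul_mem _ (Subgroup.mem_sup_right h1') (Subgroup.mem_sup_left h2')
  have hL : ⁅Q, Subgroup.zpowers (α c)⁆ ≤
      ⁅Q, Subgroup.zpowers (α ta)⁆ ⊔ ⁅Q, Subgroup.zpowers (α tb)⁆ := by
    rw [Subgroup.commutator_le]
    intro x hx z hz
    have hs3 : α c * α c * α c = 1 := by rw [← map_mul, ← map_mul, hc.1, map_one]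
    rcases mem_zpowers_three hs3 hz with rfl | rfl | rfl
    · rw [commutatorElement_one_right]; exact Subgroup.one_mem _
    · exact key c hc x hx
    · rw [← map_mul]; exact key (c * c) (s3_three_sq c hc) x hx
  have hC : Q ⊓ Subgroup.centralizer (Subgroup.zpowers (α c) : Set M) ≤
      ⁅Q, Subgroup.zpowers (α ta)⁆ ⊔ ⁅Q, Subgroup.zpowers (α tb)⁆ := by
    intro d hd
    obtain ⟨hdQ, hdc⟩ := Subgroup.mem_inf.1 hd
    have hds : α c * d = d * α c :=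
      (Subgroup.mem_centralizer_iff.1 hdc) (α c) (Subgroup.mem_zpowers _)
    exact Subgroup.mem_sup_left (h.fix_le hc hta hdQ hds)
  calc Q = ⁅Q, Subgroup.zpowers (α c)⁆ ⊔
        (Q ⊓ Subgroup.centralizer (Subgroup.zpowers (α c) : Set M)) := (h.decomp c).symm
    _ ≤ _ := sup_le hL hC

end ctx

/-! ### the central element and the norm calculation -/

section general2

variable {M : Type*} [Group M]

/-- in a nilpotent group `Q`, a `Q`-invariant subgroup `I ≤ Q` not contained in `N` has an element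
outside `N` which is central in `Q` modulo `N` -/
lemma exists_central_mod (Q I N : Subgroup M) (hnil : Group.IsNilpotent Q) (hIQ : I ≤ Q)
    (hQI : ∀ x ∈ Q, ∀ l ∈ I, x * l * x⁻¹ ∈ I) (hIN : ¬ I ≤ N) :
    ∃ z ∈ I, z ∉ N ∧ ∀ y ∈ Q, ⁅z, y⁆ ∈ N := by
  classical
  obtain ⟨n, hn⟩ := (Subgroup.isNilpotent_iff_lowerCentralSeries Q).1 hnil
  have hex : ∃ k, I ⊓ Q.lowerCentralSeries k ≤ N := ⟨n, by rw [hn, inf_bot_eq]; exact bot_le⟩
  have hk0 : Nat.find hex ≠ 0 := by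
    intro h0
    have h1 := Nat.find_spec hex
    rw [h0, Subgroup.lowerCentralSeries_zero, inf_eq_left.2 hIQ] at h1
    exact hIN h1
  obtain ⟨k, hk⟩ := Nat.exists_eq_succ_of_ne_zero hk0
  have hk1 : ¬ I ⊓ Q.lowerCentralSeries k ≤ N := Nat.find_min hex (by rw [hk]; exact Nat.lt_succ_self k)
  have hk2 : I ⊓ Q.lowerCentralSeries (k + 1) ≤ N := by
    have := Nat.find_spec hex
    rwa [hk] at this
  obtain ⟨z, hz, hzN⟩ := SetLike.not_le_iff_exists.1 hk1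
  obtain ⟨hzI, hzk⟩ := Subgroup.mem_inf.1 hz
  refine ⟨z, hzI, hzN, ?_⟩
  intro y hy
  apply hk2
  refine Subgroup.mem_inf.2 ⟨?_, ?_⟩
  · have e : ⁅z, y⁆ = z * (y * z⁻¹ * y⁻¹) := by simp only [commutatorElement_def]; group
    rw [e]
    exact I.mul_mem hzI (hQI y hy _ (I.inv_mem hzI))
  · rw [Subgroup.lowerCentralSeries_succ]
    exact Subgroup.commutator_mem_commutator hzk hy

/-- the norm `z * z^s * z^(s⁻¹)` of a central element is fixed modulo `N` -/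
lemma core_calc (Q N : Subgroup M) (s u z : M) (hs3 : s * s * s = 1)
    (husu : u * s * u⁻¹ = s⁻¹)
    (hQs : ∀ x ∈ Q, s * x * s⁻¹ ∈ Q)
    (hNQ : ∀ x ∈ Q, ∀ n ∈ N, x * n * x⁻¹ ∈ N) (hNs : ∀ n ∈ N, s * n * s⁻¹ ∈ N)
    (hz : z ∈ Q) (hzc : ∀ y ∈ Q, ⁅z, y⁆ ∈ N) (hzu : u * z * u⁻¹ * z⁻¹ ∈ N) :
    s * (z * (s * z * s⁻¹) * (s⁻¹ * z * s)) * s⁻¹ * (z * (s * z * s⁻¹) * (s⁻¹ * z * s))⁻¹ ∈ N ∧
    u * (z * (s * z * s⁻¹) * (s⁻¹ * z * s)) * u⁻¹ * (z * (s * z * s⁻¹) * (s⁻¹ * z * s))⁻¹ ∈ N := by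
  have hsi : s⁻¹ = s * s := by
    calc s⁻¹ = s⁻¹ * (s * s * s) := by rw [hs3, mul_one]
      _ = s * s := by group
  have hNs' : ∀ n ∈ N, s⁻¹ * n * s ∈ N := by
    intro n hn
    have e : s⁻¹ * n * s = s * (s * n * s⁻¹) * s⁻¹ := by
      calc s⁻¹ * n * s = s⁻¹ * n * s⁻¹⁻¹ := by rw [inv_inv]
        _ = (s * s) * n * (s * s)⁻¹ := by rw [← hsi]
        _ = s * (s * n * s⁻¹) * s⁻¹ := by group
    rw [e]; exact hNs _ (hNs n hn)
  have hQs' : ∀ x ∈ Q, s⁻¹ * x * s ∈ Q := by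
    intro n hn
    have e : s⁻¹ * n * s = s * (s * n * s⁻¹) * s⁻¹ := by
      calc s⁻¹ * n * s = s⁻¹ * n * s⁻¹⁻¹ := by rw [inv_inv]
        _ = (s * s) * n * (s * s)⁻¹ := by rw [← hsi]
        _ = s * (s * n * s⁻¹) * s⁻¹ := by group
    rw [e]; exact hQs _ (hQs n hn)
  obtain ⟨z1, hz1⟩ : ∃ z1, s * z * s⁻¹ = z1 := ⟨_, rfl⟩
  obtain ⟨z2, hz2⟩ : ∃ z2, s⁻¹ * z * s = z2 := ⟨_, rfl⟩
  have hz1Q : z1 ∈ Q := by rw [← hz1]; exact hQs z hz
  have hz2Q : z2 ∈ Q := by rw [← hz2]; exact hQs' z hz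
  have h12 : s * z1 * s⁻¹ = z2 := by
    rw [← hz1, ← hz2]
    calc s * (s * z * s⁻¹) * s⁻¹ = (s * s) * z * (s * s)⁻¹ := by group
      _ = s⁻¹ * z * s := by rw [← hsi, inv_inv]
  have h20 : s * z2 * s⁻¹ = z := by rw [← hz2]; group
  rw [hz1, hz2]
  constructor
  · have e : s * (z * z1 * z2) * s⁻¹ * (z * z1 * z2)⁻¹ = (⁅z, z1 * z2⁆)⁻¹ := by
      have e1 : s * (z * z1 * z2) * s⁻¹ = (s * z * s⁻¹) * (s * z1 * s⁻¹) * (s * z2 * s⁻¹) := by
        group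
      rw [e1, hz1, h12, h20]
      simp only [commutatorElement_def]; group
    rw [e]
    exact N.inv_mem (hzc _ (Q.mul_mem hz1Q hz2Q))
  · obtain ⟨n0, hn0⟩ : ∃ n0, u * z * u⁻¹ * z⁻¹ = n0 := ⟨_, rfl⟩
    have hn0N : n0 ∈ N := by rw [← hn0]; exact hzu
    have hu0 : u * z * u⁻¹ = n0 * z := by rw [← hn0]; group
    have hu1 : u * z1 * u⁻¹ = (s⁻¹ * n0 * s) * z2 := by
      rw [← hz1, ← hz2]
      calc u * (s * z * s⁻¹) * u⁻¹ = (u * s * u⁻¹) * (u * z * u⁻¹) * (u * s * u⁻¹)⁻¹ := by group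
        _ = s⁻¹ * (n0 * z) * s⁻¹⁻¹ := by rw [husu, hu0]
        _ = (s⁻¹ * n0 * s) * (s⁻¹ * z * s) := by group
    have hu2 : u * z2 * u⁻¹ = (s * n0 * s⁻¹) * z1 := by
      rw [← hz1, ← hz2]
      calc u * (s⁻¹ * z * s) * u⁻¹ = (u * s * u⁻¹)⁻¹ * (u * z * u⁻¹) * (u * s * u⁻¹) := by group
        _ = s⁻¹⁻¹ * (n0 * z) * s⁻¹ := by rw [husu, hu0]
        _ = (s * n0 * s⁻¹) * (s * z * s⁻¹) := by group
    have hcomm : ⁅z2, z1⁆ ∈ N := by
      have e : ⁅z2, z1⁆ = s⁻¹ * ⁅z, s * z1 * s⁻¹⁆ * s := by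
        rw [← hz2]; simp only [commutatorElement_def]; group
      rw [e]
      exact hNs' _ (hzc _ (hQs z1 hz1Q))
    have e : u * (z * z1 * z2) * u⁻¹ * (z * z1 * z2)⁻¹ =
        n0 * (z * (s⁻¹ * n0 * s) * z⁻¹) * ((z * z2) * (s * n0 * s⁻¹) * (z * z2)⁻¹) *
          (z * ⁅z2, z1⁆ * z⁻¹) := by
      have e1 : u * (z * z1 * z2) * u⁻¹ = (u * z * u⁻¹) * (u * z1 * u⁻¹) * (u * z2 * u⁻¹) := by
        group
      rw [e1, hu0, hu1, hu2]
      simp only [commutatorElement_def]; group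
    rw [e]
    refine N.mul_mem (N.mul_mem (N.mul_mem hn0N ?_) ?_) ?_
    · exact hNQ z hz _ (hNs' n0 hn0N)
    · exact hNQ _ (Q.mul_mem hz hz2Q) _ (hNs n0 hn0N)
    · exact hNQ z hz _ hcomm

end general2

section ctx2

variable {M : Type*} [Group M] [Finite M]

variable {α : Equiv.Perm (Fin 3) →* M} {Q : Subgroup M}

/-- conjugation by `α g` maps `[Q, t']` into `[Q, g t' g⁻¹]` -/
lemma Ctx.conj_N (h : Ctx α Q) (g t' : Equiv.Perm (Fin 3)) {l : M}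
    (hl : l ∈ ⁅Q, Subgroup.zpowers (α t')⁆) :
    α g * l * (α g)⁻¹ ∈ ⁅Q, Subgroup.zpowers (α (g * t' * g⁻¹))⁆ := by
  apply conj_mem_commutator_of Q (Subgroup.zpowers (α t')) _ (α g) (h.hinv g) _ hl
  intro b hb
  obtain ⟨k, rfl⟩ := Subgroup.mem_zpowers_iff.1 hb
  rw [map_mul, map_mul, map_inv, ← conj_zpow]
  exact Subgroup.zpow_mem _ (Subgroup.mem_zpowers _) k

/-- Theorem B: `Q' ≤ [Q, t]` for a transposition `t`, when `Q` is nilpotent -/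
lemma Ctx.thmB (h : Ctx α Q) (hnil : Group.IsNilpotent Q) {c t : Equiv.Perm (Fin 3)}
    (hc : IsThree c) (ht : IsTr t) : ⁅Q, Q⁆ ≤ ⁅Q, Subgroup.zpowers (α t)⁆ := by
  obtain ⟨hne12, hne13, hne23⟩ := s3_tr_ne c t hc ht
  have ht2 : IsTr (c * t * c⁻¹) := s3_tr_conj c t ht
  have ht3 : IsTr (c⁻¹ * t * c) := s3_tr_conj' c t ht
  obtain ⟨N1, hN1⟩ : ∃ N1, N1 = ⁅Q, Subgroup.zpowers (α t)⁆ := ⟨_, rfl⟩
  obtain ⟨N2, hN2⟩ : ∃ N2, N2 = ⁅Q, Subgroup.zpowers (α (c * t * c⁻¹))⁆ := ⟨_, rfl⟩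
  obtain ⟨N3, hN3⟩ : ∃ N3, N3 = ⁅Q, Subgroup.zpowers (α (c⁻¹ * t * c))⁆ := ⟨_, rfl⟩
  rw [← hN1]
  have hN1Q : N1 ≤ Q := by rw [hN1]; exact h.comm_le _
  have hN2Q : N2 ≤ Q := by rw [hN2]; exact h.comm_le _
  have hN3Q : N3 ≤ Q := by rw [hN3]; exact h.comm_le _
  have hQN1 : ∀ x ∈ Q, ∀ l ∈ N1, x * l * x⁻¹ ∈ N1 := by
    rw [hN1]; exact fun x hx l hl => conj_mem_commutator_left Q _ hx hl
  have hQN2 : ∀ x ∈ Q, ∀ l ∈ N2, x * l * x⁻¹ ∈ N2 := by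
    rw [hN2]; exact fun x hx l hl => conj_mem_commutator_left Q _ hx hl
  have hQN3 : ∀ x ∈ Q, ∀ l ∈ N3, x * l * x⁻¹ ∈ N3 := by
    rw [hN3]; exact fun x hx l hl => conj_mem_commutator_left Q _ hx hl
  -- the action of `α c`
  have hs12 : ∀ l ∈ N1, α c * l * (α c)⁻¹ ∈ N2 := by
    intro l hl; rw [hN1] at hl; rw [hN2]; exact h.conj_N c t hl
  have hs23 : ∀ l ∈ N2, α c * l * (α c)⁻¹ ∈ N3 := by
    intro l hl; rw [hN2] at hl; rw [hN3]
    have := h.conj_N c (c * t * c⁻¹) hl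
    rwa [s3_c_t2 c t hc ht] at this
  have hs31 : ∀ l ∈ N3, α c * l * (α c)⁻¹ ∈ N1 := by
    intro l hl; rw [hN3] at hl; rw [hN1]
    have := h.conj_N c (c⁻¹ * t * c) hl
    have e : c * (c⁻¹ * t * c) * c⁻¹ = t := by group
    rwa [e] at this
  have hs21' : ∀ l ∈ N2, (α c)⁻¹ * l * α c ∈ N1 := by
    intro l hl; rw [hN2] at hl; rw [hN1]
    have := h.conj_N c⁻¹ (c * t * c⁻¹) hl
    have e : c⁻¹ * (c * t * c⁻¹) * c⁻¹⁻¹ = t := by group
    rw [e, map_inv, inv_inv] at this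
    exact this
  -- the action of `α t`
  have hu11 : ∀ l ∈ N1, α t * l * (α t)⁻¹ ∈ N1 := by
    intro l hl; rw [hN1] at hl; rw [hN1]
    have := h.conj_N t t hl
    have e : t * t * t⁻¹ = t := by group
    rwa [e] at this
  have hu23 : ∀ l ∈ N2, α t * l * (α t)⁻¹ ∈ N3 := by
    intro l hl; rw [hN2] at hl; rw [hN3]
    have := h.conj_N t (c * t * c⁻¹) hl
    rwa [s3_t_t2 c t hc ht] at this
  have hu32 : ∀ l ∈ N3, α t * l * (α t)⁻¹ ∈ N2 := by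
    intro l hl; rw [hN3] at hl; rw [hN2]
    have := h.conj_N t (c⁻¹ * t * c) hl
    rwa [s3_t_t3 c t hc ht] at this
  -- (B3)
  have hQ12 : Q ≤ N1 ⊔ N2 := by rw [hN1, hN2]; exact h.le_sup_tr hc ht ht2 hne12
  have hQ13 : Q ≤ N1 ⊔ N3 := by rw [hN1, hN3]; exact h.le_sup_tr hc ht ht3 hne13
  -- (B4)
  have hQI : ∀ x ∈ Q, ∀ l ∈ N2 ⊓ N3, x * l * x⁻¹ ∈ N2 ⊓ N3 := fun x hx l hl =>
    Subgroup.mem_inf.2 ⟨hQN2 x hx l (Subgroup.mem_inf.1 hl).1, hQN3 x hx l (Subgroup.mem_inf.1 hl).2⟩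
  have hQL : ∀ x ∈ Q, ∀ l ∈ N1 ⊔ (N2 ⊓ N3), x * l * x⁻¹ ∈ N1 ⊔ (N2 ⊓ N3) :=
    conj_mem_sup hQN1 hQI
  have hB4 : ⁅Q, Q⁆ ≤ N1 ⊔ (N2 ⊓ N3) := by
    rw [Subgroup.commutator_le]
    intro x hx y hy
    obtain ⟨n, hn, a, ha, rfl⟩ := exists_mul_of_mem_sup (L := N1) (C := N2)
      (fun d hd l hl => hQN1 d (hN2Q hd) l hl) (hQ12 hx)
    obtain ⟨n', hn', b, hb, rfl⟩ := exists_mul_of_mem_sup (L := N1) (C := N3)
      (fun d hd l hl => hQN1 d (hN3Q hd) l hl) (hQ13 hy)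
    apply comm_mem_of_mul_left hQL (Subgroup.mem_sup_left hn) hy
    apply comm_mem_of_mul_right hQL (Subgroup.mem_sup_left hn') (hN2Q ha)
    apply Subgroup.mem_sup_right
    refine Subgroup.mem_inf.2 ⟨?_, ?_⟩
    · have e : ⁅a, b⁆ = a * (b * a⁻¹ * b⁻¹) := by simp only [commutatorElement_def]; group
      rw [e]; exact N2.mul_mem ha (hQN2 b (hN3Q hb) _ (N2.inv_mem ha))
    · have e : ⁅a, b⁆ = (a * b * a⁻¹) * b⁻¹ := by simp only [commutatorElement_def]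
      rw [e]; exact N3.mul_mem (hQN3 a (hN2Q ha) _ hb) (N3.inv_mem hb)
  -- (B5)
  have hB5 : N2 ⊓ N3 ≤ N1 := by
    by_contra hcon
    obtain ⟨N, hN⟩ : ∃ N, N = N1 ⊓ (N2 ⊓ N3) := ⟨_, rfl⟩
    have hmemN : ∀ l, l ∈ N ↔ l ∈ N1 ∧ l ∈ N2 ∧ l ∈ N3 := by
      intro l; rw [hN, Subgroup.mem_inf, Subgroup.mem_inf]
    have hIN : ¬ N2 ⊓ N3 ≤ N := by
      intro hle
      apply hcon
      intro l hl
      exact ((hmemN l).1 (hle hl)).1
    obtain ⟨z, hzI, hzN, hzc⟩ := exists_central_mod Q (N2 ⊓ N3) N hnil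
      (inf_le_left.trans hN2Q) hQI hIN
    obtain ⟨hz2, hz3⟩ := Subgroup.mem_inf.1 hzI
    have hzQ : z ∈ Q := hN2Q hz2
    have hNQ' : N ≤ Q := fun l hl => hN1Q ((hmemN l).1 hl).1
    have hNQ : ∀ x ∈ Q, ∀ n ∈ N, x * n * x⁻¹ ∈ N := by
      intro x hx n hn
      obtain ⟨h1, h2, h3⟩ := (hmemN n).1 hn
      exact (hmemN _).2 ⟨hQN1 x hx n h1, hQN2 x hx n h2, hQN3 x hx n h3⟩
    have hNs : ∀ n ∈ N, α c * n * (α c)⁻¹ ∈ N := by
      intro n hn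
      obtain ⟨h1, h2, h3⟩ := (hmemN n).1 hn
      exact (hmemN _).2 ⟨hs31 n h3, hs12 n h1, hs23 n h2⟩
    have hNu : ∀ n ∈ N, α t * n * (α t)⁻¹ ∈ N := by
      intro n hn
      obtain ⟨h1, h2, h3⟩ := (hmemN n).1 hn
      exact (hmemN _).2 ⟨hu11 n h1, hu32 n h3, hu23 n h2⟩
    have husu : α t * α c * (α t)⁻¹ = (α c)⁻¹ := by
      rw [← map_inv, ← map_mul, ← map_mul, s3_conj c t hc ht, map_inv]
    have hs3 : α c * α c * α c = 1 := by rw [← map_mul, ← map_mul, hc.1, map_one]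
    have hzu : α t * z * (α t)⁻¹ * z⁻¹ ∈ N := by
      refine (hmemN _).2 ⟨?_, ?_, ?_⟩
      · have e : α t * z * (α t)⁻¹ * z⁻¹ = (⁅z, α t⁆)⁻¹ := by
          simp only [commutatorElement_def]; group
        rw [e, hN1]
        exact Subgroup.inv_mem _
          (Subgroup.commutator_mem_commutator hzQ (Subgroup.mem_zpowers _))
      · exact N2.mul_mem (hu32 z hz3) (N2.inv_mem hz2)
      · exact N3.mul_mem (hu23 z hz2) (N3.inv_mem hz3)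
    obtain ⟨hes, heu⟩ := core_calc Q N (α c) (α t) z hs3 husu (h.hinv c) hNQ hNs hzQ hzc hzu
    have heQ : z * (α c * z * (α c)⁻¹) * ((α c)⁻¹ * z * α c) ∈ Q := by
      refine Q.mul_mem (Q.mul_mem hzQ (h.hinv c z hzQ)) ?_
      have := h.hinv c⁻¹ z hzQ
      rwa [map_inv, inv_inv] at this
    have heN := h.FS' hc ht N hNQ' hNQ hNs hNu heQ hes heu
    have hz1 : α c * z * (α c)⁻¹ ∈ N1 := hs31 z hz3
    have hz2' : (α c)⁻¹ * z * α c ∈ N1 := hs21' z hz2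
    have key := N1.mul_mem (N1.mul_mem ((hmemN _).1 heN).1 (N1.inv_mem hz2')) (N1.inv_mem hz1)
    have e : (z * (α c * z * (α c)⁻¹) * ((α c)⁻¹ * z * α c)) * ((α c)⁻¹ * z * α c)⁻¹ *
        (α c * z * (α c)⁻¹)⁻¹ = z := by group
    rw [e] at key
    exact hzN ((hmemN z).2 ⟨key, hz2, hz3⟩)
  calc ⁅Q, Q⁆ ≤ N1 ⊔ (N2 ⊓ N3) := hB4
    _ ≤ N1 := sup_le le_rfl hB5

end ctx2

/-- (D4) derived subgroup inside every `[Q, a]`. -/
theorem comm_le_comm_elt {M : Type*} [Group M] [Finite M] (α : Equiv.Perm (Fin 3) →* M)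
    (Q : Subgroup M) (hinv : AInv α Q) (hfpf : AFpf α Q) (hcop : (Nat.card Q).Coprime 6)
    (hnil : Group.IsNilpotent Q) (g : Equiv.Perm (Fin 3)) (hg : g ≠ 1) :
    ⁅Q, Q⁆ ≤ ⁅Q, Subgroup.zpowers (α g)⁆ := by
  have hsolv : Group.IsSolvable Q := by
    have := hnil
    infer_instance
  have h : Ctx α Q := ⟨hinv, hfpf, hcop, hsolv⟩
  rcases s3_cases g hg with ⟨hc, t, ht⟩ | ⟨ht, c, hc⟩
  · exact h.thmA hc ht
  · exact h.thmB hnil hc ht

end Cfsg.Agent.Lib.Helper73.S3D4
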