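import Mathlib
import Cfsg.Agent.Lib.Helper23.SylowPerm
import Cfsg.Agent.Lib.Helper23.SylowCount
import Cfsg.Agent.Lib.Helper23.SylowEmbed

/-!
# K-S0496-720F1 (helper73): two-point stabilizers on the ten Sylow 3-subgroups of a
simple group of order 720 with TI Sylow 3-subgroups
-/

set_option autoImplicit false

namespace Cfsg.Agent.Lib.Helper73.Small1092

open Subgroup MulAction

section

variable {G : Type*} [Group G] [Finite G]

/-- TI Sylow subgroups: `P` acts freely on the other Sylow subgroups. -/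
theorem free_of_TI (hTI : ∀ P R : Sylow 3 G, P ≠ R → (P : Subgroup G) ⊓ (R : Subgroup G) = ⊥)
    (P : Sylow 3 G) :
    ∀ y ∈ (P : Subgroup G), ∀ T : Sylow 3 G, T ≠ P → y • T = T → y = 1 := by
  intro y hy T hT hyT
  have h1 : y ∈ (T : Subgroup G) :=
    Cfsg.Agent.Lib.Helper23.SylowPerm.mem_of_mem_normalizer_of_mem_sylow 3 P T y hy hyT
  have h2 : y ∈ (P : Subgroup G) ⊓ (T : Subgroup G) := ⟨hy, h1⟩
  rw [hTI P T (Ne.symm hT)] at h2
  exact Subgroup.mem_bot.1 h2

omit [Finite G] in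
theorem smul_self_of_mem (P : Sylow 3 G) (y : G) (hy : y ∈ (P : Subgroup G)) : y • P = P := by
  rw [Sylow.smul_eq_iff_mem_normalizer]
  exact Subgroup.le_normalizer hy

theorem card_ne (h3 : Nat.card (Sylow 3 G) = 10) (P : Sylow 3 G) :
    Nat.card {T : Sylow 3 G // T ≠ P} = 9 := by
  have h1 : Nat.card {T : Sylow 3 G // T ≠ P} = (({P} : Set (Sylow 3 G))ᶜ).ncard := by
    rw [← Nat.card_coe_set_eq]
    rfl
  rw [h1, Set.ncard_compl, Set.ncard_singleton, h3]

/-- free + counting: `P` is transitive on the other nine Sylow subgroups. -/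
theorem trans_of_free (h3 : Nat.card (Sylow 3 G) = 10) (P : Sylow 3 G)
    (hP : Nat.card (P : Subgroup G) = 9)
    (hfree : ∀ y ∈ (P : Subgroup G), ∀ T : Sylow 3 G, T ≠ P → y • T = T → y = 1)
    (R : Sylow 3 G) (hPR : P ≠ R) :
    ∀ T : Sylow 3 G, T ≠ P → ∃ y ∈ (P : Subgroup G), y • R = T := by
  let φ : ↥(P : Subgroup G) → {T : Sylow 3 G // T ≠ P} := fun y => ⟨(y : G) • R, by
    intro hc
    apply hPR
    have h1 : R = (y : G)⁻¹ • P := eq_inv_smul_iff.2 hc
    rw [h1, smul_self_of_mem P _ (inv_mem y.2)]⟩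
  have hinj : Function.Injective φ := by
    intro a b hab
    have h1 : (a : G) • R = (b : G) • R := congrArg Subtype.val hab
    have h2 : ((b : G)⁻¹ * (a : G)) • R = R := by rw [mul_smul, h1, inv_smul_smul]
    have h4 := hfree _ (mul_mem (inv_mem b.2) a.2) R (Ne.symm hPR) h2
    apply Subtype.ext
    exact (inv_mul_eq_one.1 h4).symm
  have hcard : Nat.card {T : Sylow 3 G // T ≠ P} ≤ Nat.card (P : Subgroup G) := by
    rw [card_ne h3 P, hP]
  have hbij := hinj.bijective_of_nat_card_le hcard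
  intro T hT
  obtain ⟨y, hy⟩ := hbij.2 ⟨T, hT⟩
  exact ⟨y, y.2, congrArg Subtype.val hy⟩

/-- the two-point stabilizer has order 8. -/
theorem card_two_point (h : Nat.card G = 720) (h3 : Nat.card (Sylow 3 G) = 10)
    (P R : Sylow 3 G) (hPR : P ≠ R)
    (htrans : ∀ T : Sylow 3 G, T ≠ P → ∃ y ∈ (P : Subgroup G), y • R = T) :
    Nat.card ↥(normalizer ((P : Subgroup G) : Set G) ⊓ normalizer ((R : Subgroup G) : Set G)) = 8 := by
  have hN72 : Nat.card (normalizer ((P : Subgroup G) : Set G)) = 72 := by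
    have := Cfsg.Agent.Lib.Helper23.card_normalizer_mul_card_sylow 3 P
    rw [h3, h] at this
    omega
  have horb : orbit (normalizer ((P : Subgroup G) : Set G)) R = {T : Sylow 3 G | T ≠ P} := by
    ext T
    constructor
    · rintro ⟨n, rfl⟩
      show (n : G) • R ≠ P
      intro hc
      apply hPR
      have hnP : (n : G) • P = P := by
        rw [Sylow.smul_eq_iff_mem_normalizer]; exact n.2
      have h1 : (n : G) • R = (n : G) • P := by rw [hnP]; exact hc
      exact (smul_left_cancel _ h1).symm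
    · intro hT
      obtain ⟨y, hy, rfl⟩ := htrans T hT
      exact ⟨⟨y, Subgroup.le_normalizer hy⟩, rfl⟩
  have hidx : (stabilizer (normalizer ((P : Subgroup G) : Set G)) R).index = 9 := by
    rw [MulAction.index_stabilizer, horb]
    have := card_ne h3 P
    rw [← Nat.card_coe_set_eq]
    exact this
  have hstab : Nat.card (stabilizer (normalizer ((P : Subgroup G) : Set G)) R) = 8 := by
    have := Subgroup.card_mul_index (stabilizer (normalizer ((P : Subgroup G) : Set G)) R)
    rw [hidx, hN72] at this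
    omega
  have heq : stabilizer (normalizer ((P : Subgroup G) : Set G)) R =
      (normalizer ((P : Subgroup G) : Set G) ⊓ normalizer ((R : Subgroup G) : Set G)).subgroupOf
        (normalizer ((P : Subgroup G) : Set G)) := by
    ext n
    rw [mem_stabilizer_iff, Subgroup.mem_subgroupOf, Subgroup.mem_inf]
    constructor
    · intro hn
      exact ⟨n.2, (Sylow.smul_eq_iff_mem_normalizer).1 hn⟩
    · intro hn
      exact (Sylow.smul_eq_iff_mem_normalizer).2 hn.2
  rw [heq] at hstab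
  rw [← hstab]
  exact (Nat.card_congr (Subgroup.subgroupOfEquivOfLe inf_le_left).toEquiv).symm

/-- an element commuting with a non-trivial element of `P` and normalizing `P` has `1 mod 3`
fixed points. -/
theorem card_fixedBy_modEq_one_of_commute (P : Sylow 3 G) (y v : G) (hy : y ∈ (P : Subgroup G))
    (hy1 : y ≠ 1) (hvy : v * y = y * v) (hvP : v • P = P)
    (hfree : ∀ y ∈ (P : Subgroup G), ∀ T : Sylow 3 G, T ≠ P → y • T = T → y = 1) :
    Nat.card (fixedBy (Sylow 3 G) v) ≡ 1 [MOD 3] := by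
  have hcomm : ∀ c : ↥(zpowers y), v * (c : G) = (c : G) * v := by
    rintro ⟨c, hc⟩
    obtain ⟨n, rfl⟩ := Subgroup.mem_zpowers_iff.1 hc
    exact (Commute.zpow_right (show Commute v y from hvy) n).eq
  let X : SubMulAction ↥(zpowers y) (Sylow 3 G) :=
    { carrier := fixedBy (Sylow 3 G) v
      smul_mem' := by
        intro c Q hQ
        rw [MulAction.mem_fixedBy] at hQ ⊢
        rw [Subgroup.smul_def, smul_smul, hcomm c, ← smul_smul, hQ] }
  have hpg : IsPGroup 3 (zpowers y) := P.2.to_le (zpowers_le.2 hy)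
  have hmod := hpg.card_modEq_card_fixedPoints (↥X)
  have h1 : Nat.card ↥X = Nat.card (fixedBy (Sylow 3 G) v) := rfl
  have hPmem : P ∈ fixedBy (Sylow 3 G) v := by
    rw [MulAction.mem_fixedBy]; exact hvP
  have h2 : Nat.card (fixedPoints ↥(zpowers y) ↥X) = 1 := by
    have key : ∀ z : fixedPoints ↥(zpowers y) ↥X, ((z : ↥X) : Sylow 3 G) = P := by
      rintro ⟨⟨Q, hQ⟩, hQf⟩
      by_contra hne
      apply hy1
      have h5 := hQf ⟨y, mem_zpowers y⟩
      have h6 : y • Q = Q := congrArg (fun z : ↥X => (z : Sylow 3 G)) h5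
      exact hfree y hy Q hne h6
    rw [Nat.card_eq_one_iff_unique]
    refine ⟨⟨fun a b => ?_⟩, ⟨⟨⟨P, hPmem⟩, ?_⟩⟩⟩
    · apply Subtype.ext
      apply Subtype.ext
      rw [key a, key b]
    · intro c
      apply Subtype.ext
      show ((c : G) • P : Sylow 3 G) = P
      exact smul_self_of_mem P _ (zpowers_le.2 hy c.2)
  rw [h1, h2] at hmod
  exact hmod

end

/-- K-S0496-720F1. -/
theorem two_point_stabilizer_720 {G : Type*} [Group G] [Finite G] [IsSimpleGroup G]
    (hG : ¬ IsMulCommutative G)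
    (h : Nat.card G = 720) (h3 : Nat.card (Sylow 3 G) = 10)
    (hTI : ∀ P R : Sylow 3 G, P ≠ R → (P : Subgroup G) ⊓ (R : Subgroup G) = ⊥)
    (P R : Sylow 3 G) (hPR : P ≠ R) :
    Nat.card ↥(normalizer ((P : Subgroup G) : Set G) ⊓ normalizer ((R : Subgroup G) : Set G)) = 8 ∧
    (∀ y ∈ (P : Subgroup G), ∀ T : Sylow 3 G, T ≠ P → y • T = T → y = 1) ∧
    (∀ T : Sylow 3 G, T ≠ P → ∃ y ∈ (P : Subgroup G), y • R = T) ∧
    ∀ g ∈ normalizer ((P : Subgroup G) : Set G) ⊓ normalizer ((R : Subgroup G) : Set G), g ≠ 1 →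
      ∀ T : Sylow 3 G, g • T = T → T = P ∨ T = R := by
  have hfree := free_of_TI hTI P
  have hP9 : Nat.card (P : Subgroup G) = 9 := by
    have := Cfsg.Agent.Lib.Helper23.sylow_card_of_card_eq 3 2 80 (by rw [h]; norm_num) (by norm_num) P
    rw [this]; norm_num
  have htrans := trans_of_free h3 P hP9 hfree R hPR
  have hQ8 := card_two_point h h3 P R hPR htrans
  refine ⟨hQ8, hfree, htrans, ?_⟩
  intro g hg hg1 T hgT
  by_contra hcon
  push Not at hcon
  obtain ⟨hTP, hTR⟩ := hcon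
  obtain ⟨y, hy, rfl⟩ := htrans T hTP
  have hy1 : y ≠ 1 := by
    rintro rfl
    exact hTR (one_smul _ _)
  have hgP : g • P = P := (Sylow.smul_eq_iff_mem_normalizer).2 hg.1
  have hgR : g • R = R := (Sylow.smul_eq_iff_mem_normalizer).2 hg.2
  have hconj : g * y * g⁻¹ ∈ (P : Subgroup G) := (Subgroup.mem_normalizer_iff.1 hg.1 y).1 hy
  have hfix : (y⁻¹ * (g * y * g⁻¹)) • R = R := by
    have hginv : g⁻¹ • R = R := by rw [inv_smul_eq_iff, hgR]
    rw [mul_smul, mul_smul, mul_smul, hginv, hgT, inv_smul_smul]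
  have hcomm : g * y * g⁻¹ = y := by
    have := hfree _ (mul_mem (inv_mem hy) hconj) R (Ne.symm hPR) hfix
    exact (inv_mul_eq_one.1 this).symm
  have hgy : g * y = y * g := by
    calc g * y = g * y * g⁻¹ * g := by group
    _ = y * g := by rw [hcomm]
  -- the involution
  have hord : orderOf g ∣ 2 ^ 3 := by
    have := Subgroup.orderOf_dvd_natCard _ hg
    rw [hQ8] at this
    exact this
  obtain ⟨k, hk3, hk⟩ := (Nat.dvd_prime_pow Nat.prime_two).1 hord
  have hk0 : k ≠ 0 := by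
    rintro rfl
    rw [pow_zero, orderOf_eq_one_iff] at hk
    exact hg1 hk
  obtain ⟨j, rfl⟩ := Nat.exists_eq_succ_of_ne_zero hk0
  have hv2 : (g ^ (2 ^ j)) ^ 2 = 1 := by
    rw [← pow_mul, ← pow_succ, ← hk, pow_orderOf_eq_one]
  have hv1 : g ^ (2 ^ j) ≠ 1 := by
    apply pow_ne_one_of_lt_orderOf (by positivity)
    rw [hk, pow_succ]
    have : 0 < 2 ^ j := by positivity
    omega
  have hvQ : g ^ (2 ^ j) ∈
      normalizer ((P : Subgroup G) : Set G) ⊓ normalizer ((R : Subgroup G) : Set G) :=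
    Subgroup.pow_mem _ hg _
  have hvy : g ^ (2 ^ j) * y = y * g ^ (2 ^ j) :=
    (Commute.pow_left (show Commute g y from hgy) _).eq
  have hvP : (g ^ (2 ^ j)) • P = P := (Sylow.smul_eq_iff_mem_normalizer).2 hvQ.1
  have hcard : 2 < Nat.card G := by omega
  have hne : Nat.card (Sylow 3 G) ≠ 1 := by omega
  obtain ⟨t, ht⟩ :=
    Cfsg.Agent.Lib.Helper23.SylowPerm.card_fixedBy_involution 3 hcard (g ^ (2 ^ j)) hv2
  have hlt := Cfsg.Agent.Lib.Helper23.SylowPerm.card_fixedBy_lt 3 hne (g ^ (2 ^ j)) hv1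
  have hmod := card_fixedBy_modEq_one_of_commute P y (g ^ (2 ^ j)) hy hy1 hvy hvP hfree
  rw [h3] at ht hlt
  unfold Nat.ModEq at hmod
  omega

end Cfsg.Agent.Lib.Helper73.Small1092
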