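import Mathlib

/-!
# K-ZN-6 (helper73): the arithmetic of the `SL(2,5)` case of the Zassenhaus near-field rows
-/

set_option autoImplicit false

namespace Cfsg.Agent.Lib.Helper73.ZN

theorem sq_sub_one_eq' (s : ℕ) (hs : 1 ≤ s) : s ^ 2 - 1 = (s - 1) * (s + 1) := by
  obtain ⟨k, rfl⟩ : ∃ k, s = k + 1 := ⟨s - 1, by omega⟩
  simp only [Nat.add_sub_cancel]
  have : (k + 1) ^ 2 = k * (k + 1 + 1) + 1 := by ring
  rw [this]; simp

theorem cube_sub_one_eq' (s : ℕ) (hs : 1 ≤ s) : s ^ 3 - 1 = (s - 1) * (s ^ 2 + s + 1) := by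
  obtain ⟨k, rfl⟩ : ∃ k, s = k + 1 := ⟨s - 1, by omega⟩
  simp only [Nat.add_sub_cancel]
  have : (k + 1) ^ 3 = k * ((k + 1) ^ 2 + (k + 1) + 1) + 1 := by ring
  rw [this]; simp

theorem lt_seven_pow (d : ℕ) (hd : 4 ≤ d) : 120 * d + 1 ≤ 7 ^ d := by
  induction d, hd using Nat.le_induction with
  | base => norm_num
  | succ n hn ih => rw [pow_succ]; omega

theorem lt_fortynine_pow (d : ℕ) (hd : 2 ≤ d) : 120 * d + 1 ≤ 49 ^ d := by
  induction d, hd using Nat.le_induction with
  | base => norm_num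
  | succ n hn ih => rw [pow_succ]; omega

/-- K-ZN-6. -/
theorem numerics_sl25 (p d e : ℕ) (hp : p.Prime) (hd : 0 < d) (he : 2 ≤ e)
    (h120 : 120 ∣ p ^ (d * e) - 1) (h : p ^ (d * e) - 1 ∣ 120 * d * (p ^ d - 1)) :
    d = 1 ∧ e = 2 ∧ (p = 11 ∨ p = 19 ∨ p = 29 ∨ p = 59) := by
  have hpos : 1 ≤ p ^ (d * e) := Nat.one_le_pow _ _ hp.pos
  have hde : d * e ≠ 0 := by
    have : 0 < d * e := Nat.mul_pos hd (by omega)
    omega
  have hnd : ¬ p ∣ 120 := by
    intro hdv
    have h1 : p ∣ p ^ (d * e) := dvd_pow_self p hde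
    have h2 : p ∣ p ^ (d * e) - 1 := hdv.trans h120
    have h3 : p ∣ 1 := by
      have := Nat.dvd_sub h1 h2
      rwa [Nat.sub_sub_self hpos] at this
    exact hp.one_lt.ne' (Nat.dvd_one.1 h3)
  have hp7 : 7 ≤ p := by
    by_contra hcon
    push Not at hcon
    have := hp.two_le
    interval_cases p
    · exact hnd (by norm_num)
    · exact hnd (by norm_num)
    · exact absurd hp (by decide)
    · exact hnd (by norm_num)
    · exact absurd hp (by decide)
  obtain ⟨s, hs⟩ : ∃ s, s = p ^ d := ⟨_, rfl⟩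
  have h7d : 7 ^ d ≤ s := hs ▸ Nat.pow_le_pow_left hp7 d
  have hps : p ≤ s := by
    rw [hs]
    calc p = p ^ 1 := (pow_one p).symm
      _ ≤ p ^ d := Nat.pow_le_pow_right (by omega) hd
  rw [← hs] at h
  have hs7 : 7 ≤ s := le_trans hp7 hps
  have hpow : p ^ (d * e) = s ^ e := by rw [hs, pow_mul]
  rw [hpow] at h h120
  have hpos' : 0 < 120 * d * (s - 1) := Nat.mul_pos (by omega) (by omega)
  have hle := Nat.le_of_dvd hpos' h
  rcases Nat.lt_or_ge e 3 with he3 | he3
  · -- e = 2
    have he2 : e = 2 := by omega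
    subst he2
    rw [sq_sub_one_eq' s (by omega)] at h
    have h' : (s - 1) * (s + 1) ∣ (s - 1) * (120 * d) := by
      rw [Nat.mul_comm (s - 1) (120 * d)]; exact h
    have hdvd : s + 1 ∣ 120 * d := Nat.dvd_of_mul_dvd_mul_left (by omega) h'
    have hle2 : s + 1 ≤ 120 * d := Nat.le_of_dvd (by omega) hdvd
    have hd3 : d ≤ 3 := by
      by_contra hcon
      push Not at hcon
      have := lt_seven_pow d hcon
      omega
    interval_cases d
    · -- d = 1
      simp only [pow_one] at hs
      subst hs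
      refine ⟨rfl, rfl, ?_⟩
      have hp119 : s ≤ 119 := by omega
      interval_cases s <;> first | omega | (exfalso; revert hdvd; norm_num; done) | (exfalso; revert h120; norm_num; done) | (exfalso; revert hp; norm_num)
    · -- d = 2
      exfalso
      have hp15 : p ≤ 15 := by
        by_contra hcon; push Not at hcon
        have : 16 ^ 2 ≤ p ^ 2 := Nat.pow_le_pow_left hcon 2
        omega
      interval_cases p <;> first | (revert hp; norm_num; done) | (subst hs; revert hdvd; norm_num)
    · -- d = 3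
      exfalso
      have hp7' : p ≤ 7 := by
        by_contra hcon; push Not at hcon
        have : 8 ^ 3 ≤ p ^ 3 := Nat.pow_le_pow_left hcon 3
        omega
      have : p = 7 := by omega
      subst this
      subst hs
      revert hdvd; norm_num
  · -- e ≥ 3
    exfalso
    have h2 : s ^ 3 ≤ s ^ e := Nat.pow_le_pow_right (by omega) he3
    have h3 : s ^ 3 - 1 ≤ 120 * d * (s - 1) := le_trans (Nat.sub_le_sub_right h2 1) hle
    rw [cube_sub_one_eq' s (by omega)] at h3
    have h4 : (s - 1) * (s ^ 2 + s + 1) ≤ (s - 1) * (120 * d) := by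
      rw [Nat.mul_comm (s - 1) (120 * d)]; exact h3
    have h5 := Nat.le_of_mul_le_mul_left h4 (by omega : 0 < s - 1)
    have hd1 : d = 1 := by
      by_contra hcon
      have hd2 : 2 ≤ d := by omega
      have h6 := lt_fortynine_pow d hd2
      have h8 : (7 ^ d) ^ 2 ≤ s ^ 2 := Nat.pow_le_pow_left h7d 2
      have h9 : (7 ^ d) ^ 2 = 49 ^ d := by
        rw [← pow_mul, mul_comm, pow_mul]; norm_num
      omega
    subst hd1
    simp only [pow_one] at hs
    subst hs
    have hs10 : s ≤ 10 := by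
      by_contra hcon; push Not at hcon
      have : 11 ^ 2 ≤ s ^ 2 := Nat.pow_le_pow_left hcon 2
      omega
    have hs7' : s = 7 := by
      interval_cases s
      · rfl
      · exact absurd hp (by decide)
      · exact absurd hp (by decide)
      · exact absurd hp (by decide)
    subst hs7'
    have he4 : e ≤ 3 := by
      by_contra hcon; push Not at hcon
      have : 7 ^ 4 ≤ 7 ^ e := Nat.pow_le_pow_right (by omega) hcon
      omega
    have he3' : e = 3 := by omega
    subst he3'
    norm_num at h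

end Cfsg.Agent.Lib.Helper73.ZN
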