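import Mathlib
import Cfsg.Prelude.Def_Transfer
import Cfsg.Agent.Lib.Helper73.Ito

/-!
# Counting argument for S4130 (Cossey–Wang p-nilpotency, abelian Sylow case)
-/

set_option autoImplicit false
set_option linter.unusedSectionVars false

namespace Cfsg.Agent.Lib.Helper73.SqF

open Subgroup

universe u

section npc

variable {H : Type*} [Group H] [Finite H] (p : ℕ) [hp : Fact p.Prime]

/-- In a group with a normal `p`-complement `N`, the elements of order prime to `p` are exactly
the elements of `N`, and `|N|` is the `p'`-part of `|H|`. -/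
theorem npc_mem_iff (h : Cfsg.HasNormalPComplement p H) :
    ∃ N : Subgroup H, N.Normal ∧
      Nat.card N * p ^ (Nat.card H).factorization p = Nat.card H ∧
      ∀ x : H, x ∈ N ↔ (orderOf x).Coprime p := by
  obtain ⟨Q, N, hN, hc⟩ := h
  have hcard : Nat.card N * Nat.card (Q : Subgroup H) = Nat.card H := hc.card_mul_card
  have hQ : Nat.card (Q : Subgroup H) = p ^ (Nat.card H).factorization p := Q.card_eq_multiplicity
  rw [hQ] at hcard
  have hH0 : Nat.card H ≠ 0 := Nat.card_pos.ne'
  have hNcop : (Nat.card N).Coprime p := by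
    have h1 : Nat.card N = Nat.card H / p ^ (Nat.card H).factorization p :=
      (Nat.div_eq_of_eq_mul_left (pow_pos hp.out.pos _) hcard.symm).symm
    rw [h1]
    exact (Nat.coprime_ordCompl hp.out hH0).symm
  refine ⟨N, hN, hcard, fun x => ⟨fun hx => ?_, fun hx => ?_⟩⟩
  · have h1 : orderOf x ∣ Nat.card N := by
      have := orderOf_dvd_natCard (⟨x, hx⟩ : N)
      rwa [Subgroup.orderOf_mk] at this
    exact Nat.Coprime.coprime_dvd_left h1 hNcop
  · have hidx : N.index = p ^ (Nat.card H).factorization p := by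
      have h2 := N.card_mul_index
      exact Nat.eq_of_mul_eq_mul_left Nat.card_pos (h2.trans hcard.symm)
    have h3 : orderOf (QuotientGroup.mk' N x) ∣ orderOf x :=
      orderOf_map_dvd (QuotientGroup.mk' N) x
    have h4 : orderOf (QuotientGroup.mk' N x) ∣ p ^ (Nat.card H).factorization p := by
      rw [← hidx, Subgroup.index_eq_card]
      exact orderOf_dvd_natCard _
    have h5 : orderOf (QuotientGroup.mk' N x) = 1 := by
      have hcop : (orderOf x).Coprime (p ^ (Nat.card H).factorization p) := hx.pow_right _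
      exact Nat.eq_one_of_dvd_coprimes hcop h3 h4
    rw [orderOf_eq_one_iff] at h5
    exact (QuotientGroup.eq_one_iff x).1 h5

end npc

section sylow

variable {G : Type*} [Group G] [Finite G] (p : ℕ) [hp : Fact p.Prime]

/-- if one Sylow `p`-subgroup is abelian, all are -/
theorem sylow_abelian_all (P : Sylow p G)
    (hab : ∀ a ∈ (P : Subgroup G), ∀ b ∈ (P : Subgroup G), a * b = b * a) (P₁ : Sylow p G) :
    ∀ a ∈ (P₁ : Subgroup G), ∀ b ∈ (P₁ : Subgroup G), a * b = b * a := by
  obtain ⟨g, hg⟩ := MulAction.exists_smul_eq G P P₁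
  intro a ha b hb
  rw [← hg, Sylow.coe_subgroup_smul] at ha hb
  obtain ⟨a', ha', rfl⟩ := ha
  obtain ⟨b', hb', rfl⟩ := hb
  have := hab a' ha' b' hb'
  simp only [MulDistribMulAction.toMonoidEnd_apply, MulDistribMulAction.toMonoidHom_apply,
    MulAut.smul_def, MulAut.conj_apply]
  calc g * a' * g⁻¹ * (g * b' * g⁻¹) = g * (a' * b') * g⁻¹ := by group
    _ = g * (b' * a') * g⁻¹ := by rw [this]
    _ = g * b' * g⁻¹ * (g * a' * g⁻¹) := by group

/-- a `p`-element lies in a Sylow `p`-subgroup -/
theorem exists_sylow_mem (u : G) (hu : ∃ k : ℕ, u ^ p ^ k = 1) : ∃ P₁ : Sylow p G, u ∈ (P₁ : Subgroup G) := by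
  obtain ⟨k, hk⟩ := hu
  have hz : IsPGroup p (zpowers u) := by
    apply IsPGroup.of_card (n := (orderOf u).factorization p)
    rw [Nat.card_zpowers]
    obtain ⟨j, _, hj⟩ := (Nat.dvd_prime_pow hp.out).1 (orderOf_dvd_of_pow_eq_one hk)
    rw [hj, hp.out.factorization_pow]
    simp
  obtain ⟨P₁, hP₁⟩ := hz.exists_le_sylow
  exact ⟨P₁, hP₁ (mem_zpowers u)⟩

/-- the `p`-part of the centralizer of a `p`-element is the full `p`-part when Sylows are abelian -/
theorem factorization_centralizer (P : Sylow p G)
    (hab : ∀ a ∈ (P : Subgroup G), ∀ b ∈ (P : Subgroup G), a * b = b * a)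
    (u : G) (hu : ∃ k : ℕ, u ^ p ^ k = 1) :
    (Nat.card (centralizer ({u} : Set G))).factorization p = (Nat.card G).factorization p := by
  obtain ⟨P₁, hP₁⟩ := exists_sylow_mem p u hu
  have hle : (P₁ : Subgroup G) ≤ centralizer ({u} : Set G) := by
    intro a ha
    rw [mem_centralizer_singleton_iff]
    exact sylow_abelian_all p P hab P₁ a ha u hP₁
  have h1 : p ^ (Nat.card G).factorization p ∣ Nat.card (centralizer ({u} : Set G)) := by
    rw [← P₁.card_eq_multiplicity]
    exact Subgroup.card_dvd_of_le hle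
  have h2 : Nat.card (centralizer ({u} : Set G)) ∣ Nat.card G := Subgroup.card_subgroup_dvd_card _
  have hC0 : Nat.card (centralizer ({u} : Set G)) ≠ 0 := Nat.card_pos.ne'
  have hG0 : Nat.card G ≠ 0 := Nat.card_pos.ne'
  apply le_antisymm
  · exact (Nat.factorization_le_iff_dvd hC0 hG0).2 h2 p
  · exact (hp.out.pow_dvd_iff_le_factorization hC0).1 h1

/-- number of `p'`-elements commuting with a `p`-element `u` whose centralizer has a normal
`p`-complement -/
theorem card_coprime_centralizer (P : Sylow p G)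
    (hab : ∀ a ∈ (P : Subgroup G), ∀ b ∈ (P : Subgroup G), a * b = b * a)
    (u : G) (hu : ∃ k : ℕ, u ^ p ^ k = 1)
    (hnpc : Cfsg.HasNormalPComplement p ↥(centralizer ({u} : Set G))) :
    Nat.card {x : G // (orderOf x).Coprime p ∧ u * x = x * u} * p ^ (Nat.card G).factorization p
      = Nat.card (centralizer ({u} : Set G)) := by
  obtain ⟨N, -, hcard, hmem⟩ := npc_mem_iff p hnpc
  rw [factorization_centralizer p P hab u hu] at hcard
  rw [← hcard]
  congr 1
  apply Nat.card_congr
  refine
    { toFun := fun x => ⟨⟨x.1, mem_centralizer_singleton_iff.2 x.2.2.symm⟩, ?_⟩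
      invFun := fun y => ⟨y.1.1, ?_, (mem_centralizer_singleton_iff.1 y.1.2).symm⟩
      left_inv := fun x => rfl
      right_inv := fun y => rfl }
  · rw [hmem, Subgroup.orderOf_mk]
    exact x.2.1
  · have := (hmem y.1).1 y.2
    rwa [← Subgroup.orderOf_coe] at this

end sylow

section classes

variable {G : Type*} [Group G] [Finite G]

/-- conjugate elements have centralizers of the same order -/
theorem card_centralizer_eq_of_isConj {r u : G} (h : IsConj r u) :
    Nat.card (centralizer ({u} : Set G)) = Nat.card (centralizer ({r} : Set G)) := by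
  have h1 : (centralizer ({u} : Set G)).index = (centralizer ({r} : Set G)).index := by
    rw [index_Cz_eq_card_conj, index_Cz_eq_card_conj]
    apply Nat.card_congr
    apply Equiv.subtypeEquivRight
    intro x
    exact ⟨fun hx => h.trans hx, fun hx => h.symm.trans hx⟩
  have h2 := (centralizer ({u} : Set G)).card_mul_index
  have h3 := (centralizer ({r} : Set G)).card_mul_index
  rw [h1] at h2
  have hpos : 0 < (centralizer ({r} : Set G)).index :=
    Nat.pos_of_ne_zero Subgroup.index_ne_zero_of_finite
  exact Nat.eq_of_mul_eq_mul_right hpos (h2.trans h3.symm)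

/-- the sum of the centralizer orders over a conjugacy class is the group order -/
theorem sum_card_centralizer_class [Fintype G] [DecidableEq G] (r : G) [DecidablePred (IsConj r)] :
    ∑ u ∈ Finset.univ.filter (fun u => IsConj r u), Nat.card (centralizer ({u} : Set G))
      = Nat.card G := by
  rw [Finset.sum_congr rfl (fun u hu => card_centralizer_eq_of_isConj (Finset.mem_filter.1 hu).2),
    Finset.sum_const, smul_eq_mul]
  have h1 : (Finset.univ.filter (fun u => IsConj r u)).card = (centralizer ({r} : Set G)).index := by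
    rw [index_Cz_eq_card_conj, Nat.card_eq_fintype_card, Fintype.card_subtype]
  rw [h1, mul_comm]
  exact (centralizer ({r} : Set G)).card_mul_index

/-- an element `w` not commuting with `b` moves `b` out of any set of fewer than `p` elements,
`p` being at most the smallest prime divisor of `|G|` -/
theorem orbit_escape [DecidableEq G] (p : ℕ)
    (hmin : ∀ r : ℕ, r.Prime → r ∣ Nat.card G → p ≤ r) (w b : G) (hwb : w * b ≠ b * w)
    (S : Finset G) (hS : S.card < p) : ∃ i : ℕ, w ^ i * b * (w ^ i)⁻¹ ∉ S := by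
  by_contra hcon
  push Not at hcon
  have hfinC : Finite (ConjAct G) := inferInstanceAs (Finite G)
  let K : Subgroup (ConjAct G) := zpowers (ConjAct.toConjAct w)
  have horb : MulAction.orbit K b ⊆ (S : Set G) := by
    rintro _ ⟨⟨k, hk⟩, rfl⟩
    have hfin : IsOfFinOrder (ConjAct.toConjAct w) := isOfFinOrder_of_finite _
    rw [← mem_powers_iff_mem_zpowers] at hk
    obtain ⟨i, rfl⟩ := hk
    have : (⟨ConjAct.toConjAct w ^ i, (mem_powers_iff_mem_zpowers).1 ⟨i, rfl⟩⟩ : K) • b
        = w ^ i * b * (w ^ i)⁻¹ := by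
      show (ConjAct.toConjAct w ^ i) • b = _
      rw [ConjAct.smul_def, map_pow, ConjAct.ofConjAct_toConjAct]
    show (⟨ConjAct.toConjAct w ^ i, _⟩ : K) • b ∈ (S : Set G)
    rw [this]
    exact hcon i
  have hd1 : (MulAction.orbit K b).ncard ≤ S.card := by
    have := Set.ncard_le_ncard horb (Finset.finite_toSet S)
    rwa [Set.ncard_coe_finset] at this
  have hidx := MulAction.index_stabilizer K b
  set d := (MulAction.orbit K b).ncard with hd
  have hdvd : d ∣ Nat.card G := by
    rw [← hidx]
    have h1 : (MulAction.stabilizer K b).index ∣ Nat.card K := Subgroup.index_dvd_card _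
    have h2 : Nat.card K ∣ Nat.card (ConjAct G) := Subgroup.card_subgroup_dvd_card K
    exact h1.trans h2
  have hd0 : d ≠ 0 := by
    rw [← hidx]
    exact Subgroup.index_ne_zero_of_finite
  have hd1' : d ≠ 1 := by
    intro h1
    rw [← hidx, Subgroup.index_eq_one] at h1
    have hm : (⟨ConjAct.toConjAct w, mem_zpowers _⟩ : K) ∈ MulAction.stabilizer K b := by
      rw [h1]; trivial
    rw [MulAction.mem_stabilizer_iff] at hm
    have h2 : (ConjAct.toConjAct w) • b = b := hm
    rw [ConjAct.smul_def, ConjAct.ofConjAct_toConjAct] at h2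
    apply hwb
    calc w * b = w * b * w⁻¹ * w := by group
      _ = b * w := by rw [h2]
  have hpr := Nat.minFac_prime hd1'
  have h3 := hmin _ hpr ((Nat.minFac_dvd d).trans hdvd)
  have h4 := Nat.minFac_le (Nat.pos_of_ne_zero hd0)
  omega

/-- representatives of the classes of nontrivial `p`-elements: at most `p ^ n - p` are needed
when some element normalizes but does not centralize a Sylow `p`-subgroup -/
theorem exists_reps [DecidableEq G] (p : ℕ) [hp : Fact p.Prime] (P : Sylow p G)
    (hmin : ∀ r : ℕ, r.Prime → r ∣ Nat.card G → p ≤ r)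
    (w : G) (hwN : w ∈ normalizer ((P : Subgroup G) : Set G))
    (hwC : w ∉ centralizer ((P : Subgroup G) : Set G)) :
    ∃ R : Finset G, R.card + p ≤ p ^ (Nat.card G).factorization p ∧
      ∀ u : G, u ≠ 1 → (∃ k : ℕ, u ^ p ^ k = 1) → ∃ r ∈ R, IsConj r u := by
  classical
  have := Fintype.ofFinite G
  -- an element of `P` moved by `w`
  obtain ⟨a, haP, haw⟩ : ∃ a ∈ (P : Subgroup G), w * a ≠ a * w := by
    by_contra hcon
    push Not at hcon
    apply hwC
    rw [mem_centralizer_iff]
    intro h hh
    exact (hcon h hh).symm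
  have ha1 : a ≠ 1 := by
    rintro rfl
    exact haw (by simp)
  obtain ⟨k, hk⟩ : ∃ k : ℕ, orderOf a = p ^ k := by
    obtain ⟨k, hk⟩ := P.2 ⟨a, haP⟩
    have h1 : a ^ p ^ k = 1 := by
      have := congrArg Subtype.val hk
      simpa using this
    obtain ⟨j, _, hj⟩ := (Nat.dvd_prime_pow hp.out).1 (orderOf_dvd_of_pow_eq_one h1)
    exact ⟨j, hj⟩
  have hk0 : k ≠ 0 := by
    rintro rfl
    rw [pow_zero, orderOf_eq_one_iff] at hk
    exact ha1 hk
  have hple : p ≤ orderOf a := by
    rw [hk]
    calc p = p ^ 1 := (pow_one p).symm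
      _ ≤ p ^ k := Nat.pow_le_pow_right hp.out.pos (Nat.one_le_iff_ne_zero.2 hk0)
  have hp2 := hp.out.two_le
  -- the set `S` of the first `p - 1` powers of `a`
  let S : Finset G := (Finset.Icc 1 (p - 1)).image (fun j => a ^ j)
  have hScard : S.card = p - 1 := by
    rw [Finset.card_image_of_injOn, Nat.card_Icc]
    · omega
    · intro i hi j hj hij
      rw [Finset.coe_Icc, Set.mem_Icc] at hi hj
      exact pow_injOn_Iio_orderOf (Set.mem_Iio.2 (by omega)) (Set.mem_Iio.2 (by omega)) hij
  have hSmem : ∀ s ∈ S, s ∈ (P : Subgroup G) ∧ s ≠ 1 ∧ w * s ≠ s * w := by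
    intro s hs
    obtain ⟨j, hj, rfl⟩ := Finset.mem_image.1 hs
    rw [Finset.mem_Icc] at hj
    refine ⟨pow_mem haP j, ?_, ?_⟩
    · intro h1
      have := orderOf_dvd_of_pow_eq_one h1
      have := Nat.le_of_dvd (by omega) this
      omega
    · intro hcomm
      have hcop : j.Coprime (orderOf a) := by
        rw [hk]
        apply Nat.Coprime.pow_right
        rw [Nat.coprime_comm]
        exact (Nat.Prime.coprime_iff_not_dvd hp.out).2 (fun hd => by
          have := Nat.le_of_dvd (by omega) hd
          omega)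
      obtain ⟨m, hm⟩ := exists_pow_eq_self_of_coprime hcop
      apply haw
      have h2 : Commute w (a ^ j) := hcomm
      have h3 : Commute w ((a ^ j) ^ m) := h2.pow_right m
      rw [hm] at h3
      exact h3
  let Pf : Finset G := Finset.univ.filter (fun x => x ∈ (P : Subgroup G))
  have hPf : Pf.card = p ^ (Nat.card G).factorization p := by
    rw [← P.card_eq_multiplicity, Nat.card_eq_fintype_card, Fintype.card_subtype]
  have hSsub : S ⊆ Pf.erase 1 := by
    intro s hs
    obtain ⟨h1, h2, _⟩ := hSmem s hs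
    rw [Finset.mem_erase]
    exact ⟨h2, Finset.mem_filter.2 ⟨Finset.mem_univ _, h1⟩⟩
  refine ⟨(Pf.erase 1) \ S, ?_, ?_⟩
  · rw [Finset.card_sdiff_of_subset hSsub, hScard,
      Finset.card_erase_of_mem (Finset.mem_filter.2 ⟨Finset.mem_univ _, one_mem _⟩), hPf]
    have h1 := Finset.card_le_card hSsub
    rw [hScard, Finset.card_erase_of_mem (Finset.mem_filter.2 ⟨Finset.mem_univ _, one_mem _⟩),
      hPf] at h1
    omega
  · intro u hu1 hu
    obtain ⟨P₁, hP₁⟩ := exists_sylow_mem p u hu
    obtain ⟨g, hg⟩ := MulAction.exists_smul_eq G P₁ P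
    have hu' : g * u * g⁻¹ ∈ (P : Subgroup G) := by
      rw [← hg, Sylow.coe_subgroup_smul]
      exact ⟨u, hP₁, rfl⟩
    have hu'1 : g * u * g⁻¹ ≠ 1 := by
      intro h1
      apply hu1
      have : u = g⁻¹ * (g * u * g⁻¹) * g := by group
      rw [this, h1]; group
    have hconj : IsConj (g * u * g⁻¹) u := by
      rw [isConj_comm, isConj_iff]
      exact ⟨g, rfl⟩
    by_cases hS : g * u * g⁻¹ ∈ S
    · obtain ⟨-, -, hnc⟩ := hSmem _ hS
      obtain ⟨i, hi⟩ := orbit_escape p hmin w (g * u * g⁻¹) hnc S (by rw [hScard]; omega)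
      refine ⟨w ^ i * (g * u * g⁻¹) * (w ^ i)⁻¹, ?_, ?_⟩
      · rw [Finset.mem_sdiff, Finset.mem_erase]
        refine ⟨⟨?_, Finset.mem_filter.2 ⟨Finset.mem_univ _, ?_⟩⟩, hi⟩
        · intro h1
          apply hu'1
          have : g * u * g⁻¹ = (w ^ i)⁻¹ * (w ^ i * (g * u * g⁻¹) * (w ^ i)⁻¹) * w ^ i := by group
          rw [this, h1]; group
        · have hwi : w ^ i ∈ normalizer ((P : Subgroup G) : Set G) := pow_mem hwN i
          exact (mem_normalizer_iff.1 hwi _).1 hu'
      · have h1 : IsConj (w ^ i * (g * u * g⁻¹) * (w ^ i)⁻¹) (g * u * g⁻¹) := by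
          rw [isConj_comm, isConj_iff]
          exact ⟨w ^ i, rfl⟩
        exact h1.trans hconj
    · refine ⟨g * u * g⁻¹, ?_, hconj⟩
      rw [Finset.mem_sdiff, Finset.mem_erase]
      exact ⟨⟨hu'1, Finset.mem_filter.2 ⟨Finset.mem_univ _, hu'⟩⟩, hS⟩

/-- an element whose class size is not divisible by `p ^ 2` commutes with many `p`-elements -/
theorem le_card_commuting [Fintype G] [DecidableEq G] (p : ℕ) [hp : Fact p.Prime] (x : G)
    [DecidablePred (fun u : G => (u ≠ 1 ∧ ∃ k : ℕ, u ^ p ^ k = 1) ∧ u * x = x * u)]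
    (hx : ¬ p ^ 2 ∣ (centralizer ({x} : Set G)).index) (m : ℕ)
    (hm : (Nat.card G).factorization p = m + 1) :
    p ^ m ≤ (Finset.univ.filter
      (fun u : G => (u ≠ 1 ∧ ∃ k : ℕ, u ^ p ^ k = 1) ∧ u * x = x * u)).card + 1 := by
  set C := centralizer ({x} : Set G) with hC
  have hC0 : Nat.card C ≠ 0 := Nat.card_pos.ne'
  have hi0 : C.index ≠ 0 := Subgroup.index_ne_zero_of_finite
  have hfac : (Nat.card G).factorization p =
      (Nat.card C).factorization p + C.index.factorization p := by
    rw [← C.card_mul_index, Nat.factorization_mul hC0 hi0]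
    rfl
  have hidx : C.index.factorization p ≤ 1 := by
    by_contra hcon
    push Not at hcon
    exact hx ((hp.out.pow_dvd_iff_le_factorization hi0).2 hcon)
  have hv : m ≤ (Nat.card C).factorization p := by omega
  let S : Sylow p C := default
  have hScard : Nat.card (S : Subgroup C) = p ^ (Nat.card C).factorization p :=
    S.card_eq_multiplicity
  have hle : p ^ m ≤ Nat.card (S : Subgroup C) := by
    rw [hScard]
    exact Nat.pow_le_pow_right hp.out.pos hv
  refine hle.trans ?_
  have hfin : Fintype (S : Subgroup C) := Fintype.ofFinite _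
  rw [Nat.card_eq_fintype_card, ← Finset.card_univ,
    ← Finset.card_insert_of_notMem (a := (1 : G)) (s := Finset.univ.filter
      (fun u : G => (u ≠ 1 ∧ ∃ k : ℕ, u ^ p ^ k = 1) ∧ u * x = x * u))
      (by simp)]
  apply Finset.card_le_card_of_injOn (s := (Finset.univ : Finset (S : Subgroup C)))
    (f := fun s : (S : Subgroup C) => ((s : C) : G))
  · intro s _
    rw [Finset.mem_coe, Finset.mem_insert, Finset.mem_filter]
    by_cases h1 : ((s : C) : G) = 1
    · exact Or.inl h1
    · right
      refine ⟨Finset.mem_univ _, ⟨h1, ?_⟩, ?_⟩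
      · obtain ⟨k, hk⟩ := S.2 s
        refine ⟨k, ?_⟩
        have := congrArg (fun t : (S : Subgroup C) => ((t : C) : G)) hk
        simpa using this
      · exact mem_centralizer_singleton_iff.1 (s : C).2
  · intro s _ t _ hst
    exact Subtype.ext (Subtype.ext hst)

end classes

section main

/-- pure arithmetic at the end of the counting argument -/
theorem counting_arith (p A' g0 r t x' : ℕ) (hp : 2 ≤ p)
    (H1 : r + p ≤ p * (A' + 1)) (H2 : t ≤ r * g0)
    (H3 : g0 * (p * (A' + 1)) ≤ (x' + 1) + t)
    (H4 : p * (A' + 1) + x' * A' ≤ t + 1) : False := by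
  have H5 : t + p * g0 ≤ p * (A' + 1) * g0 := by
    have := Nat.mul_le_mul_right g0 H1
    nlinarith
  have H6 : p * g0 ≤ x' + 1 := by nlinarith
  have H7 : p * (A' + 1) + p * g0 * A' ≤ t + (A' + 1) := by
    have := Nat.mul_le_mul_right A' H6
    nlinarith
  have H8 : t ≤ p * g0 * A' := by nlinarith
  nlinarith

/-- **L1 (counting).** -/
theorem counting_false {G : Type u} [Group G] [Finite G] (p : ℕ) [hp : Fact p.Prime] (P : Sylow p G)
    (hmin : ∀ r : ℕ, r.Prime → r ∣ Nat.card G → p ≤ r)
    (hab : ∀ a ∈ (P : Subgroup G), ∀ b ∈ (P : Subgroup G), a * b = b * a)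
    (hnpc : ∀ u : G, u ≠ 1 → (∃ k : ℕ, u ^ p ^ k = 1) →
      Cfsg.HasNormalPComplement p ↥(centralizer ({u} : Set G)))
    (hcw : ∀ x : G, (orderOf x).Coprime p → ¬ p ^ 2 ∣ (centralizer ({x} : Set G)).index)
    (w : G) (hwN : w ∈ normalizer ((P : Subgroup G) : Set G))
    (hwC : w ∉ centralizer ((P : Subgroup G) : Set G)) : False := by
  classical
  have := Fintype.ofFinite G
  have hp2 := hp.out.two_le
  obtain ⟨R, hRcard, hR⟩ := exists_reps p P hmin w hwN hwC
  set n := (Nat.card G).factorization p with hn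
  have hn1 : n ≠ 0 := by
    intro h0
    rw [h0, pow_zero] at hRcard
    omega
  obtain ⟨m, hm⟩ : ∃ m, n = m + 1 := Nat.exists_eq_succ_of_ne_zero hn1
  let pU : G → Prop := fun u => u ≠ 1 ∧ ∃ k : ℕ, u ^ p ^ k = 1
  let pX : G → Prop := fun x => (orderOf x).Coprime p
  let U : Finset G := Finset.univ.filter pU
  let X : Finset G := Finset.univ.filter pX
  let T : Finset (G × G) := (U ×ˢ X).filter (fun z => z.1 * z.2 = z.2 * z.1)
  -- S1 : every `p`-singular element is a product
  have hS1 : Fintype.card G ≤ X.card + T.card := by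
    have hsub : (Finset.univ : Finset G) ⊆ X ∪ T.image (fun z => z.1 * z.2) := by
      intro y _
      by_cases hy : pX y
      · exact Finset.mem_union_left _ (Finset.mem_filter.2 ⟨Finset.mem_univ _, hy⟩)
      · apply Finset.mem_union_right
        obtain ⟨u, v, huv, hu, hv, ⟨a, ha⟩, hvc⟩ := dec' y p hp.out
        have hu1 : u ≠ 1 := by
          rintro rfl
          rw [one_mul] at huv
          rw [huv] at hvc
          exact hy hvc
        have hcomm : u * v = v * u := by
          obtain ⟨i, rfl⟩ := mem_zpowers_iff.1 hu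
          obtain ⟨j, rfl⟩ := mem_zpowers_iff.1 hv
          exact (Commute.zpow_zpow_self y i j).eq
        refine Finset.mem_image.2 ⟨(u, v), ?_, huv⟩
        rw [Finset.mem_filter, Finset.mem_product]
        refine ⟨⟨Finset.mem_filter.2 ⟨Finset.mem_univ _, hu1, a, ?_⟩,
          Finset.mem_filter.2 ⟨Finset.mem_univ _, hvc⟩⟩, hcomm⟩
        rw [← ha]
        exact pow_orderOf_eq_one u
    calc Fintype.card G = (Finset.univ : Finset G).card := rfl
      _ ≤ (X ∪ T.image (fun z => z.1 * z.2)).card := Finset.card_le_card hsub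
      _ ≤ X.card + (T.image (fun z => z.1 * z.2)).card := Finset.card_union_le _ _
      _ ≤ X.card + T.card := Nat.add_le_add_left Finset.card_image_le _
  -- S2
  have hT : T.card = ∑ u ∈ U, (X.filter (fun x => u * x = x * u)).card := by
    rw [Finset.card_filter, Finset.sum_product]
    apply Finset.sum_congr rfl
    intro u _
    rw [Finset.card_filter]
  have hS2 : T.card * p ^ n = ∑ u ∈ U, Nat.card (centralizer ({u} : Set G)) := by
    rw [hT, Finset.sum_mul]
    apply Finset.sum_congr rfl
    intro u hu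
    obtain ⟨hu1, hu2⟩ := (Finset.mem_filter.1 hu).2
    rw [← card_coprime_centralizer p P hab u hu2 (hnpc u hu1 hu2)]
    congr 1
    rw [Nat.card_eq_fintype_card, Fintype.card_subtype, Finset.filter_filter]
  -- S3
  have hS3 : ∑ u ∈ U, Nat.card (centralizer ({u} : Set G)) ≤ R.card * Nat.card G := by
    calc ∑ u ∈ U, Nat.card (centralizer ({u} : Set G))
        ≤ ∑ u ∈ U, ∑ r ∈ R, if IsConj r u then Nat.card (centralizer ({u} : Set G)) else 0 := by
          apply Finset.sum_le_sum
          intro u hu
          obtain ⟨hu1, hu2⟩ := (Finset.mem_filter.1 hu).2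
          obtain ⟨r0, hr0, hc⟩ := hR u hu1 hu2
          have h := Finset.single_le_sum (f := fun r =>
            if IsConj r u then Nat.card (centralizer ({u} : Set G)) else 0)
            (fun _ _ => Nat.zero_le _) hr0
          beta_reduce at h
          rw [if_pos hc] at h
          exact h
      _ = ∑ r ∈ R, ∑ u ∈ U, if IsConj r u then Nat.card (centralizer ({u} : Set G)) else 0 :=
          Finset.sum_comm
      _ ≤ ∑ r ∈ R, ∑ u ∈ (Finset.univ : Finset G),
            if IsConj r u then Nat.card (centralizer ({u} : Set G)) else 0 := by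
          apply Finset.sum_le_sum
          intro r _
          exact Finset.sum_le_sum_of_subset (Finset.subset_univ _)
      _ = ∑ r ∈ R, Nat.card G := by
          apply Finset.sum_congr rfl
          intro r _
          rw [← Finset.sum_filter]
          exact sum_card_centralizer_class r
      _ = R.card * Nat.card G := by rw [Finset.sum_const, smul_eq_mul]
  -- S4
  have hT' : T.card = ∑ x ∈ X, (U.filter (fun u => u * x = x * u)).card := by
    rw [Finset.card_filter, Finset.sum_product_right]
    apply Finset.sum_congr rfl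
    intro x _
    rw [Finset.card_filter]
  have h1X : (1 : G) ∈ X := Finset.mem_filter.2 ⟨Finset.mem_univ _, by
    show (orderOf (1 : G)).Coprime p
    rw [orderOf_one]; exact Nat.coprime_one_left p⟩
  have hUcard : p ^ n ≤ U.card + 1 := by
    have h1 : (Finset.univ.filter (fun x => x ∈ (P : Subgroup G))).card = p ^ n := by
      rw [← P.card_eq_multiplicity, Nat.card_eq_fintype_card, Fintype.card_subtype]
    rw [← h1, ← Finset.card_insert_of_notMem (a := (1 : G)) (s := U)
      (by simp [U, pU])]
    apply Finset.card_le_card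
    intro a ha
    rw [Finset.mem_filter] at ha
    rw [Finset.mem_insert]
    by_cases ha1 : a = 1
    · exact Or.inl ha1
    · right
      refine Finset.mem_filter.2 ⟨Finset.mem_univ _, ha1, ?_⟩
      obtain ⟨k, hk⟩ := P.2 ⟨a, ha.2⟩
      refine ⟨k, ?_⟩
      have := congrArg Subtype.val hk
      simpa using this
  have hS4 : p ^ n + (X.card - 1) * (p ^ m - 1) ≤ T.card + 1 := by
    rw [hT', ← Finset.add_sum_erase X _ h1X]
    have hc1 : (U.filter (fun u => u * (1 : G) = 1 * u)).card = U.card := by
      congr 1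
      apply Finset.filter_true_of_mem
      intro u _
      simp
    have hrest : (X.card - 1) * (p ^ m - 1) ≤
        ∑ x ∈ X.erase 1, (U.filter (fun u => u * x = x * u)).card := by
      rw [← Finset.card_erase_of_mem h1X, ← smul_eq_mul]
      apply Finset.card_nsmul_le_sum
      intro x hx
      have hxX : pX x := (Finset.mem_filter.1 (Finset.mem_of_mem_erase hx)).2
      have := le_card_commuting p x (hcw x hxX) m (hn ▸ hm)
      rw [Finset.filter_filter]
      exact Nat.sub_le_of_le_add this
    rw [hc1]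
    omega
  -- S5
  have hG : Nat.card G = (Nat.card G / p ^ n) * p ^ n :=
    (Nat.div_mul_cancel (Nat.ordProj_dvd (Nat.card G) p)).symm
  set g0 := Nat.card G / p ^ n with hg0
  have hpn : p ^ n = p * (p ^ m) := by rw [hm, pow_succ, mul_comm]
  have hApos : 0 < p ^ m := pow_pos hp.out.pos m
  obtain ⟨A', hA'⟩ : ∃ A', p ^ m = A' + 1 := Nat.exists_eq_succ_of_ne_zero hApos.ne'
  have hXpos : 0 < X.card := Finset.card_pos.2 ⟨1, h1X⟩
  obtain ⟨x', hx'⟩ : ∃ x', X.card = x' + 1 := Nat.exists_eq_succ_of_ne_zero hXpos.ne'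
  have H2 : T.card ≤ R.card * g0 := by
    have h1 : T.card * p ^ n ≤ R.card * g0 * p ^ n := by
      rw [hS2, mul_assoc, ← hG]
      exact hS3
    exact Nat.le_of_mul_le_mul_right h1 (pow_pos hp.out.pos n)
  have H3 : g0 * (p * (A' + 1)) ≤ (x' + 1) + T.card := by
    rw [← hA', ← hpn, ← hG, ← hx', Nat.card_eq_fintype_card]
    exact hS1
  have H4 : p * (A' + 1) + x' * A' ≤ T.card + 1 := by
    have := hS4
    rw [hpn, hx', hA'] at this
    simpa using this
  have H1 : R.card + p ≤ p * (A' + 1) := by
    rw [← hA', ← hpn]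
    exact hRcard
  exact counting_arith p A' g0 R.card T.card x' hp2 H1 H2 H3 H4

end main

end Cfsg.Agent.Lib.Helper73.SqF
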