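import Mathlib
import Cfsg.Prelude.Def_GeometricClasses
import Cfsg.Agent.Lib.Helper61.AschDefs
import Cfsg.Agent.Lib.Helper43.SpAschDefs
import Cfsg.Agent.Lib.Helper43.SpAschDefs2

/-!
# K-SpAsch-T4 (helper73): transport of the tensor class along a bijection of index types
-/

set_option autoImplicit false

namespace Cfsg.Agent.Lib.Helper73.SpAsch

open Cfsg Cfsg.Geo Cfsg.Agent.Lib.Helper61.Asch Cfsg.Agent.Lib.Helper43.SpAsch
open scoped Matrix Kronecker MatrixGroups

variable {ι κ : Type} [Fintype ι] [DecidableEq ι] [Fintype κ] [DecidableEq κ] {F : Type*} [Field F]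

/-- composition of two reindexings. -/
theorem glReindex_glReindex {μ : Type} [Fintype μ] [DecidableEq μ] (e₁ : μ ≃ κ) (e₂ : κ ≃ ι)
    (g : GL μ F) : glReindex e₂ (glReindex e₁ g) = glReindex (e₁.trans e₂) g := by
  apply Units.ext
  ext a b
  rfl

theorem glMap_symm_apply (e : ι ≃ κ) (g : GL κ F) :
    (glMap e).symm g = glReindex e.symm g := by
  apply (glMap e).injective
  rw [MulEquiv.apply_symm_apply]
  apply Units.ext
  ext a b
  show (g : Matrix κ κ F) a b = _
  rw [glMap_val]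
  simp [glReindex, Matrix.reindex_apply]

/-- the basic identity: `P' *ᵥ (x ∘ e) = (P *ᵥ x) ∘ e` for `P' = (glMap e).symm P`. -/
theorem symm_mulVec_comp (e : ι ≃ κ) (P : GL κ F) (v : κ → F) :
    (((glMap e).symm P : GL ι F) : Matrix ι ι F) *ᵥ (v ∘ e) = ((P : Matrix κ κ F) *ᵥ v) ∘ e := by
  have h := glMap_mulVec e ((glMap e).symm P) v
  rw [MulEquiv.apply_symm_apply] at h
  rw [h]
  funext a
  simp

/-- transport of membership in a conjugated reindexed subgroup. -/
theorem le_map_map_of_map_le {μ : Type} [Fintype μ] [DecidableEq μ] (e : ι ≃ κ) (e' : κ ≃ μ)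
    (S : Subgroup (GL μ F)) (P : GL κ F) (K : Subgroup (GL ι F))
    (hK : K.map (glMap e).toMonoidHom ≤
      (S.map (glReindex e'.symm).toMonoidHom).map (MulAut.conj P).toMonoidHom) :
    K ≤ (S.map (glReindex (e.trans e').symm).toMonoidHom).map
      (MulAut.conj ((glMap e).symm P)).toMonoidHom := by
  intro k hk
  have h1 : glMap e k ∈ (S.map (glReindex e'.symm).toMonoidHom).map (MulAut.conj P).toMonoidHom :=
    hK ⟨k, hk, rfl⟩
  obtain ⟨_, ⟨g, hg, rfl⟩, h2⟩ := h1
  refine ⟨glReindex (e.trans e').symm g, ⟨g, hg, rfl⟩, ?_⟩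
  apply (glMap e).injective
  show glMap e ((glMap e).symm P * glReindex (e.trans e').symm g * ((glMap e).symm P)⁻¹) = glMap e k
  rw [map_mul, map_mul, map_inv, MulEquiv.apply_symm_apply]
  have h3 : glMap e (glReindex (e.trans e').symm g) = glReindex e'.symm g := by
    show glReindex e (glReindex (e.trans e').symm g) = glReindex e'.symm g
    rw [glReindex_glReindex]
    have h4 : (e.trans e').symm.trans e = e'.symm := by
      ext a
      simp
    rw [h4]
  rw [h3]
  exact h2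

variable [Fintype F]

/-- **K-SpAsch-T4**. -/
theorem sgeom_transport_tensor (e : ι ≃ κ) (f : (ι → F) → (ι → F) → F) (K : Subgroup (GL ι F))
    (hq : Odd (Fintype.card F)) (n₁ n₂ : ℕ) (e' : κ ≃ Fin n₁ × Fin n₂) (P : GL κ F)
    (f₁ : (Fin n₁ → F) → (Fin n₁ → F) → F) (f₂ : (Fin n₂ → F) → (Fin n₂ → F) → F) (h3 : 3 ≤ n₂)
    (hf₁ : IsSymplecticForm f₁) (hf₂ : IsSymmetricForm f₂)
    (hT : IsTensorFormStructure id (formMap e f) f₁ f₂ e' P)
    (hK : K.map (glMap e).toMonoidHom ≤ tensorProductSubgroup n₁ n₂ e' P) : SGeom f K := by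
  refine SGeom.tensor hq n₁ n₂ (e.trans e') ((glMap e).symm P) f₁ f₂ h3 hf₁ hf₂ ?_ ?_
  · obtain ⟨c, hc, h⟩ := hT
    refine ⟨c, hc, fun x y => ?_⟩
    rw [← h x y]
    unfold formMap
    have hx : x ∘ ⇑(e.trans e') = (x ∘ e') ∘ e := by
      funext a; simp
    have hy : y ∘ ⇑(e.trans e') = (y ∘ e') ∘ e := by
      funext a; simp
    rw [hx, hy, symm_mulVec_comp, symm_mulVec_comp]
  · exact le_map_map_of_map_le e e' (kroneckerSubgroup n₁ n₂ F) P K hK

end Cfsg.Agent.Lib.Helper73.SpAsch
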