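import Mathlib
import Cfsg.Prelude.Def_GeometricClasses
import Cfsg.Agent.Lib.Helper61.AschDefs
import Cfsg.Agent.Lib.Helper43.SpAschDefs
import Cfsg.Agent.Lib.Helper43.SpAschDefs2
import Cfsg.Agent.Lib.Helper73.SpAschT4

/-!
# K-SpAsch-T7 (helper73): transport of the tensor-wreath class along a bijection of index types
-/

set_option autoImplicit false

namespace Cfsg.Agent.Lib.Helper73.SpAsch

open Cfsg Cfsg.Geo Cfsg.Agent.Lib.Helper61.Asch Cfsg.Agent.Lib.Helper43.SpAsch
open scoped Matrix Kronecker MatrixGroups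

variable {ι κ : Type} [Fintype ι] [DecidableEq ι] [Fintype κ] [DecidableEq κ] {F : Type*} [Field F]
  [Fintype F]

/-- **K-SpAsch-T7**. -/
theorem sgeom_transport_wreath (e : ι ≃ κ) (f : (ι → F) → (ι → F) → F) (K : Subgroup (GL ι F))
    (hq : Odd (Fintype.card F)) (k t : ℕ) (e' : κ ≃ (Fin t → Fin k)) (P : GL κ F)
    (f₁ : (Fin k → F) → (Fin k → F) → F) (ht : Odd t) (ht3 : 3 ≤ t)
    (hex : ¬ (Fintype.card F = 3 ∧ k = 2))
    (hf₁ : IsSymplecticForm f₁) (hT : IsTensorPowerFormStructure id (formMap e f) f₁ e' P)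
    (hK : K.map (glMap e).toMonoidHom ≤ tensorWreathSubgroup k t e' P) : SGeom f K := by
  refine SGeom.wreath hq k t (e.trans e') ((glMap e).symm P) f₁ ht ht3 hex hf₁ ?_ ?_
  · obtain ⟨c, hc, h⟩ := hT
    refine ⟨c, hc, fun x y => ?_⟩
    rw [← h x y]
    unfold formMap
    have hx : x ∘ ⇑(e.trans e') = (x ∘ e') ∘ e := by
      funext a; simp
    have hy : y ∘ ⇑(e.trans e') = (y ∘ e') ∘ e := by
      funext a; simp
    rw [hx, hy, symm_mulVec_comp, symm_mulVec_comp]
  · exact le_map_map_of_map_le e e' (tensorWreathStandard k t F) P K hK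

end Cfsg.Agent.Lib.Helper73.SpAsch
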