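import Mathlib

/-!
# Products of pairwise commuting solvable subgroups (helper73)

* `isSolvable_pi` : a finite product of solvable groups is solvable.
* `isSolvable_iSup_of_commute` : the join of finitely many pairwise commuting solvable subgroups
  is solvable.
* `le_of_perfect_mod_central` : a subgroup `N` of a solvable subgroup with `⁅N, N⁆ ⊔ Z = N`,
  `Z` central, lies in `Z`.
-/

set_option autoImplicit false

namespace Cfsg.Agent.Lib.Helper73.SolvProd

open Subgroup
open scoped commutatorElement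

theorem derivedSeries_pi_le {ι : Type*} {G : ι → Type*} [∀ i, Group (G i)] (n : ℕ) :
    derivedSeries (∀ i, G i) n ≤ Subgroup.pi Set.univ (fun i => derivedSeries (G i) n) := by
  induction n with
  | zero =>
    intro x _
    rw [Subgroup.mem_pi]
    intro i _
    exact Subgroup.mem_top _
  | succ n ih =>
    rw [derivedSeries_succ]
    refine le_trans (Subgroup.commutator_mono ih ih) ?_
    refine le_trans (Subgroup.commutator_pi_pi_le _ _) ?_
    intro x hx
    rw [Subgroup.mem_pi] at hx ⊢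
    intro i hi
    have := hx i hi
    rwa [derivedSeries_succ]

theorem derivedSeries_antitone' {G : Type*} [Group G] {m n : ℕ} (h : m ≤ n) :
    derivedSeries G n ≤ derivedSeries G m := by
  induction h with
  | refl => exact le_refl _
  | step _ ih =>
    rw [derivedSeries_succ]
    exact le_trans (Subgroup.commutator_le_left _ _) ih

theorem isSolvable_pi {ι : Type*} [Finite ι] {G : ι → Type*} [∀ i, Group (G i)]
    (h : ∀ i, Group.IsSolvable (G i)) : Group.IsSolvable (∀ i, G i) := by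
  classical
  have := Fintype.ofFinite ι
  choose n hn using fun i => (Group.isSolvable_def (G i)).1 (h i)
  refine (Group.isSolvable_def _).2 ⟨Finset.univ.sup n, ?_⟩
  rw [eq_bot_iff]
  refine le_trans (derivedSeries_pi_le _) ?_
  intro x hx
  rw [Subgroup.mem_pi] at hx
  rw [Subgroup.mem_bot]
  funext i
  have h1 := hx i (Set.mem_univ i)
  have h2 : derivedSeries (G i) (Finset.univ.sup n) ≤ derivedSeries (G i) (n i) :=
    derivedSeries_antitone' (Finset.le_sup (Finset.mem_univ i))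
  have h3 := h2 h1
  rw [hn i, Subgroup.mem_bot] at h3
  exact h3

theorem isSolvable_iSup_of_commute {G : Type*} [Group G] {ι : Type*} [Finite ι]
    (H : ι → Subgroup G)
    (hcomm : Pairwise fun i j => ∀ x y : G, x ∈ H i → y ∈ H j → Commute x y)
    (hsol : ∀ i, Group.IsSolvable (H i)) : Group.IsSolvable ↥(⨆ i, H i) := by
  classical
  have := Fintype.ofFinite ι
  have hpi : Group.IsSolvable (∀ i, H i) := isSolvable_pi hsol
  have hrange : (Subgroup.noncommPiCoprod hcomm).range = ⨆ i, H i :=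
    Subgroup.noncommPiCoprod_range (hcomm := hcomm)
  rw [← hrange]
  exact Group.isSolvable_of_surjective (f := (Subgroup.noncommPiCoprod hcomm).rangeRestrict)
    (MonoidHom.rangeRestrict_surjective _)

theorem isSolvable_of_le {G : Type*} [Group G] {H K : Subgroup G} (h : H ≤ K)
    (hK : Group.IsSolvable K) : Group.IsSolvable H :=
  Group.isSolvable_of_isSolvable_injective (f := Subgroup.inclusion h) (Subgroup.inclusion_injective h)

theorem isSolvable_map {G G' : Type*} [Group G] [Group G'] (f : G →* G') (H : Subgroup G)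
    (hH : Group.IsSolvable H) : Group.IsSolvable (H.map f) :=
  Group.isSolvable_of_surjective (f := f.subgroupMap H) (f.subgroupMap_surjective H)

/-- central elements drop out of commutators. -/
theorem commutator_sup_central_le {G : Type*} [Group G] (M Z : Subgroup G)
    (hZ : Z ≤ Subgroup.center G) : ⁅M ⊔ Z, M ⊔ Z⁆ ≤ ⁅M, M⁆ := by
  have hZn : Z.Normal := by
    refine ⟨fun z hz g => ?_⟩
    have hc := Subgroup.mem_center_iff.1 (hZ hz) g
    have : g * z * g⁻¹ = z := by rw [hc, mul_inv_cancel_right]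
    rw [this]; exact hz
  rw [Subgroup.commutator_le]
  intro g₁ hg₁ g₂ hg₂
  have h1 : g₁ ∈ ((M ⊔ Z : Subgroup G) : Set G) := hg₁
  have h2 : g₂ ∈ ((M ⊔ Z : Subgroup G) : Set G) := hg₂
  rw [Subgroup.mul_normal] at h1 h2
  obtain ⟨a, ha, z, hz, rfl⟩ := Set.mem_mul.1 h1
  obtain ⟨b, hb, w, hw, rfl⟩ := Set.mem_mul.1 h2
  change ⁅a * z, b * w⁆ ∈ ⁅M, M⁆
  have hzc : ∀ g : G, g * z = z * g := fun g => Subgroup.mem_center_iff.1 (hZ hz) g
  have hwc : ∀ g : G, g * w = w * g := fun g => Subgroup.mem_center_iff.1 (hZ hw) g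
  have : ⁅a * z, b * w⁆ = ⁅a, b⁆ := by
    rw [commutatorElement_def, commutatorElement_def]
    have e1 : (a * z)⁻¹ = a⁻¹ * z⁻¹ := by
      rw [mul_inv_rev]
      have := hzc a⁻¹
      -- a⁻¹ * z = z * a⁻¹  ⇒  z⁻¹ * a⁻¹ = a⁻¹ * z⁻¹
      calc z⁻¹ * a⁻¹ = z⁻¹ * (a⁻¹ * z) * z⁻¹ := by group
        _ = z⁻¹ * (z * a⁻¹) * z⁻¹ := by rw [this]
        _ = a⁻¹ * z⁻¹ := by group
    have e2 : (b * w)⁻¹ = b⁻¹ * w⁻¹ := by
      rw [mul_inv_rev]
      have := hwc b⁻¹
      calc w⁻¹ * b⁻¹ = w⁻¹ * (b⁻¹ * w) * w⁻¹ := by group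
        _ = w⁻¹ * (w * b⁻¹) * w⁻¹ := by rw [this]
        _ = b⁻¹ * w⁻¹ := by group
    rw [e1, e2]
    calc a * z * (b * w) * (a⁻¹ * z⁻¹) * (b⁻¹ * w⁻¹)
        = a * (z * (b * w * a⁻¹)) * z⁻¹ * (b⁻¹ * w⁻¹) := by group
      _ = a * ((b * w * a⁻¹) * z) * z⁻¹ * (b⁻¹ * w⁻¹) := by rw [hzc (b * w * a⁻¹)]
      _ = a * b * (w * (a⁻¹ * b⁻¹)) * w⁻¹ := by group
      _ = a * b * ((a⁻¹ * b⁻¹) * w) * w⁻¹ := by rw [hwc (a⁻¹ * b⁻¹)]
      _ = a * b * a⁻¹ * b⁻¹ := by group
  rw [this]
  exact Subgroup.commutator_mem_commutator ha hb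

/-- a perfect subgroup inside a solvable subgroup is trivial. -/
theorem eq_bot_of_perfect_of_le_solvable {G : Type*} [Group G] (M D : Subgroup G) (hMD : M ≤ D)
    (hD : Group.IsSolvable D) (hperf : ⁅M, M⁆ = M) : M = ⊥ := by
  have hM : Group.IsSolvable M := isSolvable_of_le hMD hD
  by_contra hne
  have hnt : Nontrivial M := by
    rw [Subgroup.nontrivial_iff_ne_bot]; exact hne  
  have hlt := Group.IsSolvable.commutator_lt_top_of_nontrivial M
  have h1 : (_root_.commutator M).map M.subtype = ⁅M, M⁆ := Subgroup.map_subtype_commutator M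
  rw [hperf] at h1
  have h2 : _root_.commutator M = ⊤ := by
    apply Subgroup.map_injective M.subtype_injective
    rw [h1, ← MonoidHom.range_eq_map, Subgroup.range_subtype]
  rw [h2] at hlt
  exact lt_irrefl _ hlt

theorem le_of_perfect_mod_central {G : Type*} [Group G] (N Z D : Subgroup G)
    (hZ : Z ≤ Subgroup.center G) (hND : N ≤ D) (hD : Group.IsSolvable D)
    (hperf : ⁅N, N⁆ ⊔ Z = N) : N ≤ Z := by
  set M := ⁅N, N⁆ with hM
  have hMN : M ≤ N := by rw [← hperf]; exact le_sup_left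
  have h1 : ⁅M, M⁆ = M := by
    apply le_antisymm (Subgroup.commutator_le_self M)
    calc M = ⁅N, N⁆ := rfl
      _ = ⁅M ⊔ Z, M ⊔ Z⁆ := by rw [hperf]
      _ ≤ ⁅M, M⁆ := commutator_sup_central_le M Z hZ
  have h2 : M = ⊥ := eq_bot_of_perfect_of_le_solvable M D (hMN.trans hND) hD h1
  rw [← hperf, h2, bot_sup_eq]

end Cfsg.Agent.Lib.Helper73.SolvProd
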