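import Mathlib
import Cfsg.Prelude.Def_GeometricClasses
import Cfsg.Agent.Lib.Helper61.AschDefs
import Cfsg.Agent.Lib.Helper61.AschUDefs
import Cfsg.Agent.Lib.Helper04.AschE3a
import Cfsg.Agent.Lib.Helper04.BurnsidePQ
import Cfsg.Agent.Lib.Helper49.UPairIndex
import Cfsg.Agent.Lib.Helper11.HermF4
import Cfsg.Agent.Lib.Helper73.SolvProd

/-!
# K-S5663-E7 (helper73): `q = 2`, `m = 3`: a tensor power of `GU_3(2)`'s is solvable, so it contains
no `N` with `N / Z` perfect and non-trivial.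
-/

set_option autoImplicit false

namespace Cfsg.Agent.Lib.Helper73.AschU

open Cfsg Cfsg.Geo Cfsg.Agent.Lib.Helper61.Asch Cfsg.Agent.Lib.Helper61.AschU
open scoped Matrix Kronecker MatrixGroups

variable {F : Type*} [Field F] {n : ℕ}

local notation "Mat" => Matrix (Fin n) (Fin n) F

/-! ### `pureAt` and `fac` -/

theorem pureAt_eq (m t : ℕ) (i : Fin t) (x : Matrix (Fin m) (Fin m) F) :
    pureAt m t i x = Cfsg.Agent.Lib.Helper04.Asch.pureAt m t i x := rfl

theorem pureAt_comm (m t : ℕ) (i j : Fin t) (hij : i ≠ j) (x y : Matrix (Fin m) (Fin m) F) :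
    pureAt m t i x * pureAt m t j y = pureAt m t j y * pureAt m t i x := by
  rw [pureAt_eq, pureAt_eq, Cfsg.Agent.Lib.Helper04.Asch.pureAt_eq_PT,
    Cfsg.Agent.Lib.Helper04.Asch.pureAt_eq_PT, Cfsg.Agent.Lib.Helper04.Asch.PT_mul,
    Cfsg.Agent.Lib.Helper04.Asch.PT_mul]
  congr 1
  funext k
  by_cases hki : k = i
  · subst hki
    rw [Function.update_self, Function.update_of_ne hij]
    simp
  · by_cases hkj : k = j
    · subst hkj
      rw [Function.update_self, Function.update_of_ne hki]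
      simp
    · rw [Function.update_of_ne hki, Function.update_of_ne hkj]

theorem inv_mul_coe (P : GL (Fin n) F) :
    ((P⁻¹ : GL (Fin n) F) : Mat) * (P : Mat) = 1 := by
  rw [← Units.val_mul, inv_mul_cancel, Units.val_one]

theorem fac_mul_fac (m t : ℕ) (e : Fin n ≃ (Fin t → Fin m)) (P : GL (Fin n) F) (i j : Fin t)
    (x y : Matrix (Fin m) (Fin m) F) :
    fac m t e P i x * fac m t e P j y =
      (P : Mat) * Matrix.reindex e.symm e.symm (pureAt m t i x * pureAt m t j y) *
        ((P⁻¹ : GL (Fin n) F) : Mat) := by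
  unfold fac
  have hr : Matrix.reindex e.symm e.symm (pureAt m t i x * pureAt m t j y) =
      Matrix.reindex e.symm e.symm (pureAt m t i x) *
        Matrix.reindex e.symm e.symm (pureAt m t j y) := by
    simp only [Matrix.reindex_apply]
    rw [Matrix.submatrix_mul_equiv]
  rw [hr]
  have hPP := inv_mul_coe P
  calc (P : Mat) * Matrix.reindex e.symm e.symm (pureAt m t i x) * ((P⁻¹ : GL (Fin n) F) : Mat) *
        ((P : Mat) * Matrix.reindex e.symm e.symm (pureAt m t j y) * ((P⁻¹ : GL (Fin n) F) : Mat))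
      = (P : Mat) * Matrix.reindex e.symm e.symm (pureAt m t i x) *
          (((P⁻¹ : GL (Fin n) F) : Mat) * (P : Mat)) *
          Matrix.reindex e.symm e.symm (pureAt m t j y) * ((P⁻¹ : GL (Fin n) F) : Mat) := by
        simp only [Matrix.mul_assoc]
    _ = _ := by
        rw [hPP, Matrix.mul_one]
        simp only [Matrix.mul_assoc]

theorem fac_comm (m t : ℕ) (e : Fin n ≃ (Fin t → Fin m)) (P : GL (Fin n) F) (i j : Fin t)
    (hij : i ≠ j) (x y : Matrix (Fin m) (Fin m) F) :
    fac m t e P i x * fac m t e P j y = fac m t e P j y * fac m t e P i x := by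
  rw [fac_mul_fac, fac_mul_fac, pureAt_comm m t i j hij]

/-- `fac` as a group homomorphism. -/
noncomputable def facHom (m t : ℕ) (e : Fin n ≃ (Fin t → Fin m)) (P : GL (Fin n) F) (i : Fin t) :
    GL (Fin m) F →* GL (Fin n) F :=
  (MulAut.conj P).toMonoidHom.comp
    ((glReindex e.symm).toMonoidHom.comp
      (Units.map ((Cfsg.Agent.Lib.Helper04.Asch.pureAtAlg m t i :
        Matrix (Fin m) (Fin m) F →ₐ[F] _) : Matrix (Fin m) (Fin m) F →* _)))

theorem facHom_coe (m t : ℕ) (e : Fin n ≃ (Fin t → Fin m)) (P : GL (Fin n) F) (i : Fin t)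
    (x : GL (Fin m) F) :
    ((facHom m t e P i x : GL (Fin n) F) : Mat) = fac m t e P i (x : Matrix (Fin m) (Fin m) F) := by
  rfl

/-! ### The forms -/

theorem gram_hermForm_two (k : ℕ) :
    gramMatrix (hermForm k F 2) = (1 : Matrix (Fin k) (Fin k) F) := by
  ext a b
  unfold gramMatrix hermForm
  rw [Finset.sum_eq_single a]
  · rw [Pi.single_eq_same, one_mul, Matrix.one_apply]
    by_cases h : a = b
    · subst h; simp
    · rw [if_neg h, Pi.single_eq_of_ne h]; simp
  · intro i _ hi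
    rw [Pi.single_eq_of_ne hi, zero_mul]
  · intro h; exact absurd (Finset.mem_univ a) h

theorem sum_single_sq {κ : Type*} [Fintype κ] [DecidableEq κ] (A B : κ) :
    ∑ U : κ, (Pi.single A (1 : F) : κ → F) U * ((Pi.single B (1 : F) : κ → F) U) ^ 2 =
      if A = B then 1 else 0 := by
  rw [Finset.sum_eq_single A]
  · rw [Pi.single_eq_same, one_mul]
    by_cases h : A = B
    · subst h; simp
    · rw [if_neg h, Pi.single_eq_of_ne h]; simp
  · intro i _ hi
    rw [Pi.single_eq_of_ne hi, zero_mul]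
  · intro h; exact absurd (Finset.mem_univ A) h

theorem form_emb {t : ℕ} (e : Fin n ≃ (Fin t → Fin 3)) (P : GL (Fin n) F)
    (hT : IsTensorPowerFormStructure (fun x : F => x ^ 2) (hermForm n F 2) (hermForm 3 F 2) e P) :
    ∃ c : F, c ≠ 0 ∧ ∀ X Y : (Fin t → Fin 3) → F,
      hermForm n F 2 ((P : Mat) *ᵥ (X ∘ e)) ((P : Mat) *ᵥ (Y ∘ e)) = c * ∑ a, X a * (Y a) ^ 2 := by
  obtain ⟨c, hc, h⟩ := hT
  refine ⟨c, hc, fun X Y => ?_⟩
  rw [h X Y]
  congr 1
  apply Finset.sum_congr rfl
  intro a _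
  have h1 : ∀ b : Fin t → Fin 3,
      (∏ i, gramMatrix (hermForm 3 F 2) (a i) (b i)) = if a = b then 1 else 0 := by
    intro b
    rw [gram_hermForm_two]
    have := congrFun (congrFun (Cfsg.Agent.Lib.Helper04.Asch.PT_one (F := F) (m := 3) (t := t)) a) b
    rw [Cfsg.Agent.Lib.Helper04.Asch.PT_apply, Matrix.one_apply] at this
    exact this
  simp only [h1]
  rw [Finset.sum_eq_single a]
  · simp
  · intro b _ hb
    rw [if_neg (Ne.symm hb)]; simp
  · intro h; exact absurd (Finset.mem_univ a) h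

theorem fac_mulVec_emb {t : ℕ} (e : Fin n ≃ (Fin t → Fin 3)) (P : GL (Fin n) F) (i : Fin t)
    (x : Matrix (Fin 3) (Fin 3) F) (X : (Fin t → Fin 3) → F) :
    fac 3 t e P i x *ᵥ ((P : Mat) *ᵥ (X ∘ e)) = (P : Mat) *ᵥ ((pureAt 3 t i x *ᵥ X) ∘ e) := by
  unfold fac
  rw [Matrix.mulVec_mulVec, Matrix.mul_assoc, Matrix.mul_assoc, inv_mul_coe, Matrix.mul_one,
    ← Matrix.mulVec_mulVec]
  congr 1
  rw [Matrix.reindex_apply, Equiv.symm_symm, Matrix.submatrix_mulVec_equiv]
  congr 2
  funext a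
  simp

/-- the matrix identity coming from the similarity condition. -/
theorem transpose_mul_map_eq {t : ℕ} (e : Fin n ≃ (Fin t → Fin 3)) (P : GL (Fin n) F) (i : Fin t)
    (x : Matrix (Fin 3) (Fin 3) F) (c : F)
    (hT : IsTensorPowerFormStructure (fun x : F => x ^ 2) (hermForm n F 2) (hermForm 3 F 2) e P)
    (hsim : ∀ u v : Fin n → F, hermForm n F 2 (fac 3 t e P i x *ᵥ u) (fac 3 t e P i x *ᵥ v) =
      c * hermForm n F 2 u v) :
    xᵀ * x.map (fun z => z ^ 2) = c • (1 : Matrix (Fin 3) (Fin 3) F) := by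
  obtain ⟨c₀, hc₀, hform⟩ := form_emb e P hT
  set M := pureAt 3 t i x with hM
  -- the identity for M
  have h1 : ∀ A B : Fin t → Fin 3, ∑ U, M U A * (M U B) ^ 2 = c * (if A = B then 1 else 0) := by
    intro A B
    have h2 := hsim ((P : Mat) *ᵥ ((Pi.single A (1 : F) : (Fin t → Fin 3) → F) ∘ e))
      ((P : Mat) *ᵥ ((Pi.single B (1 : F) : (Fin t → Fin 3) → F) ∘ e))
    rw [fac_mulVec_emb, fac_mulVec_emb, hform, hform, sum_single_sq] at h2
    have h3 : ∀ (C : Fin t → Fin 3) (U : Fin t → Fin 3),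
        (pureAt 3 t i x *ᵥ (Pi.single C (1 : F) : (Fin t → Fin 3) → F)) U = M U C := by
      intro C U
      rw [Matrix.mulVec_single_one]
      rfl
    simp only [h3] at h2
    have h4 : c₀ * ∑ U, M U A * (M U B) ^ 2 = c₀ * (c * (if A = B then 1 else 0)) := by
      rw [h2]; ring
    exact mul_left_cancel₀ hc₀ h4
  have h5 : Mᵀ * M.map (fun z => z ^ 2) = c • (1 : Matrix (Fin t → Fin 3) (Fin t → Fin 3) F) := by
    ext A B
    rw [Matrix.mul_apply, Matrix.smul_apply, Matrix.one_apply, smul_eq_mul, ← h1 A B]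
    rfl
  have h6 : Mᵀ = pureAt 3 t i xᵀ := by
    ext A B
    rw [Matrix.transpose_apply, hM]
    unfold pureAt
    by_cases h : ∀ j, j ≠ i → B j = A j
    · have h' : ∀ j, j ≠ i → A j = B j := fun j hj => (h j hj).symm
      rw [if_pos h, if_pos h', Matrix.transpose_apply]
    · have h' : ¬ ∀ j, j ≠ i → A j = B j := fun hc => h (fun j hj => (hc j hj).symm)
      rw [if_neg h, if_neg h']
  have h7 : M.map (fun z => z ^ 2) = pureAt 3 t i (x.map (fun z => z ^ 2)) := by
    ext A B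
    rw [Matrix.map_apply, hM]
    unfold pureAt
    by_cases h : ∀ j, j ≠ i → A j = B j
    · rw [if_pos h, if_pos h, Matrix.map_apply]
    · rw [if_neg h, if_neg h]; simp
  rw [h6, h7] at h5
  rw [pureAt_eq, pureAt_eq, ← Cfsg.Agent.Lib.Helper04.Asch.pureAt_mul,
    ← Cfsg.Agent.Lib.Helper04.Asch.pureAt_one (m := 3) (t := t) i,
    ← Cfsg.Agent.Lib.Helper04.Asch.pureAt_smul] at h5
  exact Cfsg.Agent.Lib.Helper04.Asch.pureAt_injective i h5

variable [Fintype F]

theorem cube_cases (hF : Fintype.card F = 4) (z : F) : z ^ 3 = 0 ∨ z ^ 3 = 1 := by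
  by_cases hz : z = 0
  · left; rw [hz]; simp
  · right
    have := FiniteField.pow_card_sub_one_eq_one z hz
    rw [hF] at this
    exact this

theorem isIsoMat_of_transpose_mul (hF : Fintype.card F = 4) (x : Matrix (Fin 3) (Fin 3) F)
    (h : xᵀ * x.map (fun z => z ^ 2) = (1 : Matrix (Fin 3) (Fin 3) F)) :
    Cfsg.Agent.Lib.Helper08.IsIsoMat 2 x := by
  intro u v
  unfold Cfsg.Agent.Lib.Helper08.hform
  have h1 : ∀ k, (x *ᵥ v) k ^ 2 = (x.map (fun z => z ^ 2) *ᵥ (fun b => v b ^ 2)) k := by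
    intro k
    rw [Matrix.mulVec, dotProduct, Cfsg.Agent.Lib.Helper11.HermF4.sq_sum hF, Matrix.mulVec, dotProduct]
    apply Finset.sum_congr rfl
    intro b _
    rw [mul_pow, Matrix.map_apply]
  simp only [h1]
  have h2 : ∑ k, (x *ᵥ u) k * (x.map (fun z => z ^ 2) *ᵥ (fun b => v b ^ 2)) k =
      (x *ᵥ u) ⬝ᵥ (x.map (fun z => z ^ 2) *ᵥ (fun b => v b ^ 2)) := rfl
  rw [h2, ← Matrix.vecMul_transpose, ← Matrix.dotProduct_mulVec, Matrix.mulVec_mulVec, h,
    Matrix.one_mulVec]
  rfl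

/-- `GU_3(2)` is solvable. -/
theorem isSolvable_GU_three (hF : Fintype.card F = 2 ^ 2) : Group.IsSolvable (GU 3 F 2) := by
  have hcard : Nat.card (GU 3 F 2) = 2 ^ 3 * 3 ^ 4 := by
    rw [Cfsg.Agent.Lib.Helper49.card_GU_eq hF 3]
    decide
  have : Finite (GU 3 F 2) := Nat.finite_of_card_ne_zero (by rw [hcard]; norm_num)
  exact Cfsg.Agent.Lib.Helper04.burnside_paqb 2 3 3 4 Nat.prime_two Nat.prime_three hcard

/-- every element of `Q i` is the image under `facHom` of an element of `GU_3(2)`. -/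
theorem le_map_GU (hF : Fintype.card F = 2 ^ 2) {t : ℕ} (e : Fin n ≃ (Fin t → Fin 3))
    (P : GL (Fin n) F) (i : Fin t) (Q : Subgroup (GL (Fin n) F))
    (hQΔ : Q ≤ similarityGroup (hermForm n F 2))
    (hQ : ∀ g ∈ Q, ∃ x : Matrix (Fin 3) (Fin 3) F, ((g : GL (Fin n) F) : Mat) = fac 3 t e P i x)
    (hT : IsTensorPowerFormStructure (fun x : F => x ^ 2) (hermForm n F 2) (hermForm 3 F 2) e P) :
    Q ≤ (GU 3 F 2).map (facHom 3 t e P i) := by
  have hF4 : Fintype.card F = 4 := by rw [hF]; norm_num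
  intro g hg
  obtain ⟨x, hx⟩ := hQ g hg
  obtain ⟨c, hc⟩ := hQΔ hg
  rw [hx] at hc
  have h1 := transpose_mul_map_eq e P i x (c : F) hT hc
  -- c = 1
  have hc1 : (c : F) = 1 := by
    have h2 := congrFun (congrFun h1 0) 0
    rw [Matrix.mul_apply, Matrix.smul_apply, Matrix.one_apply, if_pos rfl, smul_eq_mul, mul_one,
      Fin.sum_univ_three] at h2
    simp only [Matrix.transpose_apply, Matrix.map_apply] at h2
    have h3 : ∀ z : F, z * z ^ 2 = z ^ 3 := fun z => by ring
    rw [h3, h3, h3] at h2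
    have two0 : (1 : F) + 1 = 0 := by
      have := Cfsg.Agent.Lib.Helper11.HermF4.sq_add hF4 (1 : F) 1
      linear_combination this
    have hcne : (c : F) ≠ 0 := c.ne_zero
    rcases cube_cases hF4 (x 0 0) with a | a <;> rcases cube_cases hF4 (x 1 0) with b | b <;>
      rcases cube_cases hF4 (x 2 0) with d | d <;> rw [a, b, d] at h2
    · exact absurd (by rw [← h2]; simp) hcne
    · rw [← h2]; simp
    · rw [← h2]; simp
    · exact absurd (by rw [← h2]; simp [two0]) hcne
    · rw [← h2]; simp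
    · exact absurd (by rw [← h2]; simp [two0]) hcne
    · exact absurd (by rw [← h2]; simp [two0]) hcne
    · rw [← h2]; simp [two0]
  rw [hc1, one_smul] at h1
  have hiso := isIsoMat_of_transpose_mul hF4 x h1
  have hunit : IsUnit x := hiso.isUnit hF
  refine ⟨hunit.unit, ?_, ?_⟩
  · show hunit.unit ∈ GU 3 F 2
    rw [Cfsg.Agent.Lib.Helper08.GU_eq_GUi, Cfsg.Agent.Lib.Helper08.mem_GUi_iff]
    exact hiso
  · apply Units.ext
    rw [facHom_coe, hx]
    rfl

omit [Fintype F] in
/-- the scalars are central. -/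
theorem scalars_le_center : scalars (Fin n) F ≤ Subgroup.center (GL (Fin n) F) := by
  intro z hz
  rw [mem_scalars_iff] at hz
  obtain ⟨c, hc⟩ := hz
  rw [Subgroup.mem_center_iff]
  intro g
  apply Units.ext
  rw [Units.val_mul, Units.val_mul, hc, Matrix.mul_smul, Matrix.smul_mul, Matrix.mul_one,
    Matrix.one_mul]

/-- K-S5663-E7. -/
theorem false_of_tensorPower_three (hF : Fintype.card F = 2 ^ 2) (N : Subgroup (GL (Fin n) F))
    (t : ℕ) (e : Fin n ≃ (Fin t → Fin 3)) (P : GL (Fin n) F) (Q : Fin t → Subgroup (GL (Fin n) F))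
    (hNZ : ¬ N ≤ scalars (Fin n) F) (hperf : ⁅N, N⁆ ⊔ scalars (Fin n) F = N)
    (hNQ : N ≤ (⨆ i, Q i) ⊔ scalars (Fin n) F)
    (hQΔ : ∀ i, Q i ≤ similarityGroup (hermForm n F 2))
    (hQ : ∀ i, ∀ g ∈ Q i, ∃ x : Matrix (Fin 3) (Fin 3) F,
      ((g : GL (Fin n) F) : Mat) = fac 3 t e P i x)
    (hT : IsTensorPowerFormStructure (fun x : F => x ^ 2) (hermForm n F 2) (hermForm 3 F 2) e P) :
    False := by
  -- the family Option (Fin t)
  let H : Option (Fin t) → Subgroup (GL (Fin n) F) := fun o =>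
    match o with
    | none => scalars (Fin n) F
    | some i => Q i
  have hZc := scalars_le_center (F := F) (n := n)
  have hcomm : Pairwise fun i j => ∀ x y : GL (Fin n) F, x ∈ H i → y ∈ H j → Commute x y := by
    intro a b hab x y hx hy
    match a, b with
    | none, _ => exact (Subgroup.mem_center_iff.1 (hZc hx) y).symm
    | some i, none => exact Subgroup.mem_center_iff.1 (hZc hy) x
    | some i, some j =>
      have hij : i ≠ j := fun h => hab (by rw [h])
      obtain ⟨x', hx'⟩ := hQ i x hx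
      obtain ⟨y', hy'⟩ := hQ j y hy
      apply Units.ext
      rw [Units.val_mul, Units.val_mul, hx', hy']
      exact fac_comm 3 t e P i j hij x' y'
  have hGU := isSolvable_GU_three hF
  have hsol : ∀ o, Group.IsSolvable (H o) := by
    intro o
    match o with
    | none =>
      exact Group.isSolvable_of_comm (fun a b => by
        apply Subtype.ext
        rw [Subgroup.coe_mul, Subgroup.coe_mul]
        exact Subgroup.mem_center_iff.1 (hZc b.2) a)
    | some i =>
      exact Cfsg.Agent.Lib.Helper73.SolvProd.isSolvable_of_le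
        (le_map_GU hF e P i (Q i) (hQΔ i) (hQ i) hT)
        (Cfsg.Agent.Lib.Helper73.SolvProd.isSolvable_map _ _ hGU)
  have hD := Cfsg.Agent.Lib.Helper73.SolvProd.isSolvable_iSup_of_commute H hcomm hsol
  have hsup : (⨆ o, H o) = scalars (Fin n) F ⊔ ⨆ i, Q i := by
    rw [iSup_option]
  have hND : N ≤ ⨆ o, H o := by
    rw [hsup, sup_comm]; exact hNQ
  exact hNZ (Cfsg.Agent.Lib.Helper73.SolvProd.le_of_perfect_mod_central N (scalars (Fin n) F) _
    hZc hND hD hperf)

end Cfsg.Agent.Lib.Helper73.AschU
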