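import Mathlib
import Cfsg.Prelude.Def_GeometricClasses

/-!
# Shared definitions for the `q = 2` exceptional leaves of S5802 (maximal subgroups of `SU_6(q)`)

* `stdFrame F n` : the standard frame of coordinate lines of `F^n`.
* `IsRoot x` : `x ∈ F^6` has exactly two non-zero coordinates, or all six coordinates non-zero with product `1`
  (over the field with four elements these are the 378 root vectors of the Mitchell reflection group reduced mod 2).
* `rootStab F` : the subgroup of `GL_6(F)` of matrices `g` with `IsRoot (g x) ↔ IsRoot x`.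
-/

set_option autoImplicit false

namespace Cfsg.Agent.Lib.Helper73.SU6

open Cfsg Cfsg.Geo
open scoped Matrix MatrixGroups

/-- The standard frame of coordinate lines. -/
def stdFrame (F : Type*) [Field F] (n : ℕ) : Fin n → Submodule F (Fin n → F) :=
  fun i => Submodule.span F {Pi.single i 1}

/-- Root vectors of `F^6`: exactly two non-zero coordinates, or all coordinates non-zero with product one. -/
def IsRoot {F : Type*} [Field F] (x : Fin 6 → F) : Prop :=
  Set.ncard {i : Fin 6 | x i ≠ 0} = 2 ∨ ((∀ i, x i ≠ 0) ∧ ∏ i, x i = 1)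

/-- The matrices preserving the set of root vectors (in both directions). -/
def rootStab (F : Type*) [Field F] : Subgroup (GL (Fin 6) F) where
  carrier := {g | ∀ x : Fin 6 → F, IsRoot ((g : Matrix (Fin 6) (Fin 6) F) *ᵥ x) ↔ IsRoot x}
  mul_mem' {a b} ha hb := by
    intro x
    rw [Units.val_mul, ← Matrix.mulVec_mulVec, ha, hb]
  one_mem' := by
    intro x
    simp
  inv_mem' {a} ha := by
    intro x
    have h := ha (((a⁻¹ : GL (Fin 6) F) : Matrix (Fin 6) (Fin 6) F) *ᵥ x)
    rw [Matrix.mulVec_mulVec, ← Units.val_mul, mul_inv_cancel, Units.val_one, Matrix.one_mulVec] at h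
    exact h.symm

theorem mem_rootStab_iff {F : Type*} [Field F] (g : GL (Fin 6) F) :
    g ∈ rootStab F ↔ ∀ x : Fin 6 → F, IsRoot ((g : Matrix (Fin 6) (Fin 6) F) *ᵥ x) ↔ IsRoot x :=
  Iff.rfl

end Cfsg.Agent.Lib.Helper73.SU6
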