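import Mathlib
import Cfsg.Agent.Lib.Helper73.BHMBasic

set_option autoImplicit false
set_option linter.unusedSectionVars false

/-!
Bertram--Herzog--Mann: groups whose two largest class sizes are coprime. Core lemmas.
-/

namespace Cfsg.Agent.Lib.Helper73

/-- the hypothesis: `m` is the largest class size, every other class size is at most `n`,
and `m`, `n` are coprime -/
structure BHM (G : Type*) [Group G] (m n : ℕ) : Prop where
  hmn : n < m
  hn : 1 < n
  hcop : m.Coprime n
  htop : ∀ z : G, (Subgroup.centralizer ({z} : Set G)).index ≤ m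
  hsecond : ∀ z : G, (Subgroup.centralizer ({z} : Set G)).index < m →
    (Subgroup.centralizer ({z} : Set G)).index ≤ n

section core

variable {G : Type*} [Group G] [Finite G] {m n : ℕ}

local notation "Cz(" x ")" => Subgroup.centralizer ({x} : Set G)

lemma BHM.m_pos (h : BHM G m n) : 0 < m := by have := h.hmn; omega

/-- rigidity for elements of maximal class size -/
lemma BHM.rigidM (h : BHM G m n) {g u : G} (hg : (Cz(g)).index = m) (hle : Cz(u) ≤ Cz(g)) :
    Cz(u) = Cz(g) := by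
  have hd : (Cz(g)).index ∣ (Cz(u)).index := Subgroup.index_dvd_of_le hle
  rw [hg] at hd
  have hu : (Cz(u)).index = m :=
    le_antisymm (h.htop u) (Nat.le_of_dvd (Nat.pos_of_ne_zero Subgroup.index_ne_zero_of_finite) hd)
  exact eq_of_le_of_index_eq hle (by rw [hu, hg])

/-- rigidity for elements of second largest class size -/
lemma BHM.rigidS (h : BHM G m n) {g u : G} (hg : (Cz(g)).index = n) (hle : Cz(u) ≤ Cz(g)) :
    Cz(u) = Cz(g) := by
  have hd : (Cz(g)).index ∣ (Cz(u)).index := Subgroup.index_dvd_of_le hle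
  rw [hg] at hd
  have hpos : 0 < (Cz(u)).index := Nat.pos_of_ne_zero Subgroup.index_ne_zero_of_finite
  have hu : (Cz(u)).index = n := by
    by_cases hlt : (Cz(u)).index < m
    · exact le_antisymm (h.hsecond u hlt) (Nat.le_of_dvd hpos hd)
    · exfalso
      have hum : (Cz(u)).index = m := le_antisymm (h.htop u) (not_lt.1 hlt)
      rw [hum] at hd
      have := Nat.eq_one_of_dvd_coprimes h.hcop hd (dvd_refl n)
      have := h.hn
      omega
  exact eq_of_le_of_index_eq hle (by rw [hu, hg])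

/-- B6 -/
lemma BHM.Cz_le_of_coprime (h : BHM G m n) {g k : G}
    (hg : (Cz(g)).index = m ∨ (Cz(g)).index = n) (hgk : Commute g k)
    (hcop : (orderOf g).Coprime (orderOf k)) : Cz(g) ≤ Cz(k) := by
  have h1 : Cz(g * k) = Cz(g) ⊓ Cz(k) := Cz_mul_of_coprime hgk hcop
  have h2 : Cz(g * k) ≤ Cz(g) := by rw [h1]; exact inf_le_left
  have h3 : Cz(g * k) = Cz(g) := by
    rcases hg with hg | hg
    · exact h.rigidM hg h2
    · exact h.rigidS hg h2
  rw [← h3, h1]
  exact inf_le_right

/-- a predicate `P` whose "commutators" stabilize the classes of size `ℓ` -/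
structure Stable (P : G → Prop) (ℓ : ℕ) : Prop where
  conj : ∀ u k : G, P u → P (k * u * k⁻¹)
  cop : ∀ w u : G, (Cz(w)).index = ℓ → P u → (Cz(w)).index.Coprime (Cz(u)).index
  le : ∀ w u : G, (Cz(w)).index = ℓ → P u → (Cz(w * u)).index ≤ ℓ

lemma Stable.normal {P : G → Prop} {ℓ : ℕ} (hS : Stable P ℓ) : (commSub P).Normal :=
  commSub_normal P hS.conj

lemma Stable.isConj_mul {P : G → Prop} {ℓ : ℕ} (hS : Stable P ℓ) {a : G}
    (ha : (Cz(a)).index = ℓ) :
    ∀ k ∈ commSub P, ∀ w : G, IsConj a w → IsConj a (w * k) := by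
  apply isConj_mul_of_mem_commSub
  intro w hw u g hu
  have hw' : (Cz(w)).index = ℓ := by rw [index_Cz_of_isConj hw, ha]
  apply isConj_mul_commutator
  · exact hS.cop w u hw' hu
  · rw [hw']; exact hS.le w u hw' hu

lemma Stable.card_dvd {P : G → Prop} {ℓ : ℕ} (hS : Stable P ℓ) {a : G}
    (ha : (Cz(a)).index = ℓ) : Nat.card (commSub P) ∣ ℓ := by
  have := card_dvd_of_mul_stable (commSub P) {w : G | IsConj a w}
    (fun w hw k hk => hS.isConj_mul ha k hk w hw)
  have e : Nat.card ↥{w : G | IsConj a w} = ℓ := by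
    rw [← ha]; exact (index_Cz_eq_card_conj a).symm
  rw [e] at this
  exact this

lemma Stable.orderOf_dvd {P : G → Prop} {ℓ : ℕ} (hS : Stable P ℓ) {a : G}
    (ha : (Cz(a)).index = ℓ) {k : G} (hk : k ∈ commSub P) : orderOf k ∣ ℓ := by
  have d := orderOf_dvd_natCard (⟨k, hk⟩ : commSub P)
  rw [Subgroup.orderOf_mk] at d
  exact d.trans (hS.card_dvd ha)

/-- elements whose class size is coprime to `ℓ` centralize `commSub P` -/
lemma Stable.le_Cz {P : G → Prop} {ℓ : ℕ} (hS : Stable P ℓ) {a : G}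
    (ha : (Cz(a)).index = ℓ) {c : G} (hc : (Cz(c)).index.Coprime ℓ) : commSub P ≤ Cz(c) := by
  have := hS.normal
  apply normal_le_Cz_of_coprime
  exact Nat.Coprime.coprime_dvd_left (hS.card_dvd ha) hc.symm

/-- an element of class size `ℓ` and of order coprime to `ℓ` acts fixed point freely on
`commSub P` -/
lemma Stable.eq_one_of_commute {P : G → Prop} {ℓ : ℕ} (hS : Stable P ℓ) {t : G}
    (ht : (Cz(t)).index = ℓ) (hto : (orderOf t).Coprime ℓ) {k : G} (hk : k ∈ commSub P)
    (htk : Commute t k) : k = 1 := by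
  have h1 : IsConj t (t * k) := hS.isConj_mul ht k hk t (IsConj.refl t)
  have h2 : orderOf (t * k) = orderOf t := by
    obtain ⟨c, hc⟩ := isConj_iff.1 h1
    rw [← hc, Cfsg.Agent.S4127.orderOf_conj']
  have hko : orderOf k ∣ ℓ := hS.orderOf_dvd ht hk
  have hcop : (orderOf t).Coprime (orderOf k) := Nat.Coprime.coprime_dvd_right hko hto
  have h3 := htk.orderOf_mul_eq_mul_orderOf_of_coprime hcop
  rw [h2] at h3
  have hpos : 0 < orderOf t := orderOf_pos t
  have : orderOf k = 1 := by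
    have : orderOf t * 1 = orderOf t * orderOf k := by rw [mul_one]; exact h3
    exact (Nat.eq_of_mul_eq_mul_left hpos this).symm
  exact orderOf_eq_one_iff.1 this

/-- an element satisfying `P`, of class size and order coprime to `ℓ`, is central -/
lemma Stable.central {P : G → Prop} {ℓ : ℕ} (hS : Stable P ℓ) {a : G}
    (ha : (Cz(a)).index = ℓ) {u : G} (hP : P u)
    (hu : (Cz(u)).index.Coprime ℓ) (huo : (orderOf u).Coprime ℓ) : u ∈ Subgroup.center G := by
  rw [Subgroup.mem_center_iff]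
  intro g
  have hk : u * (g * u * g⁻¹)⁻¹ ∈ commSub P := mem_commSub hP g
  have hKu : commSub P ≤ Cz(u) := hS.le_Cz ha hu
  have hcomm : Commute (g * u * g⁻¹) (u * (g * u * g⁻¹)⁻¹) := by
    have e1 : (u * (g * u * g⁻¹)⁻¹) * u = u * (u * (g * u * g⁻¹)⁻¹) := mem_Cz.1 (hKu hk)
    have e2 : g * u * g⁻¹ = (u * (g * u * g⁻¹)⁻¹)⁻¹ * u := by group
    have c1 : Commute (u * (g * u * g⁻¹)⁻¹) u := e1
    have c2 : Commute ((u * (g * u * g⁻¹)⁻¹)⁻¹ * u) (u * (g * u * g⁻¹)⁻¹) :=
      ((Commute.refl _).inv_left).mul_left c1.symm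
    rw [← e2] at c2
    exact c2
  have ho : orderOf (g * u * g⁻¹) = orderOf u := Cfsg.Agent.S4127.orderOf_conj' g u
  have hko : orderOf (u * (g * u * g⁻¹)⁻¹) ∣ ℓ := hS.orderOf_dvd ha hk
  have hcop : (orderOf (g * u * g⁻¹)).Coprime (orderOf (u * (g * u * g⁻¹)⁻¹)) := by
    rw [ho]; exact Nat.Coprime.coprime_dvd_right hko huo
  have h3 := hcomm.orderOf_mul_eq_mul_orderOf_of_coprime hcop
  have e3 : (g * u * g⁻¹) * (u * (g * u * g⁻¹)⁻¹) = u := by
    rw [hcomm.eq]; group
  rw [e3, ho] at h3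
  have hpos : 0 < orderOf u := orderOf_pos u
  have h4 : orderOf (u * (g * u * g⁻¹)⁻¹) = 1 := by
    have : orderOf u * 1 = orderOf u * orderOf (u * (g * u * g⁻¹)⁻¹) := by rw [mul_one]; exact h3
    exact (Nat.eq_of_mul_eq_mul_left hpos this).symm
  have h5 : u * (g * u * g⁻¹)⁻¹ = 1 := orderOf_eq_one_iff.1 h4
  have h6 : u = g * u * g⁻¹ := mul_inv_eq_one.1 h5
  calc g * u = g * u * g⁻¹ * g := by group
    _ = u * g := by rw [← h6]

/-- the predicate for `K` -/
def PK (m : ℕ) (u : G) : Prop := (Cz(u)).index.Coprime m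

/-- the predicate for `J` -/
def PJ (m n : ℕ) (u : G) : Prop := (Cz(u)).index < m ∧ (Cz(u)).index.Coprime n

lemma BHM.stableK (h : BHM G m n) : Stable (PK (G := G) m) m where
  conj := by
    intro u k hu
    show (Cz(k * u * k⁻¹)).index.Coprime m
    rw [index_Cz_conj]; exact hu
  cop := by
    intro w u hw hu
    rw [hw]; exact (show (Cz(u)).index.Coprime m from hu).symm
  le := fun w u _ _ => h.htop _

lemma BHM.stableJ (h : BHM G m n) : Stable (PJ (G := G) m n) n where
  conj := by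
    intro u k hu
    show (Cz(k * u * k⁻¹)).index < m ∧ (Cz(k * u * k⁻¹)).index.Coprime n
    rw [index_Cz_conj]; exact hu
  cop := by
    intro w u hw hu
    rw [hw]; exact hu.2.symm
  le := by
    intro w u hw hu
    have hcop : (Cz(w)).index.Coprime (Cz(u)).index := by rw [hw]; exact hu.2.symm
    have hle : Cz(w) ⊓ Cz(u) ≤ Cz(w * u) := by
      intro g hg
      obtain ⟨h1, h2⟩ := Subgroup.mem_inf.1 hg
      rw [mem_Cz] at h1 h2 ⊢
      rw [← mul_assoc, h1, mul_assoc, h2, mul_assoc]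
    have hd : (Cz(w * u)).index ∣ n * (Cz(u)).index := by
      have := Subgroup.index_dvd_of_le hle
      rwa [index_inf_of_coprime _ _ hcop, hw] at this
    apply h.hsecond
    apply lt_of_le_of_ne (h.htop _)
    intro e
    rw [e] at hd
    have hd2 : m ∣ (Cz(u)).index := h.hcop.dvd_of_dvd_mul_left hd
    have := Nat.le_of_dvd (Nat.pos_of_ne_zero Subgroup.index_ne_zero_of_finite) hd2
    have := hu.1
    omega

lemma BHM.index_eq_one_of_dvd (h : BHM G m n) {v : G} (h1 : (Cz(v)).index ∣ m)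
    (h2 : (Cz(v)).index ∣ n) : v ∈ Subgroup.center G := by
  rw [← index_Cz_eq_one_iff]
  exact Nat.eq_one_of_dvd_coprimes h.hcop h1 h2

/-- the `n'`-part of an element of class size `n` has the same centralizer -/
lemma BHM.exists_S_coprime (h : BHM G m n) {x y : G} (hx : (Cz(x)).index = n)
    (hy : (Cz(y)).index = m) :
    ∃ x0 : G, (Cz(x0)).index = n ∧ (orderOf x0).Coprime n ∧ Cz(x0) = Cz(x) := by
  have hn0 : n ≠ 0 := by have := h.hn; omega
  obtain ⟨u, v, huv, hu, hv, huo, hvo⟩ := decN x n hn0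
  have hvi : (Cz(v)).index ∣ n := hx ▸ Subgroup.index_dvd_of_le (Cz_le_Cz_of_mem_zpowers hv)
  have hvz : v ∈ Subgroup.center G := by
    apply (h.stableK).central hy (u := v)
    · exact Nat.Coprime.coprime_dvd_left hvi h.hcop.symm
    · exact Nat.Coprime.coprime_dvd_left hvi h.hcop.symm
    · exact hvo m h.hcop
  have e : Cz(x) = Cz(u) := by rw [← huv, Cz_mul_central u hvz]
  exact ⟨u, by rw [← e, hx], huo, e.symm⟩

/-- (**): the subgroup `J` is trivial -/
lemma BHM.J_eq_bot (h : BHM G m n) {x y : G} (hx : (Cz(x)).index = n)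
    (hy : (Cz(y)).index = m) : commSub (PJ (G := G) m n) = ⊥ := by
  obtain ⟨x0, hx0, hx0o, _⟩ := h.exists_S_coprime hx hy
  have hcop : (Cz(x0)).index.Coprime (Cz(y)).index := by rw [hx0, hy]; exact h.hcop.symm
  have hx0y : (Cz(x0 * y)).index = m := by
    have := index_le_index_mul hcop
    rw [hy] at this
    exact le_antisymm (h.htop _) this
  have h1 : commSub (PJ (G := G) m n) ≤ Cz(y) := (h.stableJ).le_Cz hx0 (by rw [hy]; exact h.hcop)
  have h2 : commSub (PJ (G := G) m n) ≤ Cz(x0 * y) :=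
    (h.stableJ).le_Cz hx0 (by rw [hx0y]; exact h.hcop)
  rw [eq_bot_iff]
  intro j hj
  rw [Subgroup.mem_bot]
  have c1 : j * y = y * j := mem_Cz.1 (h1 hj)
  have c2 : j * (x0 * y) = (x0 * y) * j := mem_Cz.1 (h2 hj)
  have c3 : Commute x0 j := by
    have : j * x0 * y = x0 * j * y := by
      calc j * x0 * y = j * (x0 * y) := by group
        _ = x0 * y * j := c2
        _ = x0 * (y * j) := by group
        _ = x0 * (j * y) := by rw [c1]
        _ = x0 * j * y := by group
    exact (mul_right_cancel this).symm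
  exact (h.stableJ).eq_one_of_commute hx0 hx0o hj c3

/-- (**): an element whose class size is coprime to `n` has class size `m` or is central -/
lemma BHM.index_eq_or_central (h : BHM G m n) {x y : G} (hx : (Cz(x)).index = n)
    (hy : (Cz(y)).index = m) {u : G} (hu : (Cz(u)).index.Coprime n) :
    (Cz(u)).index = m ∨ u ∈ Subgroup.center G := by
  by_cases hm : (Cz(u)).index = m
  · exact Or.inl hm
  · right
    have hlt : (Cz(u)).index < m := lt_of_le_of_ne (h.htop u) hm
    rw [Subgroup.mem_center_iff]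
    intro g
    have hk : u * (g * u * g⁻¹)⁻¹ ∈ commSub (PJ (G := G) m n) :=
      mem_commSub (P := PJ (G := G) m n) ⟨hlt, hu⟩ g
    rw [h.J_eq_bot hx hy, Subgroup.mem_bot] at hk
    have h6 : u = g * u * g⁻¹ := mul_inv_eq_one.1 hk
    calc g * u = g * u * g⁻¹ * g := by group
      _ = u * g := by rw [← h6]

/-- Claim A: elements of class size `m` and `n` never commute -/
lemma BHM.not_commute (h : BHM G m n) {x y : G} (hx : (Cz(x)).index = n)
    (hy : (Cz(y)).index = m) {g c : G} (hg : (Cz(g)).index = m) (hc : (Cz(c)).index = n) :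
    ¬ Commute g c := by
  intro hgc
  have hn0 : n ≠ 0 := by have := h.hn; omega
  -- 4a
  obtain ⟨c0, hc0, hc0o, hc0C⟩ := h.exists_S_coprime hc hy
  have hgc0 : Commute g c0 := by
    have : g ∈ Cz(c0) := by rw [hc0C]; exact mem_Cz.2 hgc.eq
    exact mem_Cz.1 this
  -- 4b
  obtain ⟨u, v, huv, hu, hv, huo, hvo⟩ := decN g n hn0
  have hvc0 : Commute c0 v := by
    have : c0 ∈ Cz(g) := mem_Cz.2 hgc0.symm.eq
    exact mem_Cz.1 (Cz_le_Cz_of_mem_zpowers hv this)
  have hv1 : Cz(c0) ≤ Cz(v) :=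
    h.Cz_le_of_coprime (Or.inr hc0) hvc0 (hvo _ hc0o).symm
  have hvz : v ∈ Subgroup.center G := by
    apply h.index_eq_one_of_dvd
    · exact hg ▸ Subgroup.index_dvd_of_le (Cz_le_Cz_of_mem_zpowers hv)
    · exact hc0 ▸ Subgroup.index_dvd_of_le hv1
  have hCu : Cz(g) = Cz(u) := by rw [← huv, Cz_mul_central u hvz]
  have hum : (Cz(u)).index = m := by rw [← hCu, hg]
  have huc0 : Commute u c0 := by
    have : c0 ∈ Cz(u) := by rw [← hCu]; exact mem_Cz.2 hgc0.symm.eq
    exact (mem_Cz.1 this).symm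
  -- 4c
  have hp : (n.minFac).Prime := Nat.minFac_prime (by have := h.hn; omega)
  have hpn : n.minFac ∣ n := Nat.minFac_dvd n
  have hpf : Fact (n.minFac).Prime := ⟨hp⟩
  have hpm : ¬ n.minFac ∣ m := by
    intro hd
    have := Nat.eq_one_of_dvd_coprimes h.hcop hd hpn
    exact hp.one_lt.ne' this
  obtain ⟨P, hP⟩ := Cfsg.Agent.S4127.exists_sylow_le (p := n.minFac) (Cz(u)) (by rw [hum]; exact hpm)
  have hPt : ∀ t ∈ (P : Subgroup G), Cz(u) ≤ Cz(t) := by
    intro t ht
    apply h.Cz_le_of_coprime (Or.inl hum) (mem_Cz.1 (hP ht)).symm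
    obtain ⟨k, hk⟩ := P.2 ⟨t, ht⟩
    have hd : orderOf t ∣ n.minFac ^ k :=
      orderOf_dvd_of_pow_eq_one (by simpa using congrArg Subtype.val hk)
    have : (orderOf u).Coprime (n.minFac ^ k) :=
      (Nat.Coprime.coprime_dvd_right hpn huo).pow_right k
    exact Nat.Coprime.coprime_dvd_right hd this
  -- 4e
  obtain ⟨t, htP, htz⟩ : ∃ t ∈ (P : Subgroup G), t ∉ Subgroup.center G := by
    by_contra hall
    push Not at hall
    have hle : (P : Subgroup G) ≤ Cz(c0) := fun t ht => center_le_Cz c0 (hall t ht)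
    have hd := Subgroup.index_dvd_of_le hle
    rw [hc0] at hd
    exact P.not_dvd_index (hpn.trans hd)
  have htm : (Cz(t)).index = m := by
    have hd : (Cz(t)).index ∣ m := hum ▸ Subgroup.index_dvd_of_le (hPt t htP)
    rcases h.index_eq_or_central hx hy (Nat.Coprime.coprime_dvd_left hd h.hcop) with h1 | h1
    · exact h1
    · exact absurd h1 htz
  have hto : (orderOf t).Coprime m := by
    obtain ⟨k, hk⟩ := P.2 ⟨t, htP⟩
    have hd : orderOf t ∣ n.minFac ^ k :=
      orderOf_dvd_of_pow_eq_one (by simpa using congrArg Subtype.val hk)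
    have : (n.minFac ^ k).Coprime m :=
      (((Nat.Prime.coprime_iff_not_dvd hp).2 hpm)).pow_left k
    exact Nat.Coprime.coprime_dvd_left hd this
  -- 4d, 4f
  have hcz : c0 ∈ Subgroup.center G := by
    rw [Subgroup.mem_center_iff]
    intro k
    have hcop : (Cz(u)).index.Coprime (Cz(c0)).index := by rw [hum, hc0]; exact h.hcop
    obtain ⟨k', hk', e⟩ := exists_mem_Cz_conj_eq hcop k
    have hc0u : c0 ∈ Cz(u) := mem_Cz.2 huc0.symm.eq
    have hmem : k * c0 * k⁻¹ ∈ Cz(u) := by
      rw [← e]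
      exact Subgroup.mul_mem _ (Subgroup.mul_mem _ hk' hc0u) (Subgroup.inv_mem _ hk')
    have hkk : c0 * (k * c0 * k⁻¹)⁻¹ ∈ commSub (PK (G := G) m) :=
      mem_commSub (P := PK (G := G) m) (by show (Cz(c0)).index.Coprime m; rw [hc0]; exact h.hcop.symm) k
    have hkC : c0 * (k * c0 * k⁻¹)⁻¹ ∈ Cz(t) :=
      hPt t htP (Subgroup.mul_mem _ hc0u (Subgroup.inv_mem _ hmem))
    have h1 := (h.stableK).eq_one_of_commute htm hto hkk (mem_Cz.1 hkC).symm
    have h6 : c0 = k * c0 * k⁻¹ := mul_inv_eq_one.1 h1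
    calc k * c0 = k * c0 * k⁻¹ * k := by group
      _ = c0 * k := by rw [← h6]
  rw [← index_Cz_eq_one_iff, hc0] at hcz
  have := h.hn
  omega

end core

end Cfsg.Agent.Lib.Helper73
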