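import Mathlib
import Cfsg.Agent.S4106
import Cfsg.Agent.Lib.Helper73.BHMCore

set_option autoImplicit false
set_option linter.unusedSectionVars false

/-!
Bertram--Herzog--Mann: structural consequences (intersection of centralizers, orders,
commutativity of the elements whose class size is coprime to `m`).
-/

namespace Cfsg.Agent.Lib.Helper73

section struct

variable {G : Type*} [Group G] [Finite G] {m n : ℕ}

local notation "Cz(" x ")" => Subgroup.centralizer ({x} : Set G)

/-- a prime-power element of class size `m` has order not coprime to `n` -/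
lemma BHM.dvd_of_prime_pow (h : BHM G m n) {x y : G} (hx : (Cz(x)).index = n)
    (hy : (Cz(y)).index = m) {q : ℕ} (hq : q.Prime) {u : G} (hu : ∃ a : ℕ, orderOf u = q ^ a)
    (hum : (Cz(u)).index = m) : q ∣ n := by
  by_contra hqn
  have : Fact q.Prime := ⟨hq⟩
  obtain ⟨Q, hQ⟩ := Cfsg.Agent.S4127.exists_sylow_le (p := q) (Cz(x)) (by rw [hx]; exact hqn)
  obtain ⟨g, hg⟩ := Cfsg.Agent.S4106.conj_into_sylow q Q u hu
  have h1 : (Cz(g * u * g⁻¹)).index = m := by rw [index_Cz_conj, hum]
  have h2 : Commute (g * u * g⁻¹) x := mem_Cz.1 (hQ hg)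
  exact h.not_commute hx hy h1 hx h2

lemma BHM.central_of_coprime_aux (h : BHM G m n) {x y : G} (hx : (Cz(x)).index = n)
    (hy : (Cz(y)).index = m) :
    ∀ (N : ℕ) (w : G), orderOf w = N → (orderOf w).Coprime n → (Cz(w)).index ∣ m →
      w ∈ Subgroup.center G := by
  intro N
  induction N using Nat.strong_induction_on with
  | _ N ih =>
    intro w hN hwn hwm
    rcases h.index_eq_or_central hx hy (Nat.Coprime.coprime_dvd_left hwm h.hcop) with hM | hZ
    swap
    · exact hZ
    by_cases h1 : orderOf w = 1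
    · rw [orderOf_eq_one_iff.1 h1]; exact Subgroup.one_mem _
    have hq : (orderOf w).minFac.Prime := Nat.minFac_prime h1
    have hqw : (orderOf w).minFac ∣ orderOf w := Nat.minFac_dvd _
    obtain ⟨u, v, huv, hu, hv, hua, hvq⟩ := dec' w (orderOf w).minFac hq
    have hui : (Cz(u)).index ∣ m :=
      (Subgroup.index_dvd_of_le (Cz_le_Cz_of_mem_zpowers hu)).trans hwm
    rcases h.index_eq_or_central hx hy (Nat.Coprime.coprime_dvd_left hui h.hcop) with huM | huZ
    · exfalso
      have hqn : (orderOf w).minFac ∣ n := h.dvd_of_prime_pow hx hy hq hua huM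
      have := Nat.eq_one_of_dvd_coprimes hwn hqw hqn
      exact hq.one_lt.ne' this
    · have hvu : v * u = u * v := Subgroup.mem_center_iff.1 huZ v
      have e : Cz(w) = Cz(v) := by rw [← huv, ← hvu, Cz_mul_central v huZ]
      have hdv : orderOf v ∣ orderOf w := orderOf_dvd_of_mem_zpowers hv
      have hne : orderOf v ≠ orderOf w := by
        intro e2
        rw [e2] at hvq
        have := Nat.eq_one_of_dvd_coprimes hvq hqw (dvd_refl _)
        exact hq.one_lt.ne' this
      have hlt : orderOf v < N := by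
        rw [← hN]
        exact lt_of_le_of_ne (Nat.le_of_dvd (orderOf_pos w) hdv) hne
      have hvz : v ∈ Subgroup.center G :=
        ih (orderOf v) hlt v rfl (Nat.Coprime.coprime_dvd_left hdv hwn) (by rw [← e]; exact hwm)
      rw [← huv]
      exact Subgroup.mul_mem _ huZ hvz

/-- Step 1: an element of order coprime to `n` whose class size divides `m` is central -/
lemma BHM.central_of_coprime (h : BHM G m n) {x y : G} (hx : (Cz(x)).index = n)
    (hy : (Cz(y)).index = m) {w : G} (hwn : (orderOf w).Coprime n) (hwm : (Cz(w)).index ∣ m) :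
    w ∈ Subgroup.center G :=
  h.central_of_coprime_aux hx hy _ w rfl hwn hwm

/-- an element of class size `m` has the same centralizer as its `n`-part -/
lemma BHM.exists_M_npart (h : BHM G m n) {x y : G} (hx : (Cz(x)).index = n)
    (hy : (Cz(y)).index = m) {b : G} (hb : (Cz(b)).index = m) :
    ∃ b2 : G, (Cz(b2)).index = m ∧ Cz(b2) = Cz(b) ∧
      ∀ M : ℕ, M.Coprime n → (orderOf b2).Coprime M := by
  have hn0 : n ≠ 0 := by have := h.hn; omega
  obtain ⟨u, v, huv, hu, hv, huo, hvo⟩ := decN b n hn0
  have hui : (Cz(u)).index ∣ m := hb ▸ Subgroup.index_dvd_of_le (Cz_le_Cz_of_mem_zpowers hu)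
  have huz : u ∈ Subgroup.center G := h.central_of_coprime hx hy huo hui
  have hvu : v * u = u * v := Subgroup.mem_center_iff.1 huz v
  have e : Cz(b) = Cz(v) := by rw [← huv, ← hvu, Cz_mul_central v huz]
  exact ⟨v, by rw [← e, hb], e.symm, hvo⟩

/-- (2c): elements of order coprime to `n` in the centralizer of an element of class size `m`
are central -/
lemma BHM.central_of_mem_Cz_M (h : BHM G m n) {x y : G} (hx : (Cz(x)).index = n)
    (hy : (Cz(y)).index = m) {b : G} (hb : (Cz(b)).index = m) {u : G} (hu : u ∈ Cz(b))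
    (huo : (orderOf u).Coprime n) : u ∈ Subgroup.center G := by
  obtain ⟨b2, hb2, e, hb2o⟩ := h.exists_M_npart hx hy hb
  have hc : Commute b2 u := by
    rw [← e] at hu
    exact (mem_Cz.1 hu).symm
  have hle : Cz(b2) ≤ Cz(u) := h.Cz_le_of_coprime (Or.inl hb2) hc (hb2o _ huo)
  have hui : (Cz(u)).index ∣ m := hb2 ▸ Subgroup.index_dvd_of_le hle
  exact h.central_of_coprime hx hy huo hui

/-- (2b): `n`-elements in the centralizer of an element of class size `n` are central -/
lemma BHM.central_of_mem_Cz_S (h : BHM G m n) {y : G}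
    (hy : (Cz(y)).index = m) {a : G} (ha : (Cz(a)).index = n) {v : G} (hv : v ∈ Cz(a))
    (hvo : ∀ M : ℕ, M.Coprime n → (orderOf v).Coprime M) : v ∈ Subgroup.center G := by
  obtain ⟨a0, ha0, ha0o, e⟩ := h.exists_S_coprime ha hy
  have hc : Commute a0 v := by
    rw [← e] at hv
    exact (mem_Cz.1 hv).symm
  have hle : Cz(a0) ≤ Cz(v) := h.Cz_le_of_coprime (Or.inr ha0) hc (hvo _ ha0o).symm
  have hvi : (Cz(v)).index ∣ n := ha0 ▸ Subgroup.index_dvd_of_le hle
  have hvm : (Cz(v)).index.Coprime m := Nat.Coprime.coprime_dvd_left hvi h.hcop.symm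
  exact (h.stableK).central hy (u := v) hvm hvm (hvo m h.hcop)

/-- Step 2: centralizers of elements of class sizes `n` and `m` meet in the center -/
lemma BHM.inf_le_center (h : BHM G m n) {x y : G} (hx : (Cz(x)).index = n)
    (hy : (Cz(y)).index = m) {a b : G} (ha : (Cz(a)).index = n) (hb : (Cz(b)).index = m) :
    Cz(a) ⊓ Cz(b) ≤ Subgroup.center G := by
  intro d hd
  obtain ⟨hda, hdb⟩ := Subgroup.mem_inf.1 hd
  have hn0 : n ≠ 0 := by have := h.hn; omega
  obtain ⟨u, v, huv, hu, hv, huo, hvo⟩ := decN d n hn0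
  have hvz : v ∈ Subgroup.center G :=
    h.central_of_mem_Cz_S hy ha (zpowers_le_Cz hda hv) hvo
  have huz : u ∈ Subgroup.center G :=
    h.central_of_mem_Cz_M hx hy hb (zpowers_le_Cz hdb hu) huo
  rw [← huv]
  exact Subgroup.mul_mem _ huz hvz

lemma BHM.inf_eq_center (h : BHM G m n) {x y : G} (hx : (Cz(x)).index = n)
    (hy : (Cz(y)).index = m) {a b : G} (ha : (Cz(a)).index = n) (hb : (Cz(b)).index = m) :
    Cz(a) ⊓ Cz(b) = Subgroup.center G :=
  le_antisymm (h.inf_le_center hx hy ha hb) (le_inf (center_le_Cz a) (center_le_Cz b))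

/-- Step 3: the index of the center -/
lemma BHM.index_center (h : BHM G m n) {x y : G} (hx : (Cz(x)).index = n)
    (hy : (Cz(y)).index = m) : (Subgroup.center G).index = n * m := by
  rw [← h.inf_eq_center hx hy hx hy, index_inf_of_coprime _ _ (by rw [hx, hy]; exact h.hcop.symm),
    hx, hy]

lemma BHM.card_eq (h : BHM G m n) {x y : G} (hx : (Cz(x)).index = n)
    (hy : (Cz(y)).index = m) : Nat.card G = n * m * Nat.card (Subgroup.center G) := by
  rw [← h.index_center hx hy, Subgroup.index_mul_card]

lemma BHM.card_Cz_S (h : BHM G m n) {x y : G} (hx : (Cz(x)).index = n)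
    (hy : (Cz(y)).index = m) {a : G} (ha : (Cz(a)).index = n) :
    Nat.card (Cz(a)) = m * Nat.card (Subgroup.center G) := by
  have h1 := Subgroup.index_mul_card (Cz(a))
  rw [ha, h.card_eq hx hy, mul_assoc] at h1
  have hn : 0 < n := by have := h.hn; omega
  exact Nat.eq_of_mul_eq_mul_left hn h1

lemma BHM.card_Cz_M (h : BHM G m n) {x y : G} (hx : (Cz(x)).index = n)
    (hy : (Cz(y)).index = m) {b : G} (hb : (Cz(b)).index = m) :
    Nat.card (Cz(b)) = n * Nat.card (Subgroup.center G) := by
  have h1 := Subgroup.index_mul_card (Cz(b))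
  rw [hb, h.card_eq hx hy, mul_comm n m, mul_assoc] at h1
  exact Nat.eq_of_mul_eq_mul_left h.m_pos h1

/-- Step 4: the elements whose class size is coprime to `m` commute pairwise -/
lemma BHM.commute_of_PK (h : BHM G m n) {y : G} (hy : (Cz(y)).index = m) {c c' : G}
    (hc : (Cz(c)).index.Coprime m) (hc' : (Cz(c')).index.Coprime m) : Commute c' c := by
  have hS := h.stableK
  have hKn : (commSub (PK (G := G) m)).Normal := hS.normal
  -- the centralizer of `K`
  have hNn : (Subgroup.centralizer (commSub (PK (G := G) m) : Set G)).Normal :=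
    Subgroup.normal_centralizer
  have hc'N : c' ∈ Subgroup.centralizer (commSub (PK (G := G) m) : Set G) := by
    rw [Subgroup.mem_centralizer_iff]
    intro k hk
    exact (mem_Cz.1 (hS.le_Cz hy hc' hk))
  suffices hle : Subgroup.centralizer (commSub (PK (G := G) m) : Set G) ≤ Cz(c) from
    mem_Cz.1 (hle hc'N)
  have hcc : ∀ g : G, g * c * g⁻¹ * c⁻¹ ∈ commSub (PK (G := G) m) := by
    intro g
    have := Subgroup.inv_mem _ (mem_commSub (P := PK (G := G) m) hc g)
    have e : (c * (g * c * g⁻¹)⁻¹)⁻¹ = g * c * g⁻¹ * c⁻¹ := by group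
    rwa [e] at this
  have hdvd1 : (Cz(c)).relIndex (Subgroup.centralizer (commSub (PK (G := G) m) : Set G)) ∣
      (Cz(c)).index := relIndex_dvd_index_of_normal_right _ _
  have hdvd2 : (Cz(c)).relIndex (Subgroup.centralizer (commSub (PK (G := G) m) : Set G)) ∣
      Nat.card (commSub (PK (G := G) m)) := by
    have hcard : Nat.card ↥{w : G | w * c⁻¹ ∈ commSub (PK (G := G) m)} =
        Nat.card (commSub (PK (G := G) m)) := by
      apply Nat.card_congr
      exact
        { toFun := fun w => ⟨(w : G) * c⁻¹, w.2⟩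
          invFun := fun k => ⟨(k : G) * c, by
            show (k : G) * c * c⁻¹ ∈ commSub (PK (G := G) m)
            rw [mul_inv_cancel_right]; exact k.2⟩
          left_inv := fun w => Subtype.ext (by simp)
          right_inv := fun k => Subtype.ext (by simp) }
    rw [← hcard]
    apply relIndex_dvd_card_of_conj
    · intro g _ w hw
      show g * w * g⁻¹ * c⁻¹ ∈ commSub (PK (G := G) m)
      have e : g * w * g⁻¹ * c⁻¹ = (g * (w * c⁻¹) * g⁻¹) * (g * c * g⁻¹ * c⁻¹) := by group
      rw [e]
      exact Subgroup.mul_mem _ (hKn.conj_mem _ hw g) (hcc g)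
    · intro g hg w hw
      have hgk : g * (w * c⁻¹) = (w * c⁻¹) * g :=
        ((Subgroup.mem_centralizer_iff.1 hg) (w * c⁻¹) hw).symm
      rw [mem_Cz]
      constructor
      · intro e
        have e1 : g * w = w * g := by
          calc g * w = g * w * g⁻¹ * g := by group
            _ = w * g := by rw [e]
        have e2 : (w * c⁻¹) * (g * c) = (w * c⁻¹) * (c * g) := by
          calc (w * c⁻¹) * (g * c) = (w * c⁻¹ * g) * c := by group
            _ = (g * (w * c⁻¹)) * c := by rw [hgk]
            _ = g * w := by group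
            _ = w * g := e1
            _ = (w * c⁻¹) * (c * g) := by group
        exact mul_left_cancel e2
      · intro e
        have e1 : g * w = w * g := by
          calc g * w = (g * (w * c⁻¹)) * c := by group
            _ = (w * c⁻¹ * g) * c := by rw [hgk]
            _ = w * c⁻¹ * (g * c) := by group
            _ = w * c⁻¹ * (c * g) := by rw [e]
            _ = w * g := by group
        rw [e1]; group
  have hK : Nat.card (commSub (PK (G := G) m)) ∣ m := hS.card_dvd hy
  have h1 : (Cz(c)).relIndex (Subgroup.centralizer (commSub (PK (G := G) m) : Set G)) = 1 :=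
    Nat.eq_one_of_dvd_coprimes hc hdvd1 (hdvd2.trans hK)
  exact Subgroup.relIndex_eq_one.1 h1

end struct

end Cfsg.Agent.Lib.Helper73
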