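import Mathlib
import Cfsg.Agent.Lib.Helper73.BHMStruct

set_option autoImplicit false
set_option linter.unusedSectionVars false

/-!
Bertram--Herzog--Mann: the counting argument showing that every noncentral element of the
centralizer of an element of class size `m` has class size `m`.
-/

namespace Cfsg.Agent.Lib.Helper73

/-- counting by fibers: if every fiber of `f` injects into `Γ`, then `|α| ≤ |Γ| * |β|` -/
lemma card_le_of_fibers {α β γ : Type*} [Finite β] (f : α → β) (Γ : Set γ) [Finite Γ]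
    (ι : α → α → γ)
    (hmem : ∀ a a', f a' = f a → ι a a' ∈ Γ)
    (hinj : ∀ a a1 a2, f a1 = f a → f a2 = f a → ι a a1 = ι a a2 → a1 = a2) :
    Nat.card α ≤ Nat.card Γ * Nat.card β := by
  rcases isEmpty_or_nonempty α with he | hne
  · rw [Nat.card_of_isEmpty]; exact Nat.zero_le _
  let s : β → α := Function.invFun f
  have hs : ∀ a, f (s (f a)) = f a := fun a => Function.invFun_eq ⟨a, rfl⟩
  let F : α → Γ × β := fun a => (⟨ι (s (f a)) a, hmem _ _ (hs a).symm⟩, f a)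
  have hF : Function.Injective F := by
    intro a1 a2 e
    have e2 : f a1 = f a2 := congrArg Prod.snd e
    have e1 : ι (s (f a1)) a1 = ι (s (f a2)) a2 := congrArg (fun p => (p.1 : γ)) e
    rw [e2] at e1
    exact hinj (s (f a2)) a1 a2 (by rw [hs, e2]) (by rw [hs]) e1
  have := Nat.card_le_card_of_injective F hF
  rwa [Nat.card_prod] at this

section decomp

variable {G : Type*} [Group G] [Finite G]

local notation "Cz(" x ")" => Subgroup.centralizer ({x} : Set G)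

/-- decomposition of a normal abelian subgroup under a fixed point free-like automorphism -/
lemma coprime_decomp (W0 : Subgroup G) [hW : W0.Normal]
    (hcomm : ∀ a ∈ W0, ∀ b ∈ W0, a * b = b * a) (t : G)
    (hTI : ∀ c ∈ W0, ∀ w ∈ W0, c ∈ Cz(t) → c = t⁻¹ * w * t * w⁻¹ → c = 1) :
    (∀ x ∈ W0, ∃ c ∈ W0, ∃ v ∈ W0, c * (t⁻¹ * v * t * v⁻¹) = x ∧ c ∈ Cz(t)) ∧
    Nat.card {k : G // ∃ v ∈ W0, k = t⁻¹ * v * t * v⁻¹} * Nat.card ↥(W0 ⊓ Cz(t)) =
      Nat.card W0 := by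
  have hmem : ∀ w ∈ W0, t⁻¹ * w * t * w⁻¹ ∈ W0 := by
    intro w hw
    have h1 : t⁻¹ * w * t⁻¹⁻¹ ∈ W0 := hW.conj_mem w hw t⁻¹
    rw [inv_inv] at h1
    exact W0.mul_mem h1 (W0.inv_mem hw)
  let θ : ↥W0 →* ↥W0 := MonoidHom.mk' (fun w => ⟨t⁻¹ * (w : G) * t * (w : G)⁻¹, hmem _ w.2⟩) (by
    intro a b
    apply Subtype.ext
    show t⁻¹ * ((a : G) * (b : G)) * t * ((a : G) * (b : G))⁻¹ =
      (t⁻¹ * (a : G) * t * (a : G)⁻¹) * (t⁻¹ * (b : G) * t * (b : G)⁻¹)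
    have h1 := hcomm _ (W0.inv_mem a.2) _ (hmem _ b.2)
    calc t⁻¹ * ((a : G) * (b : G)) * t * ((a : G) * (b : G))⁻¹
        = t⁻¹ * (a : G) * t * ((t⁻¹ * (b : G) * t * (b : G)⁻¹) * (a : G)⁻¹) := by group
      _ = t⁻¹ * (a : G) * t * ((a : G)⁻¹ * (t⁻¹ * (b : G) * t * (b : G)⁻¹)) := by rw [h1]
      _ = _ := by group)
  have hθ : ∀ w : ↥W0, ((θ w : ↥W0) : G) = t⁻¹ * (w : G) * t * (w : G)⁻¹ := fun w => rfl
  have hker : ∀ w : ↥W0, w ∈ θ.ker ↔ (w : G) ∈ Cz(t) := by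
    intro w
    rw [MonoidHom.mem_ker, mem_Cz]
    constructor
    · intro e
      have e1 : t⁻¹ * (w : G) * t * (w : G)⁻¹ = 1 := by rw [← hθ, e]; rfl
      have e2 : t⁻¹ * (w : G) * t = (w : G) := mul_inv_eq_one.1 e1
      calc (w : G) * t = t * (t⁻¹ * (w : G) * t) := by group
        _ = t * (w : G) := by rw [e2]
    · intro e
      apply Subtype.ext
      rw [hθ]
      show t⁻¹ * (w : G) * t * (w : G)⁻¹ = 1
      calc t⁻¹ * (w : G) * t * (w : G)⁻¹ = t⁻¹ * ((w : G) * t) * (w : G)⁻¹ := by group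
        _ = t⁻¹ * (t * (w : G)) * (w : G)⁻¹ := by rw [e]
        _ = 1 := by group
  have hbot : θ.ker ⊓ θ.range = ⊥ := by
    rw [eq_bot_iff]
    intro w hw
    obtain ⟨h1, h2⟩ := Subgroup.mem_inf.1 hw
    obtain ⟨v, hv⟩ := MonoidHom.mem_range.1 h2
    rw [Subgroup.mem_bot]
    apply Subtype.ext
    show (w : G) = 1
    apply hTI (w : G) w.2 (v : G) v.2 ((hker w).1 h1)
    rw [← hθ, hv]
  have hcard1 : Nat.card θ.ker * Nat.card θ.range = Nat.card ↥W0 := by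
    rw [← Subgroup.index_ker, Subgroup.card_mul_index]
  have hsup : θ.range ⊔ θ.ker = ⊤ := by
    have h1 := Cfsg.Agent.Lib.Helper01.card_sup_mul_card_inf θ.ker θ.range
    rw [hbot, Subgroup.card_bot, mul_one, hcard1] at h1
    exact (Subgroup.card_eq_iff_eq_top _).1 h1
  have hcardker : Nat.card θ.ker = Nat.card ↥(W0 ⊓ Cz(t)) := by
    apply Nat.card_congr
    exact
      { toFun := fun w => ⟨((w : ↥W0) : G), Subgroup.mem_inf.2 ⟨(w : ↥W0).2, (hker _).1 w.2⟩⟩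
        invFun := fun w => ⟨⟨(w : G), (Subgroup.mem_inf.1 w.2).1⟩,
          (hker _).2 (Subgroup.mem_inf.1 w.2).2⟩
        left_inv := fun w => rfl
        right_inv := fun w => rfl }
  have hcardrange : Nat.card θ.range = Nat.card {k : G // ∃ v ∈ W0, k = t⁻¹ * v * t * v⁻¹} := by
    apply Nat.card_congr
    exact
      { toFun := fun r => ⟨((r : ↥W0) : G), by
          obtain ⟨v, hv⟩ := MonoidHom.mem_range.1 r.2
          exact ⟨(v : G), v.2, by rw [← hθ, hv]⟩⟩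
        invFun := fun k => ⟨⟨(k : G), by
            obtain ⟨v, hv, e⟩ := k.2
            rw [e]; exact hmem v hv⟩, by
            obtain ⟨v, hv, e⟩ := k.2
            exact MonoidHom.mem_range.2 ⟨⟨v, hv⟩, Subtype.ext (by rw [hθ]; exact e.symm)⟩⟩
        left_inv := fun r => rfl
        right_inv := fun k => rfl }
  refine ⟨?_, ?_⟩
  · intro x hx
    have h1 : (⟨x, hx⟩ : ↥W0) ∈ ((θ.range ⊔ θ.ker : Subgroup ↥W0) : Set ↥W0) := by
      rw [hsup]; trivial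
    rw [Subgroup.mul_normal] at h1
    obtain ⟨f, hf, c, hc, e⟩ := Set.mem_mul.1 h1
    obtain ⟨v, hv⟩ := MonoidHom.mem_range.1 hf
    refine ⟨(c : G), c.2, (v : G), v.2, ?_, (hker c).1 hc⟩
    have e' : (f : G) * (c : G) = x := congrArg Subtype.val e
    rw [← hθ, hv, hcomm _ c.2 _ f.2, e']
  · rw [← hcardker, ← hcardrange, mul_comm, hcard1]

end decomp

section closure

variable {G : Type*} [Group G] [Finite G]

/-- the normal closure of an element whose conjugates commute pairwise is abelian of exponent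
dividing the order of the element -/
lemma normalClosure_props {x0 : G}
    (hc : ∀ g g' : G, (g * x0 * g⁻¹) * (g' * x0 * g'⁻¹) = (g' * x0 * g'⁻¹) * (g * x0 * g⁻¹)) :
    (∀ a ∈ Subgroup.normalClosure ({x0} : Set G), ∀ b ∈ Subgroup.normalClosure ({x0} : Set G),
      a * b = b * a) ∧
    (∀ w ∈ Subgroup.normalClosure ({x0} : Set G), w ^ orderOf x0 = 1) := by
  have hgen : ∀ a ∈ Group.conjugatesOfSet ({x0} : Set G),
      ∀ b ∈ Group.conjugatesOfSet ({x0} : Set G), a * b = b * a := by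
    intro a ha b hb
    obtain ⟨a', ha', hca⟩ := Group.mem_conjugatesOfSet_iff.1 ha
    obtain ⟨b', hb', hcb⟩ := Group.mem_conjugatesOfSet_iff.1 hb
    rw [Set.mem_singleton_iff] at ha' hb'
    subst ha' hb'
    obtain ⟨g, rfl⟩ := isConj_iff.1 hca
    obtain ⟨g', rfl⟩ := isConj_iff.1 hcb
    exact hc g g'
  have hcomm : ∀ a ∈ Subgroup.normalClosure ({x0} : Set G),
      ∀ b ∈ Subgroup.normalClosure ({x0} : Set G), a * b = b * a := by
    intro a ha b hb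
    have hI := Subgroup.isMulCommutative_closure hgen
    have := hI.is_comm.comm ⟨a, ha⟩ ⟨b, hb⟩
    exact congrArg Subtype.val this
  refine ⟨hcomm, ?_⟩
  intro w hw
  have hw' : w ∈ Subgroup.closure (Group.conjugatesOfSet ({x0} : Set G)) := hw
  induction hw' using Subgroup.closure_induction with
  | mem a ha =>
    obtain ⟨a', ha', hca⟩ := Group.mem_conjugatesOfSet_iff.1 ha
    rw [Set.mem_singleton_iff] at ha'
    subst ha'
    obtain ⟨g, rfl⟩ := isConj_iff.1 hca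
    rw [conj_pow, pow_orderOf_eq_one]; group
  | one => exact one_pow _
  | mul a b ha hb iha ihb =>
    have hab : Commute a b := hcomm a ha b hb
    rw [hab.mul_pow, iha ha, ihb hb, one_mul]
  | inv a ha iha => rw [inv_pow, iha ha, inv_one]

end closure

section count

variable {G : Type*} [Group G]

local notation "Cz(" x ")" => Subgroup.centralizer ({x} : Set G)

lemma TI_of_coprime {t c w : G} {e : ℕ} (hct : c * t = t * c)
    (hcw : c = t⁻¹ * w * t * w⁻¹) (hce : c ^ e = 1) (hte : (orderOf t).Coprime e) : c = 1 := by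
  have h1 : t⁻¹ * w * t = c * w := by rw [hcw]; group
  have hcomm : Commute t c := hct.symm
  have key : ∀ k : ℕ, (t⁻¹) ^ k * w * t ^ k = c ^ k * w := by
    intro k
    induction k with
    | zero => simp
    | succ k ih =>
      have hck : t⁻¹ * c ^ k * t = c ^ k := by
        have : Commute t (c ^ k) := hcomm.pow_right k
        calc t⁻¹ * c ^ k * t = t⁻¹ * (c ^ k * t) := by rw [mul_assoc]
          _ = t⁻¹ * (t * c ^ k) := by rw [this.eq]
          _ = c ^ k := by rw [inv_mul_cancel_left]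
      calc (t⁻¹) ^ (k + 1) * w * t ^ (k + 1) = t⁻¹ * ((t⁻¹) ^ k * w * t ^ k) * t := by
            rw [pow_succ' (t⁻¹), pow_succ t]; simp only [mul_assoc]
        _ = t⁻¹ * (c ^ k * w) * t := by rw [ih]
        _ = (t⁻¹ * c ^ k * t) * (t⁻¹ * w * t) := by group
        _ = c ^ k * (c * w) := by rw [hck, h1]
        _ = c ^ (k + 1) * w := by rw [pow_succ, mul_assoc]
  have h2 := key (orderOf t)
  rw [inv_pow, pow_orderOf_eq_one, inv_one, one_mul, mul_one] at h2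
  have h3 : c ^ orderOf t = 1 := by
    have : c ^ orderOf t * w = 1 * w := by rw [← h2, one_mul]
    exact mul_right_cancel this
  have d1 : orderOf c ∣ orderOf t := orderOf_dvd_of_pow_eq_one h3
  have d2 : orderOf c ∣ e := orderOf_dvd_of_pow_eq_one hce
  exact orderOf_eq_one_iff.1 (Nat.eq_one_of_dvd_coprimes hte d1 d2)

variable [Finite G]

/-- the counting argument -/
lemma count_contra (HH W0 : Subgroup G) [hW : W0.Normal] (t x0 : G) (e n : ℕ)
    (hcomm : ∀ a ∈ W0, ∀ b ∈ W0, a * b = b * a)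
    (hexp : ∀ w ∈ W0, w ^ e = 1)
    (hte : (orderOf t).Coprime e)
    (hx0 : x0 ∈ W0) (ht : t ∈ HH)
    (hWH : ∀ w ∈ W0, w ∈ HH → w ∈ Subgroup.center G)
    (hAH : ∀ d ∈ HH, d ∈ Cz(x0) → d ∈ Subgroup.center G)
    (htx : t ∉ Cz(x0))
    (hcardH : Nat.card HH = n * Nat.card (Subgroup.center G)) (hn : 0 < n)
    (hidx : ∀ c ∈ W0, c ∈ Cz(t) → (Cz(t * c)).index ≤ n) : False := by
  have hTI : ∀ c ∈ W0, ∀ w ∈ W0, c ∈ Cz(t) → c = t⁻¹ * w * t * w⁻¹ → c = 1 := by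
    intro c hc w _ hct hcw
    exact TI_of_coprime (mem_Cz.1 hct) hcw (hexp c hc) hte
  obtain ⟨hdec, hcard⟩ := coprime_decomp W0 hcomm t hTI
  obtain ⟨c, hcW, v, hvW, hcf, hct⟩ := hdec x0 hx0
  have hθmem : ∀ w ∈ W0, t⁻¹ * w * t * w⁻¹ ∈ W0 := by
    intro w hw
    have h1 : t⁻¹ * w * t⁻¹⁻¹ ∈ W0 := hW.conj_mem w hw t⁻¹
    rw [inv_inv] at h1
    exact W0.mul_mem h1 (W0.inv_mem hw)
  have hconjθ : ∀ r ∈ Cz(t), ∀ w : G, r * (t⁻¹ * w * t * w⁻¹) * r⁻¹ =
      t⁻¹ * (r * w * r⁻¹) * t * (r * w * r⁻¹)⁻¹ := by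
    intro r hr w
    have ht' : r * t * r⁻¹ = t := by rw [mem_Cz.1 hr]; group
    calc r * (t⁻¹ * w * t * w⁻¹) * r⁻¹
        = (r * t * r⁻¹)⁻¹ * (r * w * r⁻¹) * (r * t * r⁻¹) * (r * w * r⁻¹)⁻¹ := by group
      _ = _ := by rw [ht']
  have hfW : t⁻¹ * v * t * v⁻¹ ∈ W0 := hθmem v hvW
  have hf1 : t⁻¹ * v * t * v⁻¹ ≠ 1 := by
    intro e1
    apply htx
    rw [← hcf, e1, mul_one]
    exact mem_Cz.2 (mem_Cz.1 hct).symm
  -- the core computation
  have core : ∀ r ∈ HH, ∀ w ∈ W0, (r * w) * (t * c) * (r * w)⁻¹ = t * c →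
      r ∈ Cz(t) ∧ r ∈ Cz(c) ∧ w ∈ Cz(t) := by
    intro r hr w hw heq
    have hkW : t⁻¹ * w * t * w⁻¹ ∈ W0 := hθmem w hw
    have hqW : r * ((t⁻¹ * w * t * w⁻¹) * c) * r⁻¹ ∈ W0 :=
      hW.conj_mem _ (W0.mul_mem hkW hcW) r
    have hcw : c * w⁻¹ = w⁻¹ * c := hcomm c hcW w⁻¹ (W0.inv_mem hw)
    have e1 : (r * w) * (t * c) * (r * w)⁻¹ =
        (r * t * r⁻¹) * (r * ((t⁻¹ * w * t * w⁻¹) * c) * r⁻¹) := by
      calc (r * w) * (t * c) * (r * w)⁻¹ = r * w * t * (c * w⁻¹) * r⁻¹ := by group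
        _ = r * w * t * (w⁻¹ * c) * r⁻¹ := by rw [hcw]
        _ = _ := by group
    rw [e1] at heq
    -- z = t⁻¹ t'
    have hz1 : t⁻¹ * (r * t * r⁻¹) = c * (r * ((t⁻¹ * w * t * w⁻¹) * c) * r⁻¹)⁻¹ := by
      calc t⁻¹ * (r * t * r⁻¹)
          = t⁻¹ * ((r * t * r⁻¹) * (r * ((t⁻¹ * w * t * w⁻¹) * c) * r⁻¹)) *
            (r * ((t⁻¹ * w * t * w⁻¹) * c) * r⁻¹)⁻¹ := by group
        _ = t⁻¹ * (t * c) * (r * ((t⁻¹ * w * t * w⁻¹) * c) * r⁻¹)⁻¹ := by rw [heq]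
        _ = _ := by group
    have hzW : t⁻¹ * (r * t * r⁻¹) ∈ W0 := by
      rw [hz1]; exact W0.mul_mem hcW (W0.inv_mem hqW)
    have hzH : t⁻¹ * (r * t * r⁻¹) ∈ HH :=
      HH.mul_mem (HH.inv_mem ht) (HH.mul_mem (HH.mul_mem hr ht) (HH.inv_mem hr))
    have hzZ : t⁻¹ * (r * t * r⁻¹) ∈ Subgroup.center G := hWH _ hzW hzH
    have hze : (t⁻¹ * (r * t * r⁻¹)) ^ e = 1 := hexp _ hzW
    have hzt : (t⁻¹ * (r * t * r⁻¹)) ^ orderOf t = 1 := by
      have hc' : Commute t (t⁻¹ * (r * t * r⁻¹)) := Subgroup.mem_center_iff.1 hzZ t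
      have h2 : (t * (t⁻¹ * (r * t * r⁻¹))) ^ orderOf t = 1 := by
        rw [mul_inv_cancel_left, conj_pow, pow_orderOf_eq_one]; group
      rw [hc'.mul_pow, pow_orderOf_eq_one, one_mul] at h2
      exact h2
    have hz : t⁻¹ * (r * t * r⁻¹) = 1 := by
      have d1 : orderOf (t⁻¹ * (r * t * r⁻¹)) ∣ orderOf t := orderOf_dvd_of_pow_eq_one hzt
      have d2 : orderOf (t⁻¹ * (r * t * r⁻¹)) ∣ e := orderOf_dvd_of_pow_eq_one hze
      exact orderOf_eq_one_iff.1 (Nat.eq_one_of_dvd_coprimes hte d1 d2)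
    have ht' : r * t * r⁻¹ = t := by
      have := inv_mul_eq_one.1 hz
      exact this.symm
    have hrt : r ∈ Cz(t) := by
      rw [mem_Cz]
      calc r * t = r * t * r⁻¹ * r := by group
        _ = t * r := by rw [ht']
    rw [ht'] at heq
    have hq : r * ((t⁻¹ * w * t * w⁻¹) * c) * r⁻¹ = c := mul_left_cancel heq
    have hq2 : (t⁻¹ * (r * w * r⁻¹) * t * (r * w * r⁻¹)⁻¹) * (r * c * r⁻¹) = c := by
      calc (t⁻¹ * (r * w * r⁻¹) * t * (r * w * r⁻¹)⁻¹) * (r * c * r⁻¹)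
          = (r * (t⁻¹ * w * t * w⁻¹) * r⁻¹) * (r * c * r⁻¹) := by rw [hconjθ r hrt w]
        _ = r * ((t⁻¹ * w * t * w⁻¹) * c) * r⁻¹ := by group
        _ = c := hq
    have hw2W : r * w * r⁻¹ ∈ W0 := hW.conj_mem w hw r
    have hc'W : r * c * r⁻¹ ∈ W0 := hW.conj_mem c hcW r
    have hc't : r * c * r⁻¹ ∈ Cz(t) := by
      rw [mem_Cz]
      have h1 : r * t = t * r := mem_Cz.1 hrt
      have h2 : c * t = t * c := mem_Cz.1 hct
      calc r * c * r⁻¹ * t = r * c * (r⁻¹ * (t * r)) * r⁻¹ := by group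
        _ = r * c * (r⁻¹ * (r * t)) * r⁻¹ := by rw [h1]
        _ = r * (c * t) * r⁻¹ := by group
        _ = r * (t * c) * r⁻¹ := by rw [h2]
        _ = (r * t) * c * r⁻¹ := by group
        _ = (t * r) * c * r⁻¹ := by rw [h1]
        _ = t * (r * c * r⁻¹) := by group
    have hk2 : t⁻¹ * (r * w * r⁻¹) * t * (r * w * r⁻¹)⁻¹ = c * (r * c * r⁻¹)⁻¹ := by
      calc t⁻¹ * (r * w * r⁻¹) * t * (r * w * r⁻¹)⁻¹
          = ((t⁻¹ * (r * w * r⁻¹) * t * (r * w * r⁻¹)⁻¹) * (r * c * r⁻¹)) * (r * c * r⁻¹)⁻¹ := by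
            group
        _ = c * (r * c * r⁻¹)⁻¹ := by rw [hq2]
    have hk2one : t⁻¹ * (r * w * r⁻¹) * t * (r * w * r⁻¹)⁻¹ = 1 := by
      apply hTI _ (hθmem _ hw2W) (r * w * r⁻¹) hw2W _ rfl
      rw [hk2]
      exact Subgroup.mul_mem _ hct (Subgroup.inv_mem _ hc't)
    have hcc' : r * c * r⁻¹ = c := by
      rw [hk2one, one_mul] at hq2
      exact hq2
    have hrc : r ∈ Cz(c) := by
      rw [mem_Cz]
      calc r * c = r * c * r⁻¹ * r := by group
        _ = c * r := by rw [hcc']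
    have hw2t : r * w * r⁻¹ ∈ Cz(t) := by
      rw [mem_Cz]
      have e2 : t⁻¹ * (r * w * r⁻¹) * t = r * w * r⁻¹ := mul_inv_eq_one.1 hk2one
      calc r * w * r⁻¹ * t = t * (t⁻¹ * (r * w * r⁻¹) * t) := by group
        _ = t * (r * w * r⁻¹) := by rw [e2]
    have hwt : w ∈ Cz(t) := by
      have : w = r⁻¹ * (r * w * r⁻¹) * r := by group
      rw [this]
      exact Subgroup.mul_mem _ (Subgroup.mul_mem _ (Subgroup.inv_mem _ hrt) hw2t) hrt
    exact ⟨hrt, hrc, hwt⟩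
  -- Bound 1
  have hB1 : Nat.card HH * Nat.card W0 ≤
      (Nat.card ↥(HH ⊓ Cz(t) ⊓ Cz(c)) * Nat.card ↥(W0 ⊓ Cz(t))) * n := by
    have hb := card_le_of_fibers (α := ↥HH × ↥W0) (β := {w : G // IsConj (t * c) w})
      (fun a => ⟨((a.1 : G) * (a.2 : G)) * (t * c) * ((a.1 : G) * (a.2 : G))⁻¹,
        isConj_iff.2 ⟨_, rfl⟩⟩)
      (((HH ⊓ Cz(t) ⊓ Cz(c) : Subgroup G) : Set G) ×ˢ ((W0 ⊓ Cz(t) : Subgroup G) : Set G))
      (fun a a' => ((a'.1 : G)⁻¹ * (a.1 : G),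
        ((a'.1 : G)⁻¹ * (a.1 : G))⁻¹ * (a'.2 : G)⁻¹ * ((a'.1 : G)⁻¹ * (a.1 : G)) * (a.2 : G)))
      (by
        rintro ⟨h1, w1⟩ ⟨h2, w2⟩ heq
        have heq' : ((h2 : G) * (w2 : G)) * (t * c) * ((h2 : G) * (w2 : G))⁻¹ =
            ((h1 : G) * (w1 : G)) * (t * c) * ((h1 : G) * (w1 : G))⁻¹ := congrArg Subtype.val heq
        have hr : (h2 : G)⁻¹ * (h1 : G) ∈ HH := HH.mul_mem (HH.inv_mem h2.2) h1.2
        have hw' : ((h2 : G)⁻¹ * (h1 : G))⁻¹ * (w2 : G)⁻¹ * ((h2 : G)⁻¹ * (h1 : G)) * (w1 : G) ∈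
            W0 := by
          have := hW.conj_mem _ (W0.inv_mem w2.2) ((h2 : G)⁻¹ * (h1 : G))⁻¹
          rw [inv_inv] at this
          exact W0.mul_mem this w1.2
        have hg : (((h2 : G)⁻¹ * (h1 : G)) *
            (((h2 : G)⁻¹ * (h1 : G))⁻¹ * (w2 : G)⁻¹ * ((h2 : G)⁻¹ * (h1 : G)) * (w1 : G))) *
            (t * c) * (((h2 : G)⁻¹ * (h1 : G)) *
            (((h2 : G)⁻¹ * (h1 : G))⁻¹ * (w2 : G)⁻¹ * ((h2 : G)⁻¹ * (h1 : G)) * (w1 : G)))⁻¹ =
            t * c := by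
          calc _ = ((h2 : G) * (w2 : G))⁻¹ * (((h1 : G) * (w1 : G)) * (t * c) *
                ((h1 : G) * (w1 : G))⁻¹) * ((h2 : G) * (w2 : G)) := by group
            _ = ((h2 : G) * (w2 : G))⁻¹ * (((h2 : G) * (w2 : G)) * (t * c) *
                ((h2 : G) * (w2 : G))⁻¹) * ((h2 : G) * (w2 : G)) := by rw [heq']
            _ = t * c := by group
        obtain ⟨c1, c2, c3⟩ := core _ hr _ hw' hg
        exact Set.mk_mem_prod (Subgroup.mem_inf.2 ⟨Subgroup.mem_inf.2 ⟨hr, c1⟩, c2⟩)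
          (Subgroup.mem_inf.2 ⟨hw', c3⟩))
      (by
        rintro ⟨h0, w0⟩ ⟨h1, w1⟩ ⟨h2, w2⟩ _ _ heq
        have e1 : (h1 : G)⁻¹ * (h0 : G) = (h2 : G)⁻¹ * (h0 : G) := congrArg Prod.fst heq
        have e2 : ((h1 : G)⁻¹ * (h0 : G))⁻¹ * (w1 : G)⁻¹ * ((h1 : G)⁻¹ * (h0 : G)) * (w0 : G) =
            ((h2 : G)⁻¹ * (h0 : G))⁻¹ * (w2 : G)⁻¹ * ((h2 : G)⁻¹ * (h0 : G)) * (w0 : G) :=
          congrArg Prod.snd heq
        have e3 : (h1 : G) = (h2 : G) := inv_injective (mul_right_cancel e1)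
        rw [← e1] at e2
        have e4 : (w1 : G)⁻¹ = (w2 : G)⁻¹ :=
          mul_left_cancel (mul_right_cancel (mul_right_cancel e2))
        exact Prod.ext (Subtype.ext e3) (Subtype.ext (inv_injective e4)))
    rw [Nat.card_prod, Nat.card_congr (Equiv.Set.prod _ _), Nat.card_prod,
      ← index_Cz_eq_card_conj] at hb
    exact hb.trans (Nat.mul_le_mul_left _ (hidx c hcW hct))
  -- Bound 2
  have hB2 : Nat.card ↥(HH ⊓ Cz(t) ⊓ Cz(c)) ≤ Nat.card (Subgroup.center G) *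
      Nat.card {k : G // k ≠ 1 ∧ ∃ v ∈ W0, k = t⁻¹ * v * t * v⁻¹} := by
    have hb := card_le_of_fibers (α := ↥(HH ⊓ Cz(t) ⊓ Cz(c)))
      (β := {k : G // k ≠ 1 ∧ ∃ v ∈ W0, k = t⁻¹ * v * t * v⁻¹})
      (fun r => ⟨(r : G) * (t⁻¹ * v * t * v⁻¹) * (r : G)⁻¹, by
        have hrt : (r : G) ∈ Cz(t) := (Subgroup.mem_inf.1 (Subgroup.mem_inf.1 r.2).1).2
        refine ⟨?_, (r : G) * v * (r : G)⁻¹, hW.conj_mem v hvW _, hconjθ _ hrt v⟩
        intro e1
        apply hf1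
        have : t⁻¹ * v * t * v⁻¹ = (r : G)⁻¹ * ((r : G) * (t⁻¹ * v * t * v⁻¹) * (r : G)⁻¹) * (r : G) := by
          group
        rw [this, e1]; group⟩)
      ((Subgroup.center G : Subgroup G) : Set G)
      (fun r r' => (r : G)⁻¹ * (r' : G))
      (by
        intro r r' heq
        have heq' : (r' : G) * (t⁻¹ * v * t * v⁻¹) * (r' : G)⁻¹ =
            (r : G) * (t⁻¹ * v * t * v⁻¹) * (r : G)⁻¹ := congrArg Subtype.val heq
        have hd : (r : G)⁻¹ * (r' : G) ∈ HH ⊓ Cz(t) ⊓ Cz(c) :=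
          Subgroup.mul_mem _ (Subgroup.inv_mem _ r.2) r'.2
        have hdH : (r : G)⁻¹ * (r' : G) ∈ HH := (Subgroup.mem_inf.1 (Subgroup.mem_inf.1 hd).1).1
        have hdc : (r : G)⁻¹ * (r' : G) ∈ Cz(c) := (Subgroup.mem_inf.1 hd).2
        have hdf : (r : G)⁻¹ * (r' : G) ∈ Cz(t⁻¹ * v * t * v⁻¹) := by
          rw [mem_Cz]
          calc (r : G)⁻¹ * (r' : G) * (t⁻¹ * v * t * v⁻¹)
              = (r : G)⁻¹ * ((r' : G) * (t⁻¹ * v * t * v⁻¹) * (r' : G)⁻¹) * (r' : G) := by group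
            _ = (r : G)⁻¹ * ((r : G) * (t⁻¹ * v * t * v⁻¹) * (r : G)⁻¹) * (r' : G) := by rw [heq']
            _ = _ := by group
        apply hAH _ hdH
        rw [mem_Cz, ← hcf]
        have h1 := mem_Cz.1 hdc
        have h2 := mem_Cz.1 hdf
        calc (r : G)⁻¹ * (r' : G) * (c * (t⁻¹ * v * t * v⁻¹))
            = ((r : G)⁻¹ * (r' : G) * c) * (t⁻¹ * v * t * v⁻¹) := by group
          _ = (c * ((r : G)⁻¹ * (r' : G))) * (t⁻¹ * v * t * v⁻¹) := by rw [h1]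
          _ = c * (((r : G)⁻¹ * (r' : G)) * (t⁻¹ * v * t * v⁻¹)) := by group
          _ = c * ((t⁻¹ * v * t * v⁻¹) * ((r : G)⁻¹ * (r' : G))) := by rw [h2]
          _ = _ := by group)
      (by
        intro r r1 r2 _ _ heq
        exact Subtype.ext (mul_left_cancel heq))
    exact hb
  -- the nontrivial elements of `Θ`
  have hB3 : Nat.card {k : G // k ≠ 1 ∧ ∃ v ∈ W0, k = t⁻¹ * v * t * v⁻¹} + 1 ≤
      Nat.card {k : G // ∃ v ∈ W0, k = t⁻¹ * v * t * v⁻¹} := by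
    rw [← Finite.card_option]
    apply Nat.card_le_card_of_injective
      (fun o : Option {k : G // k ≠ 1 ∧ ∃ v ∈ W0, k = t⁻¹ * v * t * v⁻¹} =>
        (match o with
        | none => ⟨1, 1, W0.one_mem, by group⟩
        | some k => ⟨(k : G), k.2.2⟩ : {k : G // ∃ v ∈ W0, k = t⁻¹ * v * t * v⁻¹}))
    intro o1 o2 heq
    cases o1 with
    | none =>
      cases o2 with
      | none => rfl
      | some k2 =>
        exfalso
        have h' := congrArg Subtype.val heq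
        have : (1 : G) = (k2 : G) := h'
        exact k2.2.1 this.symm
    | some k1 =>
      cases o2 with
      | none =>
        exfalso
        have h' := congrArg Subtype.val heq
        have : (k1 : G) = 1 := h'
        exact k1.2.1 this
      | some k2 =>
        have h' := congrArg Subtype.val heq
        have : (k1 : G) = (k2 : G) := h'
        rw [Subtype.ext this]
  -- arithmetic
  have hZpos : 0 < Nat.card (Subgroup.center G) := Nat.card_pos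
  have hFpos : 0 < Nat.card ↥(W0 ⊓ Cz(t)) := Nat.card_pos
  rw [hcardH, ← hcard] at hB1
  have h1 : (Nat.card (Subgroup.center G) *
      Nat.card {k : G // ∃ v ∈ W0, k = t⁻¹ * v * t * v⁻¹}) * (n * Nat.card ↥(W0 ⊓ Cz(t))) ≤
      Nat.card ↥(HH ⊓ Cz(t) ⊓ Cz(c)) * (n * Nat.card ↥(W0 ⊓ Cz(t))) := by
    calc _ = n * Nat.card (Subgroup.center G) *
          (Nat.card {k : G // ∃ v ∈ W0, k = t⁻¹ * v * t * v⁻¹} * Nat.card ↥(W0 ⊓ Cz(t))) := by ring
      _ ≤ (Nat.card ↥(HH ⊓ Cz(t) ⊓ Cz(c)) * Nat.card ↥(W0 ⊓ Cz(t))) * n := hB1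
      _ = _ := by ring
  have h2 := Nat.le_of_mul_le_mul_right h1 (Nat.mul_pos hn hFpos)
  have h3 := h2.trans hB2
  have h4 := Nat.le_of_mul_le_mul_left h3 hZpos
  omega

end count

section claimB

variable {G : Type*} [Group G] [Finite G] {m n : ℕ}

local notation "Cz(" x ")" => Subgroup.centralizer ({x} : Set G)

lemma BHM.index_eq_of_mem_Cz_M_aux (h : BHM G m n) {x y : G} (hx : (Cz(x)).index = n)
    (hy : (Cz(y)).index = m) {b : G} (hb : (Cz(b)).index = m) {t : G} (ht : t ∈ Cz(b))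
    (htz : t ∉ Subgroup.center G)
    (hto : ∀ M : ℕ, M.Coprime n → (orderOf t).Coprime M) : (Cz(t)).index = m := by
  by_contra hne
  obtain ⟨x0, hx0, hx0o, _⟩ := h.exists_S_coprime hx hy
  have hc : ∀ g g' : G,
      (g * x0 * g⁻¹) * (g' * x0 * g'⁻¹) = (g' * x0 * g'⁻¹) * (g * x0 * g⁻¹) := by
    intro g g'
    have h1 : (Cz(g * x0 * g⁻¹)).index.Coprime m := by
      rw [index_Cz_conj, hx0]; exact h.hcop.symm
    have h2 : (Cz(g' * x0 * g'⁻¹)).index.Coprime m := by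
      rw [index_Cz_conj, hx0]; exact h.hcop.symm
    exact (h.commute_of_PK hy h2 h1).eq
  obtain ⟨hcomm, hexp⟩ := normalClosure_props hc
  have hW : (Subgroup.normalClosure ({x0} : Set G)).Normal := Subgroup.normalClosure_normal
  have hx0W : x0 ∈ Subgroup.normalClosure ({x0} : Set G) :=
    Subgroup.subset_normalClosure (Set.mem_singleton x0)
  have hWA : ∀ w ∈ Subgroup.normalClosure ({x0} : Set G), w ∈ Cz(x0) :=
    fun w hw => mem_Cz.2 (hcomm w hw x0 hx0W)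
  apply count_contra (Cz(b)) (Subgroup.normalClosure ({x0} : Set G)) t x0 (orderOf x0) n hcomm hexp
    (hto _ hx0o) hx0W ht
  · intro w hw hwb
    exact h.inf_le_center hx hy hx0 hb (Subgroup.mem_inf.2 ⟨hWA w hw, hwb⟩)
  · intro d hd hdx
    exact h.inf_le_center hx hy hx0 hb (Subgroup.mem_inf.2 ⟨hdx, hd⟩)
  · intro htx
    exact htz (h.inf_le_center hx hy hx0 hb (Subgroup.mem_inf.2 ⟨htx, ht⟩))
  · exact h.card_Cz_M hx hy hb
  · have := h.hn; omega
  · intro c hcW hct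
    have hco : (orderOf t).Coprime (orderOf c) :=
      Nat.Coprime.coprime_dvd_right (orderOf_dvd_of_pow_eq_one (hexp c hcW)) (hto _ hx0o)
    have hC : Cz(t * c) = Cz(t) ⊓ Cz(c) := Cz_mul_of_coprime (mem_Cz.1 hct).symm hco
    apply h.hsecond
    apply lt_of_le_of_ne (h.htop _)
    intro e
    have hle : Cz(t * c) ≤ Cz(t) := by rw [hC]; exact inf_le_left
    have hd : (Cz(t)).index ∣ m := e ▸ Subgroup.index_dvd_of_le hle
    rcases h.index_eq_or_central hx hy (Nat.Coprime.coprime_dvd_left hd h.hcop) with h1 | h1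
    · exact hne h1
    · exact htz h1

/-- Claim B: every noncentral element of the centralizer of an element of class size `m`
has class size `m` -/
lemma BHM.index_eq_of_mem_Cz_M (h : BHM G m n) {x y : G} (hx : (Cz(x)).index = n)
    (hy : (Cz(y)).index = m) {b : G} (hb : (Cz(b)).index = m) {t : G} (ht : t ∈ Cz(b))
    (htz : t ∉ Subgroup.center G) : (Cz(t)).index = m := by
  have hn0 : n ≠ 0 := by have := h.hn; omega
  obtain ⟨u, v, huv, hu, hv, huo, hvo⟩ := decN t n hn0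
  have huz : u ∈ Subgroup.center G :=
    h.central_of_mem_Cz_M hx hy hb (zpowers_le_Cz ht hu) huo
  have hvu : v * u = u * v := Subgroup.mem_center_iff.1 huz v
  have e : Cz(t) = Cz(v) := by rw [← huv, ← hvu, Cz_mul_central v huz]
  rw [e]
  apply h.index_eq_of_mem_Cz_M_aux hx hy hb (zpowers_le_Cz ht hv) _ hvo
  intro hvz
  apply htz
  rw [← huv]
  exact Subgroup.mul_mem _ huz hvz

end claimB

end Cfsg.Agent.Lib.Helper73
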