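import Mathlib
import Cfsg.Prelude.Def_Solvable
import Cfsg.Agent.Lib.Helper73.BHMCount

set_option autoImplicit false
set_option linter.unusedSectionVars false

/-!
Bertram--Herzog--Mann: the Frobenius structure of `G ⧸ Z(G)`.
-/

namespace Cfsg.Agent.Lib.Helper73

open scoped Pointwise

/-- A normal subgroup `N` with a complement `T` such that the centralizer of every nonidentity
element of `N` lies in `N`: then `T` is a Frobenius complement with kernel `N`. (The argument is
the one of `Cfsg.Agent.Lib.Helper65.frobenius_of_normal_fpf`, for a given complement.) -/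
theorem frobenius_of_normal_complement {X : Type*} [Group X] [Finite X] (N T : Subgroup X)
    [hN : N.Normal] (hTbot : T ≠ ⊥) (hTtop : T ≠ ⊤)
    (hdisj : ∀ x, x ∈ N → x ∈ T → x = 1)
    (hdecomp : ∀ g : X, ∃ n ∈ N, ∃ t ∈ T, g = n * t)
    (hF : ∀ n ∈ N, n ≠ 1 → ∀ x : X, n * x = x * n → x ∈ N) :
    Cfsg.IsFrobeniusComplement T ∧ Cfsg.frobeniusKernel T = (N : Set X) := by
  refine ⟨⟨hTbot, hTtop, ?_⟩, ?_⟩
  · intro g hg
    rw [eq_bot_iff]
    intro x hx
    rw [Subgroup.mem_bot]
    obtain ⟨hxT, hxg⟩ := Subgroup.mem_inf.1 hx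
    rw [Cfsg.Agent.Lib.Helper77.mem_conj_smul_iff] at hxg
    obtain ⟨n, hn, t, ht, rfl⟩ := hdecomp g
    have hn1 : n ≠ 1 := by
      rintro rfl
      apply hg
      rw [one_mul]
      exact ht
    have hy : n⁻¹ * x * n ∈ T := by
      have h1 : n⁻¹ * x * n = t * ((n * t)⁻¹ * x * (n * t)) * t⁻¹ := by group
      rw [h1]
      exact T.mul_mem (T.mul_mem ht hxg) (T.inv_mem ht)
    have h2 : x * (n⁻¹ * x * n)⁻¹ ∈ N := by
      have h3 : x * (n⁻¹ * x * n)⁻¹ = (x * n⁻¹ * x⁻¹) * n := by group
      rw [h3]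
      exact N.mul_mem (hN.conj_mem _ (N.inv_mem hn) x) hn
    have h4 : x * (n⁻¹ * x * n)⁻¹ ∈ T := T.mul_mem hxT (T.inv_mem hy)
    have h5 := hdisj _ h2 h4
    have h6 : n * x = x * n := by
      have h7 : x = n⁻¹ * x * n := mul_inv_eq_one.1 h5
      calc n * x = n * (n⁻¹ * x * n) := by rw [← h7]
        _ = x * n := by group
    by_contra hx1
    have h8 : x ∈ N := hF n hn hn1 x h6
    exact hx1 (hdisj x h8 hxT)
  · ext x
    show (x = 1 ∨ ∀ g : X, x ∉ MulAut.conj g • T) ↔ x ∈ N
    constructor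
    · rintro (rfl | hx)
      · exact N.one_mem
      · by_contra hxN
        obtain ⟨n, hn, t, ht, rfl⟩ := hdecomp x
        have ht1 : t ≠ 1 := by
          rintro rfl
          apply hxN
          rw [mul_one]
          exact hn
        have htN : t ∉ N := fun h => ht1 (hdisj t h ht)
        let φ : N → N := fun u => ⟨(u : X)⁻¹ * (t * u * t⁻¹),
          N.mul_mem (N.inv_mem u.2) (hN.conj_mem _ u.2 t)⟩
        have hφ : Function.Injective φ := by
          intro u v huv
          have h1 : (u : X)⁻¹ * (t * u * t⁻¹) = (v : X)⁻¹ * (t * v * t⁻¹) :=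
            congrArg Subtype.val huv
          have h2 : ((v : X) * (u : X)⁻¹) * t = t * ((v : X) * (u : X)⁻¹) := by
            have e1 : ((v : X) * (u : X)⁻¹) * t
                = (v : X) * ((u : X)⁻¹ * (t * u * t⁻¹)) * t * (u : X)⁻¹ := by group
            rw [e1, h1]
            group
          by_contra hne
          have h3 : (v : X) * (u : X)⁻¹ ≠ 1 := by
            intro h
            apply hne
            apply Subtype.ext
            exact (mul_inv_eq_one.1 h).symm
          exact htN (hF _ (N.mul_mem v.2 (N.inv_mem u.2)) h3 t h2)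
        have hφs : Function.Surjective φ := Finite.surjective_of_injective hφ
        obtain ⟨u, hu⟩ := hφs ⟨n, hn⟩
        have hu' : (u : X)⁻¹ * (t * u * t⁻¹) = n := congrArg Subtype.val hu
        apply hx (u : X)⁻¹
        rw [Cfsg.Agent.Lib.Helper77.mem_conj_smul_iff, ← hu', inv_inv]
        have e : (u : X) * ((u : X)⁻¹ * (t * u * t⁻¹) * t) * (u : X)⁻¹ = t := by group
        rw [e]
        exact ht
    · intro hxN
      by_cases hx1 : x = 1
      · exact Or.inl hx1
      · right
        intro g hg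
        rw [Cfsg.Agent.Lib.Helper77.mem_conj_smul_iff] at hg
        have h1 : g⁻¹ * x * g ∈ N := by
          have := hN.conj_mem x hxN g⁻¹
          rwa [inv_inv] at this
        have h2 := hdisj _ h1 hg
        apply hx1
        have : x = g * (g⁻¹ * x * g) * g⁻¹ := by group
        rw [this, h2]
        group

section general

variable {G : Type*} [Group G]

/-- a central commutator of elements with coprime "orders" is trivial -/
lemma central_commutator_trivial {g a z : G} {M N : ℕ} (hz : z ∈ Subgroup.center G)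
    (hga : g * a * g⁻¹ = a * z) (haM : a ^ M ∈ Subgroup.center G)
    (hgN : g ^ N * a = a * g ^ N) (hMN : M.Coprime N) : z = 1 := by
  have hzc : ∀ w : G, w * z = z * w := Subgroup.mem_center_iff.1 hz
  have hzM : z ^ M = 1 := by
    have h1 : g * a ^ M * g⁻¹ = a ^ M := by
      have := Subgroup.mem_center_iff.1 haM g
      rw [this]; group
    have h2 : g * a ^ M * g⁻¹ = a ^ M * z ^ M := by
      rw [← conj_pow, hga, (show Commute a z from hzc a).mul_pow]
    rw [h1] at h2
    have : a ^ M * 1 = a ^ M * z ^ M := by rw [mul_one]; exact h2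
    exact (mul_left_cancel this).symm
  have hzN : z ^ N = 1 := by
    have key : ∀ k : ℕ, g ^ k * a * (g ^ k)⁻¹ = a * z ^ k := by
      intro k
      induction k with
      | zero => simp
      | succ k ih =>
        have hzk : g * z ^ k * g⁻¹ = z ^ k := by
          have : Commute g (z ^ k) := (show Commute g z from hzc g).pow_right k
          rw [this.eq]; group
        calc g ^ (k + 1) * a * (g ^ (k + 1))⁻¹ = g * (g ^ k * a * (g ^ k)⁻¹) * g⁻¹ := by
              rw [pow_succ' g]; group
          _ = g * (a * z ^ k) * g⁻¹ := by rw [ih]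
          _ = (g * a * g⁻¹) * (g * z ^ k * g⁻¹) := by group
          _ = a * z * z ^ k := by rw [hga, hzk]
          _ = a * z ^ (k + 1) := by rw [pow_succ' z, mul_assoc]
    have h1 := key N
    rw [hgN, mul_inv_cancel_right] at h1
    have : a * 1 = a * z ^ N := by rw [mul_one]; exact h1
    exact (mul_left_cancel this).symm
  have d1 : orderOf z ∣ M := orderOf_dvd_of_pow_eq_one hzM
  have d2 : orderOf z ∣ N := orderOf_dvd_of_pow_eq_one hzN
  exact orderOf_eq_one_iff.1 (Nat.eq_one_of_dvd_coprimes hMN d1 d2)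

/-- membership in the image of a subgroup containing the center in `G ⧸ Z(G)` -/
lemma mem_map_mk_iff (L : Subgroup G) (hZ : Subgroup.center G ≤ L) (g : G) :
    (QuotientGroup.mk' (Subgroup.center G)) g ∈ L.map (QuotientGroup.mk' (Subgroup.center G)) ↔
      g ∈ L := by
  constructor
  · rintro ⟨l, hl, e⟩
    obtain ⟨z, hz, e2⟩ := (QuotientGroup.mk'_eq_mk' _).1 e
    rw [← e2]
    exact L.mul_mem hl (hZ hz)
  · intro hg
    exact Subgroup.mem_map_of_mem _ hg

/-- powers by the relative index of the center -/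
lemma pow_mem_center_of_card [Finite G] (A : Subgroup G) (hZ : Subgroup.center G ≤ A) {M : ℕ}
    (hcard : Nat.card A = M * Nat.card (Subgroup.center G)) {a : G} (ha : a ∈ A) :
    a ^ M ∈ Subgroup.center G := by
  have h1 := relIndex_mul_card_inf (Subgroup.center G) A
  rw [inf_eq_left.2 hZ, hcard] at h1
  have h2 : (Subgroup.center G).relIndex A = M :=
    Nat.eq_of_mul_eq_mul_right Nat.card_pos h1
  have h3 := Subgroup.pow_index_mem ((Subgroup.center G).subgroupOf A) (⟨a, ha⟩ : ↥A)
  rw [Subgroup.mem_subgroupOf] at h3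
  have h4 : ((Subgroup.center G).subgroupOf A).index = M := h2
  rw [h4] at h3
  simpa using h3

end general

section frob

variable {G : Type*} [Group G] [Finite G] {m n : ℕ}

local notation "Cz(" x ")" => Subgroup.centralizer ({x} : Set G)

/-- P1: noncentral elements of the centralizer of an element of class size `n` have class
size `n` -/
lemma BHM.index_eq_of_mem_Cz_S (h : BHM G m n) {x y : G} (hx : (Cz(x)).index = n)
    (hy : (Cz(y)).index = m) {a : G} (ha : (Cz(a)).index = n) {a' : G} (ha' : a' ∈ Cz(a))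
    (hz : a' ∉ Subgroup.center G) : (Cz(a')).index = n := by
  have hle : (Cz(a')).index ≤ n := by
    apply h.hsecond
    apply lt_of_le_of_ne (h.htop _)
    intro e
    exact h.not_commute hx hy e ha (mem_Cz.1 ha')
  have hint : Cz(y) ⊓ Cz(a') ≤ Subgroup.center G := by
    intro d hd
    obtain ⟨hd2, hd1⟩ := Subgroup.mem_inf.1 hd
    by_contra hdz
    have hdm : (Cz(d)).index = m := h.index_eq_of_mem_Cz_M hx hy hy hd2 hdz
    have : a' ∈ Cz(a) ⊓ Cz(d) := Subgroup.mem_inf.2 ⟨ha', mem_Cz.2 (mem_Cz.1 hd1).symm⟩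
    exact hz (h.inf_le_center hx hy ha hdm this)
  have h1 := relIndex_mul_card_inf (Cz(y)) (Cz(a'))
  have h2 : (Cz(y)).relIndex (Cz(a')) ≤ m := hy ▸ relIndex_le_index' _ _
  have h3 : Nat.card ↥(Cz(y) ⊓ Cz(a')) ≤ Nat.card (Subgroup.center G) :=
    Subgroup.card_le_of_le hint
  have h4 : Nat.card (Cz(a')) ≤ m * Nat.card (Subgroup.center G) := by
    rw [← h1]; exact Nat.mul_le_mul h2 h3
  have h5 := Subgroup.index_mul_card (Cz(a'))
  rw [h.card_eq hx hy] at h5
  have h6 : n * (m * Nat.card (Subgroup.center G)) ≤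
      (Cz(a')).index * (m * Nat.card (Subgroup.center G)) := by
    calc n * (m * Nat.card (Subgroup.center G)) = n * m * Nat.card (Subgroup.center G) := by ring
      _ = (Cz(a')).index * Nat.card (Cz(a')) := h5.symm
      _ ≤ (Cz(a')).index * (m * Nat.card (Subgroup.center G)) := Nat.mul_le_mul_left _ h4
  have hpos : 0 < m * Nat.card (Subgroup.center G) := Nat.mul_pos h.m_pos Nat.card_pos
  exact le_antisymm hle (Nat.le_of_mul_le_mul_right h6 hpos)

/-- the centralizer of an element of class size `n` is abelian -/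
lemma BHM.Cz_S_comm (h : BHM G m n) {x y : G} (hx : (Cz(x)).index = n)
    (hy : (Cz(y)).index = m) {a : G} (ha : (Cz(a)).index = n) :
    ∀ u ∈ Cz(a), ∀ v ∈ Cz(a), u * v = v * u := by
  intro u hu v hv
  by_cases huz : u ∈ Subgroup.center G
  · exact (Subgroup.mem_center_iff.1 huz v).symm
  by_cases hvz : v ∈ Subgroup.center G
  · exact Subgroup.mem_center_iff.1 hvz u
  have h1 := h.index_eq_of_mem_Cz_S hx hy ha hu huz
  have h2 := h.index_eq_of_mem_Cz_S hx hy ha hv hvz
  exact (h.commute_of_PK hy (c := v) (c' := u) (by rw [h2]; exact h.hcop.symm)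
    (by rw [h1]; exact h.hcop.symm)).eq

lemma BHM.Cz_S_eq (h : BHM G m n) {x y : G} (hx : (Cz(x)).index = n)
    (hy : (Cz(y)).index = m) {a : G} (ha : (Cz(a)).index = n) {a' : G} (ha' : a' ∈ Cz(a))
    (hz : a' ∉ Subgroup.center G) : Cz(a') = Cz(a) := by
  have h1 := h.index_eq_of_mem_Cz_S hx hy ha ha' hz
  have hle : Cz(a) ≤ Cz(a') := by
    intro g hg
    exact mem_Cz.2 (h.Cz_S_comm hx hy ha g hg a' ha')
  exact (h.rigidS h1 hle).symm

lemma BHM.Cz_S_normal (h : BHM G m n) {x y : G} (hx : (Cz(x)).index = n)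
    (hy : (Cz(y)).index = m) {a : G} (ha : (Cz(a)).index = n) : (Cz(a)).Normal := by
  refine ⟨fun d hd g => ?_⟩
  have hi : (Cz(g * a * g⁻¹)).index = n := by rw [index_Cz_conj, ha]
  have hc : Commute (g * a * g⁻¹) a :=
    h.commute_of_PK hy (c := a) (c' := g * a * g⁻¹) (by rw [ha]; exact h.hcop.symm)
      (by rw [hi]; exact h.hcop.symm)
  have hmem : g * a * g⁻¹ ∈ Cz(a) := mem_Cz.2 hc.eq
  have hnz : g * a * g⁻¹ ∉ Subgroup.center G := by
    intro hzz
    rw [← index_Cz_eq_one_iff, hi] at hzz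
    have := h.hn
    omega
  rw [← h.Cz_S_eq hx hy ha hmem hnz, mem_Cz]
  have hd' : d * a = a * d := mem_Cz.1 hd
  calc g * d * g⁻¹ * (g * a * g⁻¹) = g * (d * a) * g⁻¹ := by group
    _ = g * (a * d) * g⁻¹ := by rw [hd']
    _ = g * a * g⁻¹ * (g * d * g⁻¹) := by group

/-- the Bertram--Herzog--Mann theorem -/
theorem BHM.main (h : BHM G m n) {x y : G} (hx : (Cz(x)).index = n) (hy : (Cz(y)).index = m) :
    IsMulCommutative (Cz(x)) ∧ IsMulCommutative (Cz(y)) ∧
    Cfsg.IsFrobeniusComplement ((Cz(y)).map (QuotientGroup.mk' (Subgroup.center G))) ∧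
    Cfsg.frobeniusKernel ((Cz(y)).map (QuotientGroup.mk' (Subgroup.center G))) =
      ((Cz(x)).map (QuotientGroup.mk' (Subgroup.center G)) : Set (G ⧸ Subgroup.center G)) := by
  have hAcomm := h.Cz_S_comm hx hy hx
  have hAn : (Cz(x)).Normal := h.Cz_S_normal hx hy hx
  have hNn : ((Cz(x)).map (QuotientGroup.mk' (Subgroup.center G))).Normal :=
    hAn.map _ (QuotientGroup.mk'_surjective _)
  have hmemA := mem_map_mk_iff (Cz(x)) (center_le_Cz x)
  have hmemH := mem_map_mk_iff (Cz(y)) (center_le_Cz y)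
  have hπ1 : ∀ g : G, (QuotientGroup.mk' (Subgroup.center G)) g = 1 ↔ g ∈ Subgroup.center G :=
    fun g => QuotientGroup.eq_one_iff g
  have hsurj := QuotientGroup.mk'_surjective (Subgroup.center G)
  have hm1 : 1 < m := lt_trans h.hn h.hmn
  have hynz : y ∉ Subgroup.center G := by
    intro hzz
    rw [← index_Cz_eq_one_iff, hy] at hzz
    omega
  have hTbot : (Cz(y)).map (QuotientGroup.mk' (Subgroup.center G)) ≠ ⊥ := by
    intro e
    have h1 : (QuotientGroup.mk' (Subgroup.center G)) y ∈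
        (Cz(y)).map (QuotientGroup.mk' (Subgroup.center G)) :=
      Subgroup.mem_map_of_mem _ (self_mem_Cz y)
    rw [e, Subgroup.mem_bot, hπ1] at h1
    exact hynz h1
  have hTtop : (Cz(y)).map (QuotientGroup.mk' (Subgroup.center G)) ≠ ⊤ := by
    intro e
    have h1 : (QuotientGroup.mk' (Subgroup.center G)) x ∈
        (Cz(y)).map (QuotientGroup.mk' (Subgroup.center G)) := by rw [e]; trivial
    rw [hmemH] at h1
    exact h.not_commute hx hy hy hx (mem_Cz.1 h1).symm
  have hdisj : ∀ q, q ∈ (Cz(x)).map (QuotientGroup.mk' (Subgroup.center G)) →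
      q ∈ (Cz(y)).map (QuotientGroup.mk' (Subgroup.center G)) → q = 1 := by
    intro q hq1 hq2
    obtain ⟨g, rfl⟩ := hsurj q
    rw [hmemA] at hq1
    rw [hmemH] at hq2
    exact (hπ1 g).2 (h.inf_le_center hx hy hx hy (Subgroup.mem_inf.2 ⟨hq1, hq2⟩))
  have hsup : Cz(x) ⊔ Cz(y) = ⊤ := by
    rw [← Subgroup.index_eq_one]
    have d1 : (Cz(x) ⊔ Cz(y)).index ∣ n := hx ▸ Subgroup.index_dvd_of_le le_sup_left
    have d2 : (Cz(x) ⊔ Cz(y)).index ∣ m := hy ▸ Subgroup.index_dvd_of_le le_sup_right
    exact Nat.eq_one_of_dvd_coprimes h.hcop d2 d1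
  have hdecomp : ∀ q : G ⧸ Subgroup.center G,
      ∃ n' ∈ (Cz(x)).map (QuotientGroup.mk' (Subgroup.center G)),
      ∃ t' ∈ (Cz(y)).map (QuotientGroup.mk' (Subgroup.center G)), q = n' * t' := by
    intro q
    obtain ⟨g, rfl⟩ := hsurj q
    have h1 : g ∈ ((Cz(x) ⊔ Cz(y) : Subgroup G) : Set G) := by rw [hsup]; trivial
    rw [Subgroup.normal_mul] at h1
    obtain ⟨a, ha, b, hb, e⟩ := Set.mem_mul.1 h1
    refine ⟨_, Subgroup.mem_map_of_mem _ ha, _, Subgroup.mem_map_of_mem _ hb, ?_⟩
    rw [← map_mul, e]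
  have hF : ∀ n' ∈ (Cz(x)).map (QuotientGroup.mk' (Subgroup.center G)), n' ≠ 1 →
      ∀ q : G ⧸ Subgroup.center G, n' * q = q * n' →
        q ∈ (Cz(x)).map (QuotientGroup.mk' (Subgroup.center G)) := by
    intro n' hn' hn1 q hq
    obtain ⟨a, rfl⟩ := hsurj n'
    obtain ⟨g, rfl⟩ := hsurj q
    rw [hmemA] at hn' ⊢
    have haz : a ∉ Subgroup.center G := fun hzz => hn1 ((hπ1 a).2 hzz)
    rw [← map_mul, ← map_mul] at hq
    obtain ⟨z, hz, e⟩ := (QuotientGroup.mk'_eq_mk' _).1 hq
    have hzc : ∀ w : G, w * z = z * w := Subgroup.mem_center_iff.1 hz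
    have hga : g * a * g⁻¹ = a * z := by
      rw [← e]
      calc a * g * z * g⁻¹ = a * (g * z) * g⁻¹ := by group
        _ = a * (z * g) * g⁻¹ := by rw [hzc g]
        _ = a * z := by group
    have haM : a ^ m ∈ Subgroup.center G :=
      pow_mem_center_of_card (Cz(x)) (center_le_Cz x) (h.card_Cz_S hx hy hx) hn'
    have hgN : g ^ n * a = a * g ^ n := by
      have h1 : g ^ (Cz(x)).index ∈ Cz(x) := Subgroup.pow_index_mem _ g
      rw [hx] at h1
      exact hAcomm _ h1 _ hn'
    have hz1 : z = 1 := central_commutator_trivial hz hga haM hgN h.hcop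
    rw [hz1, mul_one] at hga
    have : g ∈ Cz(a) := by
      rw [mem_Cz]
      calc g * a = g * a * g⁻¹ * g := by group
        _ = a * g := by rw [hga]
    rw [h.Cz_S_eq hx hy hx hn' haz] at this
    exact this
  have hfrob := frobenius_of_normal_complement _ _ hTbot hTtop hdisj hdecomp hF
  -- the complement is abelian
  have hHcomm : ∀ u ∈ Cz(y), ∀ v ∈ Cz(y), u * v = v * u := by
    intro u hu v hv
    by_cases huz : u ∈ Subgroup.center G
    · exact (Subgroup.mem_center_iff.1 huz v).symm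
    have hle : Cz(u) ≤ Cz(y) := by
      intro c hc
      by_contra hcy
      have hcT : (QuotientGroup.mk' (Subgroup.center G)) c ∉
          (Cz(y)).map (QuotientGroup.mk' (Subgroup.center G)) := by
        rw [hmemH]; exact hcy
      have hTI := hfrob.1.2.2 _ hcT
      have h1 : (QuotientGroup.mk' (Subgroup.center G)) u ∈
          (Cz(y)).map (QuotientGroup.mk' (Subgroup.center G)) ⊓
          MulAut.conj ((QuotientGroup.mk' (Subgroup.center G)) c) •
            (Cz(y)).map (QuotientGroup.mk' (Subgroup.center G)) := by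
        refine Subgroup.mem_inf.2 ⟨(hmemH u).2 hu, ?_⟩
        rw [Cfsg.Agent.Lib.Helper77.mem_conj_smul_iff, ← map_inv, ← map_mul, ← map_mul, hmemH]
        have hcu : c * u = u * c := mem_Cz.1 hc
        have : c⁻¹ * u * c = u := by
          calc c⁻¹ * u * c = c⁻¹ * (u * c) := by group
            _ = c⁻¹ * (c * u) := by rw [hcu]
            _ = u := by group
        rw [this]; exact hu
      rw [hTI, Subgroup.mem_bot, hπ1] at h1
      exact huz h1
    have e := h.rigidM hy hle
    have hvu : v ∈ Cz(u) := by rw [e]; exact hv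
    exact (mem_Cz.1 hvu).symm
  refine ⟨⟨⟨fun u v => Subtype.ext (hAcomm u u.2 v v.2)⟩⟩,
    ⟨⟨fun u v => Subtype.ext (hHcomm u u.2 v v.2)⟩⟩, hfrob.1, hfrob.2⟩

end frob

end Cfsg.Agent.Lib.Helper73
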