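import Mathlib
-- hub imports
import Cfsg.Agent.Lib.Helper14.CPC
import Cfsg.Agent.Lib.Helper14.CPB
import Cfsg.Agent.Lib.Helper96.CPE
import Cfsg.Agent.Lib.Helper64.CPA

set_option autoImplicit false

/-!
# SPEC of the mini-pack K-CP (S2272, 3 units): product of two nontrivial classes of PSL_d(F), d ≥ 3, is not a class

Deliver leaf `X` as `Cfsg/Agent/Lib/HelperNN/CP<X>.lean`, namespace `Cfsg.Agent.Lib.HelperNN.CP`, same theorem
names and EXACT signatures (check `example : @spec = @mine := rfl` against a verbatim copy). Imports: Mathlib only.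

THE PROOF (paper). Lifts `A, B ∈ SL_d(F)` of `a, b` are non-scalar. Pick `v` with `A v ∉ F v` (leaf A) and
`P ∈ SL_d` with `P e₀ = v`, `P e₂ = A v` (leaf B, needs `d ≥ 3`): `A' = P⁻¹ A P` has `A' e₀ = e₂`. Likewise
`B' = Q⁻¹ B Q` with `B' e₀ = e₁`. With `k = 1 + r E₀₂`, `B'' = k⁻¹ B' k` still has `B'' e₀ = e₁` and
`B''₁₂ = B'₁₂ + r`. With `g = 1 + s E₀₁`: `tr(g A' g⁻¹ B'') = tr(A'B'') + s ((A'B'')₁₀ - (B''A')₁₀) - s² A'₁₀ B''₁₀`
(leaf C) `= τ + s (A'₁₁ - B'₁₂ - r)`. So the products of conjugates take EVERY trace (leaf C, second theorem).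
Trace zero / non-zero is invariant under conjugation and under multiplication by scalar matrices, hence
an invariant of `PSL_d`-classes (leaf E). Two products of conjugates with traces `0` and `1` are not conjugate in
`PSL_d`, so one of them is not conjugate to `a b`.
-/

namespace Cfsg.Agent.Lib.Helper73.CPSpec

open Matrix

variable {F : Type*} [Field F] {d : ℕ}

/-! ## LEAF A (EASY ~50 lines): a non-scalar matrix moves some line

If every `v` were an eigenvector: `M e_i = r_i e_i`, and `e_i + e_j` eigenvector forces `r_i = r_j`, so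
`M = scalar r` (`d = 0`: every matrix is `scalar 0`). -/

theorem exists_linearIndependent_mulVec (M : Matrix (Fin d) (Fin d) F)
    (hM : ∀ r : F, M ≠ Matrix.scalar (Fin d) r) :
    ∃ v : Fin d → F, LinearIndependent F ![v, M *ᵥ v] :=
  Cfsg.Agent.Lib.Helper64.CP.exists_linearIndependent_mulVec M hM

/-! ## LEAF B (MEDIUM ~100 lines): `SL_d`, `d ≥ 3`, sends two given basis vectors to any independent pair

Extend `v, w` to a basis (`exists_linearIndependent_extension` / `Basis.extend` /
`LinearIndependent.exists... ` / `Basis.mkFinCons`...), index it by `Fin d` with `v` at `i` and `w` at `j`; the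
matrix `P₀` with these columns is invertible; rescale a third column (`d ≥ 3`) by `(det P₀)⁻¹` to get `det = 1`.
Any other route is fine (e.g. products of transvections). -/

theorem exists_sl_mulVec_single (hd : 3 ≤ d) (i j : Fin d) (hij : i ≠ j) (v w : Fin d → F)
    (h : LinearIndependent F ![v, w]) :
    ∃ P : SpecialLinearGroup (Fin d) F,
      (P : Matrix (Fin d) (Fin d) F) *ᵥ Pi.single i 1 = v ∧
      (P : Matrix (Fin d) (Fin d) F) *ᵥ Pi.single j 1 = w :=
  Cfsg.Agent.Lib.Helper14.CP.exists_sl_mulVec_single hd i j hij v w h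

/-! ## LEAF C (EASY-MEDIUM ~80 lines): the trace along a transvection family -/

theorem trace_conj_single (A B : Matrix (Fin d) (Fin d) F) (i j : Fin d) (hij : i ≠ j) (s : F) :
    Matrix.trace ((1 + Matrix.single i j s) * A * (1 - Matrix.single i j s) * B) =
      Matrix.trace (A * B) + s * ((A * B) j i - (B * A) j i) - s ^ 2 * (A j i * B j i) :=
  Cfsg.Agent.Lib.Helper14.CP.trace_conj_single A B i j hij s

/-- normal form: `A e_{i0} = e_{i2}`, `B e_{i0} = e_{i1}`: every trace is reached -/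
theorem exists_trace_eq (A B : Matrix (Fin d) (Fin d) F) (i0 i1 i2 : Fin d) (h01 : i0 ≠ i1)
    (h02 : i0 ≠ i2) (h12 : i1 ≠ i2)
    (hA : A *ᵥ Pi.single i0 1 = Pi.single i2 1) (hB : B *ᵥ Pi.single i0 1 = Pi.single i1 1) (t : F) :
    ∃ r s : F, Matrix.trace ((1 + Matrix.single i0 i1 s) * A * (1 - Matrix.single i0 i1 s) *
      ((1 - Matrix.single i0 i2 r) * B * (1 + Matrix.single i0 i2 r))) = t :=
  Cfsg.Agent.Lib.Helper14.CP.exists_trace_eq A B i0 i1 i2 h01 h02 h12 hA hB t

/-! ## LEAF E (EASY-MEDIUM ~80 lines): trace zero is a class invariant of `PSL_d`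

`PSL = SL ⧸ center`; `IsConj (mk X) (mk Y)` gives `k` with `mk (k X k⁻¹) = mk Y`, i.e.
`(k X k⁻¹)⁻¹ Y ∈ center`, a scalar matrix (`Matrix.SpecialLinearGroup.mem_center_iff`), so
`tr Y = r * tr (k X k⁻¹) = r * tr X`. -/

theorem not_isConj_of_trace (X Y : SpecialLinearGroup (Fin d) F)
    (hX : Matrix.trace (X : Matrix (Fin d) (Fin d) F) = 0)
    (hY : Matrix.trace (Y : Matrix (Fin d) (Fin d) F) ≠ 0) :
    ¬ IsConj (QuotientGroup.mk X : Matrix.ProjectiveSpecialLinearGroup (Fin d) F)
      (QuotientGroup.mk Y) :=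
  Cfsg.Agent.Lib.Helper96.CP.not_isConj_of_trace X Y hX hY

/-- a non-identity element of `PSL_d` has a non-scalar lift -/
theorem exists_lift_not_scalar (a : Matrix.ProjectiveSpecialLinearGroup (Fin d) F) (ha : a ≠ 1) :
    ∃ A : SpecialLinearGroup (Fin d) F, (QuotientGroup.mk A : Matrix.ProjectiveSpecialLinearGroup (Fin d) F) = a ∧
      ∀ r : F, (A : Matrix (Fin d) (Fin d) F) ≠ Matrix.scalar (Fin d) r :=
  Cfsg.Agent.Lib.Helper96.CP.exists_lift_not_scalar a ha

end Cfsg.Agent.Lib.Helper73.CPSpec
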