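import Mathlib
import Cfsg.Agent.Lib.Helper74.CR2Defs

/-!
# S4284 main case (keystone K-S4284-A): the intermediate structure splitting steps 0-3 / 4-6
-/

set_option autoImplicit false

namespace Cfsg.Agent.Lib.Helper73.CR2

open Subgroup

/-- Output of steps 0-3 of the main case of S4284 (`m = p ^ a`, some noncentral `p`-element has
index `m`): `D` is the normal `p`-complement (abelian), `W` the normal abelian `p`-subgroup,
`M = W ⊔ D` is the set of elements of index `1` or `m` (abelian, of index `m`), every `p`-element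
outside `W` centralizes only central elements of `D`, and `|D : D ∩ Z(G)| = n`. -/
structure MainData {G : Type*} [Group G] (m n p : ℕ) (D W : Subgroup G) : Prop where
  dn : D.Normal
  wn : W.Normal
  dcop : (Nat.card D).Coprime p
  didx : ∃ b : ℕ, D.index = p ^ b
  wp : IsPGroup p W
  dcomm : ∀ x ∈ D, ∀ y ∈ D, x * y = y * x
  wcomm : ∀ x ∈ W, ∀ y ∈ W, x * y = y * x
  wd : ∀ w ∈ W, ∀ d ∈ D, w * d = d * w
  carrier : ((W ⊔ D : Subgroup G) : Set G) =
    {x : G | (centralizer ({x} : Set G)).index = 1 ∨ (centralizer ({x} : Set G)).index = m}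
  idx : (W ⊔ D).index = m
  free : ∀ t : G, (∃ k : ℕ, orderOf t = p ^ k) → t ∉ W → ∀ d ∈ D, d * t = t * d → d ∈ center G
  card : Nat.card D = n * Nat.card (D ⊓ center G : Subgroup G)

end Cfsg.Agent.Lib.Helper73.CR2
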