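import Mathlib
import Cfsg.Agent.Lib.Helper73.CT4Basic

set_option autoImplicit false
set_option linter.unusedSectionVars false
set_option linter.unusedVariables false

/-!
S4146, step KD2: the normal subgroup `F` attached to a primary element `y` of class size `m`
which does not centralize `T = {g : class size of g divides n}`.
-/

namespace Cfsg.Agent.Lib.Helper73.CT4

open Cfsg.Agent.Lib.Helper73

variable {G : Type*} [Group G] {n m : ℕ}

local notation "Cz(" x ")" => Subgroup.centralizer ({x} : Set G)

/-- conjugates of commuting elements of class sizes `n`, `m` commute: special form. -/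
theorem Hyp.commute_of_conj [Finite G] (H : Hyp G n m) {u y : G} (hu : (Cz(u)).index = n)
    (hy : (Cz(y)).index = m) (c d : G) (h : Commute (c * u * c⁻¹) (d * y * d⁻¹)) : Commute u y := by
  have hcop : (Cz(c * u * c⁻¹)).index.Coprime (Cz(d * y * d⁻¹)).index := by
    rw [index_Cz_conj, index_Cz_conj, hu, hy]; exact H.cop
  have := commute_conj_of_coprime hcop h c⁻¹ d⁻¹
  simpa [mul_assoc] using this

/-- KD2 -/
theorem exists_F [Finite G] (H : Hyp G n m) (hlt : n < m) (hN : ¬ Good G n)
    (T : Subgroup G) [T.Normal]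
    (hT : ∀ g : G, g ∈ T ↔
      ((Subgroup.centralizer ({g} : Set G)).index = 1 ∨ (Subgroup.centralizer ({g} : Set G)).index = n))
    (y : G) (s k : ℕ) (hs : s.Prime) (hsn : s ∣ n) (hy : orderOf y = s ^ k)
    (hym : (Subgroup.centralizer ({y} : Set G)).index = m)
    (x₀ : G) (hx₀ : x₀ ∈ T) (hx₀y : ¬ Commute x₀ y) :
    ∃ F : Subgroup G, F.Normal ∧ F ≤ T ∧ Nat.card F ∣ m ∧ F ≠ ⊥ ∧
      (∀ f ∈ F, Commute f y → f = 1) ∧
      (∀ x ∈ T, x * (y * x * y⁻¹)⁻¹ ∈ F) ∧
      (∀ x ∈ T, Commute x y → x ∈ Subgroup.center G) := by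
  classical
  -- elements of `T` not commuting with `y` have class size `n`
  have hTn : ∀ x ∈ T, ¬ Commute x y → (Cz(x)).index = n := by
    intro x hx hxy
    rcases (hT x).1 hx with h | h
    · exfalso
      apply hxy
      have hc := (index_Cz_eq_one_iff x).1 h
      exact (Subgroup.mem_center_iff.1 hc y).symm
    · exact h
  let P : G → Prop := fun u => (Cz(u)).index = n ∧ ¬ Commute u y
  have hPconj : ∀ u h : G, P u → P (h * u * h⁻¹) := by
    rintro u h ⟨hu1, hu2⟩
    refine ⟨by rw [index_Cz_conj]; exact hu1, ?_⟩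
    intro hc
    apply hu2
    have : Commute (h * u * h⁻¹) (1 * y * 1⁻¹) := by simpa using hc
    exact H.commute_of_conj hu1 hym h 1 this
  have hFn : (commSub P).Normal := commSub_normal P hPconj
  -- stability of the class of `y`
  have hstab : ∀ k ∈ commSub P, ∀ w : G, IsConj y w → IsConj y (w * k) := by
    apply isConj_mul_of_mem_commSub y
    rintro w hw u g ⟨hu1, hu2⟩
    have hwm : (Cz(w)).index = m := by rw [index_Cz_of_isConj hw]; exact hym
    have hcop : (Cz(w)).index.Coprime (Cz(u)).index := by rw [hwm, hu1]; exact H.cop.symm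
    apply isConj_mul_commutator hcop
    -- `u` and `w` do not commute
    have huw : ¬ Commute u w := by
      intro hc
      obtain ⟨c, hc'⟩ := isConj_iff.1 hw
      apply hu2
      have : Commute (1 * u * 1⁻¹) (c * y * c⁻¹) := by
        rw [hc']; simpa using hc
      exact H.commute_of_conj hu1 hym 1 c this
    have h1 : (Cz(u * w)).index ≠ n * m := H.idx_mul_ne hu1 hwm huw
    have h2 : (Cz(w)).index ≤ (Cz(u * w)).index := index_le_index_mul hcop.symm
    have h3 : (Cz(w * u)).index = (Cz(u * w)).index := by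
      have : w * u = w * (u * w) * w⁻¹ := by group
      rw [this, index_Cz_conj]
    rw [h3, hwm]
    rw [hwm] at h2
    rcases H.idx_cases (u * w) with h | h | h | h
    · rw [h] at h2; have := H.hm; omega
    · rw [h] at h2; omega
    · exact h.le
    · exact absurd h h1
  -- order of `F`
  have hcard : Nat.card (commSub P) ∣ m := by
    have h1 := card_dvd_of_mul_stable (commSub P) {w : G | IsConj y w}
      (fun w hw k hk => hstab k hk w hw)
    have h2 : Nat.card ({w : G | IsConj y w} : Set G) = m := by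
      rw [← hym, index_Cz_eq_card_conj]
      rfl
    rwa [h2] at h1
  -- `F ≤ T`
  have hFT : commSub P ≤ T := by
    unfold commSub
    rw [Subgroup.closure_le]
    rintro k ⟨u, g, ⟨hu1, _⟩, rfl⟩
    have huT : u ∈ T := (hT u).2 (Or.inr hu1)
    exact T.mul_mem huT (T.inv_mem (Subgroup.Normal.conj_mem inferInstance u huT g))
  -- fixed points
  have hfix : ∀ f ∈ commSub P, Commute f y → f = 1 := by
    intro f hf hfy
    have h1 : IsConj y (y * f) := hstab f hf y (IsConj.refl y)
    have h2 : orderOf (y * f) = orderOf y := by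
      obtain ⟨c, hc⟩ := isConj_iff.1 h1
      rw [← hc]
      exact Cfsg.Agent.S4127.orderOf_conj' c y
    have hfo : orderOf f ∣ m := by
      have : orderOf f ∣ Nat.card (commSub P) := by
        have := orderOf_dvd_natCard (⟨f, hf⟩ : commSub P)
        rwa [Subgroup.orderOf_mk] at this
      exact this.trans hcard
    have hcop : (orderOf y).Coprime (orderOf f) := by
      rw [hy]
      apply Nat.Coprime.pow_left
      apply Nat.Coprime.coprime_dvd_right hfo
      exact Nat.Coprime.coprime_dvd_left hsn H.cop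
    have h3 := hfy.symm.orderOf_mul_eq_mul_orderOf_of_coprime hcop
    rw [h2] at h3
    have hpos : 0 < orderOf y := orderOf_pos y
    have : orderOf f = 1 := by
      have : orderOf y * 1 = orderOf y * orderOf f := by rw [mul_one]; exact h3
      exact (Nat.eq_of_mul_eq_mul_left hpos this).symm
    exact orderOf_eq_one_iff.1 this
  -- theta
  have hθ : ∀ x ∈ T, x * (y * x * y⁻¹)⁻¹ ∈ commSub P := by
    intro x hx
    by_cases hxy : Commute x y
    · have : y * x * y⁻¹ = x := by
        rw [← hxy.eq]; group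
      rw [this, mul_inv_cancel]
      exact (commSub P).one_mem
    · exact mem_commSub (P := P) ⟨hTn x hx hxy, hxy⟩ y
  -- the element `e`
  obtain ⟨e, he⟩ : ∃ e, e = x₀ * (y * x₀ * y⁻¹)⁻¹ := ⟨_, rfl⟩
  have heF : e ∈ commSub P := he ▸ hθ x₀ hx₀
  have he1 : e ≠ 1 := by
    intro h
    rw [he, mul_inv_eq_one] at h
    apply hx₀y
    show x₀ * y = y * x₀
    calc x₀ * y = (y * x₀ * y⁻¹) * y := by rw [← h]
      _ = y * x₀ := by group
  have hey : ¬ Commute e y := fun h => he1 (hfix e heF h)
  have heT : e ∈ T := hFT heF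
  have hen : (Cz(e)).index = n := hTn e heT hey
  refine ⟨commSub P, hFn, hFT, hcard, ?_, hfix, hθ, ?_⟩
  · intro hbot
    apply he1
    have : e ∈ (⊥ : Subgroup G) := hbot ▸ heF
    exact Subgroup.mem_bot.1 this
  · intro x' hx' hx'y
    by_contra hx'Z
    have hx'n : (Cz(x')).index = n := by
      rcases (hT x').1 hx' with h | h
      · exact absurd ((index_Cz_eq_one_iff x').1 h) hx'Z
      · exact h
    have hle : Cz(e * x') ≤ Cz(e) ⊓ Cz(x') := by
      intro g hg
      have hg' : g * (e * x') = e * x' * g := mem_Cz.1 hg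
      have h1 : (g * e * g⁻¹) * (g * x' * g⁻¹) = e * x' := by
        calc (g * e * g⁻¹) * (g * x' * g⁻¹) = g * (e * x') * g⁻¹ := by group
          _ = e * x' * g * g⁻¹ := by rw [hg']
          _ = e * x' := by group
      obtain ⟨κ, hκ⟩ : ∃ κ, κ = e⁻¹ * (g * e * g⁻¹) := ⟨_, rfl⟩
      have hκ2 : κ = x' * (g * x' * g⁻¹)⁻¹ := by
        rw [hκ]
        calc e⁻¹ * (g * e * g⁻¹) = e⁻¹ * ((g * e * g⁻¹) * (g * x' * g⁻¹)) * (g * x' * g⁻¹)⁻¹ := by
              group
          _ = e⁻¹ * (e * x') * (g * x' * g⁻¹)⁻¹ := by rw [h1]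
          _ = x' * (g * x' * g⁻¹)⁻¹ := by group
      have hκF : κ ∈ commSub P := by
        rw [hκ]
        exact (commSub P).mul_mem ((commSub P).inv_mem heF) (hFn.conj_mem e heF g)
      have hκy : Commute κ y := by
        rw [hκ2]
        have hcop : (Cz(x')).index.Coprime (Cz(y)).index := by rw [hx'n, hym]; exact H.cop
        have h2 : Commute (g * x' * g⁻¹) (1 * y * 1⁻¹) := commute_conj_of_coprime hcop hx'y g 1
        have h3 : Commute (g * x' * g⁻¹) y := by simpa using h2
        exact hx'y.mul_left h3.inv_left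
      have hκ1 : κ = 1 := hfix κ hκF hκy
      refine Subgroup.mem_inf.2 ⟨mem_Cz.2 ?_, mem_Cz.2 ?_⟩
      · rw [hκ] at hκ1
        have : g * e * g⁻¹ = e := by
          calc g * e * g⁻¹ = e * (e⁻¹ * (g * e * g⁻¹)) := by group
            _ = e := by rw [hκ1, mul_one]
        calc g * e = (g * e * g⁻¹) * g := by group
          _ = e * g := by rw [this]
      · rw [hκ2] at hκ1
        have : g * x' * g⁻¹ = x' := by
          have := mul_inv_eq_one.1 hκ1
          exact this.symm
        calc g * x' = (g * x' * g⁻¹) * g := by group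
          _ = x' * g := by rw [this]
    have hex'T : e * x' ∈ T := T.mul_mem heT hx'
    have hd : n ∣ (Cz(e * x')).index := hen ▸ Subgroup.index_dvd_of_le (hle.trans inf_le_left)
    have hex'n : (Cz(e * x')).index = n := by
      rcases (hT _).1 hex'T with h | h
      · rw [h] at hd
        have := Nat.le_of_dvd Nat.one_pos hd
        have := H.hn
        omega
      · exact h
    have h1 : Cz(e * x') = Cz(e) :=
      eq_of_le_of_index_eq (hle.trans inf_le_left) (by rw [hex'n, hen])
    have h2 : Cz(e * x') = Cz(x') :=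
      eq_of_le_of_index_eq (hle.trans inf_le_right) (by rw [hex'n, hx'n])
    have hy' : y ∈ Cz(x') := mem_Cz.2 hx'y.eq.symm
    rw [← h2, h1] at hy'
    exact hey (mem_Cz.1 hy' : y * e = e * y).symm

end Cfsg.Agent.Lib.Helper73.CT4
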