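import Mathlib
import Cfsg.Agent.Lib.Helper73.CT4F
import Cfsg.Agent.Lib.Helper14.CT4D1
import Cfsg.Agent.Lib.Helper18.CT4BB2
import Cfsg.Agent.Lib.Helper59.CT4BB1
import Cfsg.Agent.Lib.Helper66.CT4Mixed
import Cfsg.Agent.Lib.Helper04.CT4Good

set_option autoImplicit false
set_option linter.unusedSectionVars false

/-!
S4146: assembly of the keystones.
-/

namespace Cfsg.Agent.Lib.Helper73.CT4

open Cfsg.Agent.Lib.Helper73

variable {G : Type*} [Group G] {n m : ℕ}

local notation "Cz(" x ")" => Subgroup.centralizer ({x} : Set G)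

/-- KD: when `n < m` there is a good element for `n` or for `m`. -/
theorem good_of_lt [Finite G] (H : Hyp G n m) (hlt : n < m) : Good G n ∨ Good G m := by
  by_contra hcon
  rw [not_or] at hcon
  obtain ⟨hN, hM⟩ := hcon
  obtain ⟨T, hTn, hT⟩ := Cfsg.Agent.Lib.Helper14.CT4.exists_TN H hlt
  have : T.Normal := hTn
  by_cases hall : ∀ y : G, (Cz(y)).index = m → ∀ x ∈ T, Commute x y
  · exact Cfsg.Agent.Lib.Helper18.CT4.bb2_false H hlt hN T hT hall
  · push Not at hall
    obtain ⟨y, hym, x₀, hx₀, hx₀y⟩ := hall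
    obtain ⟨u, hu, s, k, hs, huo, hum, huC⟩ := H.symm.exists_primary hym
    have hx₀u : ¬ Commute x₀ u := by
      intro hc
      apply hx₀y
      have h1 : x₀ ∈ Cz(u) := mem_Cz.2 hc.eq
      rw [huC] at h1
      exact (mem_Cz.1 h1 : x₀ * y = y * x₀)
    have hsn : s ∣ n := by
      by_contra hsn
      by_cases hsm : s ∣ m
      · exact hM ⟨u, s, k, hs, hsm, huo, hum⟩
      · have hc : u ∈ Subgroup.center G := H.central_of_not_dvd hs huo (by
          intro h
          rcases (Nat.Prime.dvd_mul hs).1 h with h | h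
          · exact hsn h
          · exact hsm h)
        rw [← index_Cz_eq_one_iff, hum] at hc
        have := H.hm
        omega
    obtain ⟨F, hFn, hFT, hFm, hF1, hfix, hθ, hcen⟩ :=
      exists_F H hlt hN T hT u s k hs hsn huo hum x₀ hx₀ hx₀u
    have : F.Normal := hFn
    exact Cfsg.Agent.Lib.Helper59.CT4.bb1_false H hlt hN hM T hT (Cfsg.Agent.Lib.Helper14.CT4.TN_comm H hlt hN T hT).1 u s k hs hsn huo hum F hFT hFm hF1
      hfix hθ hcen

/-- S4146 -/
theorem main [Finite G] (n m : ℕ) (hn : 1 < n) (hm : 1 < m) (hcop : n.Coprime m)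
    (h : Set.range (fun x : G => (Subgroup.centralizer ({x} : Set G)).index) =
      ({1, n, m, n * m} : Set ℕ)) :
    Group.IsNilpotent G ∧ IsPrimePow n ∧ IsPrimePow m := by
  have H : Hyp G n m := ⟨hn, hm, hcop, h⟩
  have hne : n ≠ m := by
    intro e
    subst e
    have := (Nat.coprime_self n).1 hcop
    omega
  have key : ∀ {a b : ℕ} (H' : Hyp G a b), a < b → Good G a ∧ Good G b := by
    intro a b H' hlt
    rcases good_of_lt H' hlt with h | h
    · refine ⟨h, ?_⟩
      by_contra hb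
      exact (Cfsg.Agent.Lib.Helper66.CT4.not_good_of_not_good H'.symm hb) h
    · refine ⟨?_, h⟩
      by_contra ha
      exact (Cfsg.Agent.Lib.Helper66.CT4.not_good_of_not_good H' ha) h
  rcases lt_or_gt_of_ne hne with hlt | hgt
  · obtain ⟨hN, hM⟩ := key H hlt
    exact Cfsg.Agent.Lib.Helper04.CT4.concl_of_good H hN hM
  · obtain ⟨hM, hN⟩ := key H.symm hgt
    exact Cfsg.Agent.Lib.Helper04.CT4.concl_of_good H hN hM

end Cfsg.Agent.Lib.Helper73.CT4
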