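import Mathlib
import Cfsg.Prelude.Def_Solvable
import Cfsg.Agent.Lib.Helper72.G42Defs
import Cfsg.Agent.Lib.Helper62.Small120
import Cfsg.Agent.Lib.Helper84.G42L4
import Cfsg.Agent.S0494

/-!
# K-G42 pack (S2553), leaf 255307 L6 `case6` (helper73, parallel hand)

Route: every NONSOLVABLE subgroup `H` of `Perm (Fin 6)` is isomorphic to `A_6`, `S_6`, `A_5` or `S_5`
(`l6_nonsolvable_subgroup`).  If `A_6 ≤ H` this is clear.  Otherwise `H ⊓ A_6` is a proper subgroup of the
simple group `A_6`, so it has index `≥ 6` and order `≤ 60`; it is not solvable, so its order is `60` and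
`|H| ∈ {60, 120}`.  Order `60`: simple, hence `A_5` (S0494).  Order `120`: `S_6` acts faithfully on the `6`
cosets of `H` (the normal core has order `≤ 120`, so it does not contain `A_6`, so it is trivial), and `H`,
the stabilizer of a coset, acts faithfully on the other `5` cosets: `H ≅ S_5` by orders.
Then `K` is transported to `Perm (Fin 6)` with `faithful_on` (L4).
-/

set_option autoImplicit false

namespace Cfsg.Agent.Lib.Helper73.G42

open Equiv Cfsg.Agent.Lib.Helper72.G42

/-- a permutation of `Fin 6` commuting with everything is trivial -/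
theorem l6_central_eq_one (r : Perm (Fin 6)) (h : ∀ g : Perm (Fin 6), g * r * g⁻¹ = r) : r = 1 := by
  refine Equiv.ext fun x => ?_
  rw [Perm.one_apply]
  by_contra hx
  have hex : ∀ a b : Fin 6, ∃ z : Fin 6, z ≠ a ∧ z ≠ b := by decide
  obtain ⟨z, hz1, hz2⟩ := hex x (r x)
  have h1 := congrArg (fun f : Perm (Fin 6) => f x) (h (swap (r x) z))
  simp only [Perm.mul_apply, swap_inv] at h1
  rw [swap_apply_of_ne_of_ne (fun h' => hx h'.symm) (fun h' => hz1 h'.symm), swap_apply_left] at h1
  exact hz2 h1

/-- a normal subgroup of `S_6` not containing `A_6` is trivial -/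
theorem l6_normal_eq_bot (R : Subgroup (Perm (Fin 6))) [hR : R.Normal]
    (hA : ¬ alternatingGroup (Fin 6) ≤ R) : R = ⊥ := by
  have hsimple : IsSimpleGroup (alternatingGroup (Fin 6)) :=
    alternatingGroup.isSimpleGroup (by simp)
  have hn : (R.subgroupOf (alternatingGroup (Fin 6))).Normal := inferInstance
  rcases hn.eq_bot_or_eq_top with h | h
  · rw [Subgroup.eq_bot_iff_forall]
    intro r hr
    apply l6_central_eq_one
    intro g
    have h1 : r⁻¹ * (g * r * g⁻¹) ∈ R := R.mul_mem (R.inv_mem hr) (hR.conj_mem r hr g)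
    have h2 : r⁻¹ * (g * r * g⁻¹) ∈ alternatingGroup (Fin 6) := by
      rw [Equiv.Perm.mem_alternatingGroup, map_mul, map_mul, map_mul, map_inv, map_inv,
        mul_right_comm (Perm.sign g), mul_inv_cancel, one_mul, inv_mul_cancel]
    have h3 : (⟨_, h2⟩ : alternatingGroup (Fin 6)) ∈ R.subgroupOf (alternatingGroup (Fin 6)) := by
      rw [Subgroup.mem_subgroupOf]
      exact h1
    rw [h, Subgroup.mem_bot] at h3
    have h4 : r⁻¹ * (g * r * g⁻¹) = 1 := congrArg Subtype.val h3
    calc g * r * g⁻¹ = r * (r⁻¹ * (g * r * g⁻¹)) := by group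
      _ = r := by rw [h4, mul_one]
  · exfalso
    apply hA
    intro a ha
    have h1 : (⟨a, ha⟩ : alternatingGroup (Fin 6)) ∈ R.subgroupOf (alternatingGroup (Fin 6)) := by
      rw [h]
      trivial
    exact Subgroup.mem_subgroupOf.mp h1

/-- a proper subgroup of `A_6` has index at least `6` -/
theorem l6_six_le_index (M : Subgroup (alternatingGroup (Fin 6))) (hM : M ≠ ⊤) : 6 ≤ M.index := by
  classical
  have hsimple : IsSimpleGroup (alternatingGroup (Fin 6)) :=
    alternatingGroup.isSimpleGroup (by simp)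
  let φ := MulAction.toPermHom (alternatingGroup (Fin 6)) (alternatingGroup (Fin 6) ⧸ M)
  have hker : φ.ker = ⊥ := by
    have hn : φ.ker.Normal := inferInstance
    rcases hn.eq_bot_or_eq_top with h | h
    · exact h
    · exfalso
      apply hM
      have h1 : M.normalCore = ⊤ := by rw [Subgroup.normalCore_eq_ker]; exact h
      exact top_le_iff.mp (h1 ▸ Subgroup.normalCore_le M)
  have hinj : Function.Injective φ := (MonoidHom.ker_eq_bot_iff φ).mp hker
  have hcard := Nat.card_le_card_of_injective φ hinj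
  rw [Cfsg.Agent.Lib.Helper62.Small120.card_A6] at hcard
  let _inst1 : Fintype (alternatingGroup (Fin 6) ⧸ M) := Fintype.ofFinite _
  rw [Nat.card_eq_fintype_card, Fintype.card_perm, ← Nat.card_eq_fintype_card,
    ← Subgroup.index_eq_card] at hcard
  by_contra hlt
  have h5 : M.index ≤ 5 := by omega
  have h6 : (M.index).factorial ≤ (5 : ℕ).factorial := Nat.factorial_le h5
  have h7 : (5 : ℕ).factorial = 120 := by decide
  omega

/-- a subgroup of `S_6` of order `120` is isomorphic to `S_5` -/
theorem l6_iso_S5 (H : Subgroup (Perm (Fin 6))) (hc : Nat.card H = 120) :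
    Nonempty (H ≃* Perm (Fin 5)) := by
  classical
  have hcore : H.normalCore = ⊥ := by
    apply l6_normal_eq_bot
    intro hA
    have h1 : alternatingGroup (Fin 6) ≤ H := hA.trans (Subgroup.normalCore_le H)
    have h2 := Subgroup.card_le_of_le h1
    rw [Cfsg.Agent.Lib.Helper62.Small120.card_A6, hc] at h2
    omega
  let φ := MulAction.toPermHom (Perm (Fin 6)) (Perm (Fin 6) ⧸ H)
  have hinj : Function.Injective φ := by
    rw [← MonoidHom.ker_eq_bot_iff, ← Subgroup.normalCore_eq_ker]
    exact hcore
  let x0 : Perm (Fin 6) ⧸ H := QuotientGroup.mk 1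
  have hfix : ∀ s ∈ H, φ s x0 = x0 := by
    intro s hs
    show s • (QuotientGroup.mk 1 : Perm (Fin 6) ⧸ H) = QuotientGroup.mk 1
    rw [MulAction.Quotient.smul_mk, QuotientGroup.eq]
    simpa using H.inv_mem hs
  have hidx : Nat.card (Perm (Fin 6) ⧸ H) = 6 := by
    have h1 := H.card_mul_index
    rw [hc, Nat.card_eq_fintype_card (α := Perm (Fin 6)), Fintype.card_perm, Fintype.card_fin] at h1
    have h2 : (6 : ℕ).factorial = 720 := by decide
    rw [h2] at h1
    rw [← Subgroup.index_eq_card]
    omega
  have hpres : ∀ s : H, ∀ x : Perm (Fin 6) ⧸ H, (φ s) x ≠ x0 ↔ x ≠ x0 := by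
    intro s x
    rw [not_iff_not]
    constructor
    · intro h
      apply (φ s).injective
      rw [h, hfix s s.2]
    · intro h
      rw [h, hfix s s.2]
  let ψ : H →* Perm {x : Perm (Fin 6) ⧸ H // x ≠ x0} :=
    { toFun := fun s => (φ s).subtypePerm (hpres s)
      map_one' := by
        ext x
        simp
      map_mul' := by
        intro a b
        apply Equiv.ext
        intro x
        apply Subtype.ext
        show (φ ((a * b : H) : Perm (Fin 6))) x = (φ a) ((φ b) x)
        rw [Subgroup.coe_mul, map_mul, Perm.mul_apply] }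
  have hψinj : Function.Injective ψ := by
    rw [injective_iff_map_eq_one]
    intro s hs
    have h1 : φ s = 1 := by
      ext x
      by_cases hx : x = x0
      · rw [hx, hfix s s.2]
        rfl
      · have h2 := congrArg (fun f : Perm {x : Perm (Fin 6) ⧸ H // x ≠ x0} =>
          ((f ⟨x, hx⟩ : {x : Perm (Fin 6) ⧸ H // x ≠ x0}) : Perm (Fin 6) ⧸ H)) hs
        simpa [ψ] using h2
    have h3 := hinj (h1.trans (map_one φ).symm)
    exact Subtype.ext h3
  let _inst2 : Fintype (Perm (Fin 6) ⧸ H) := Fintype.ofFinite _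
  have hY : Nat.card {x : Perm (Fin 6) ⧸ H // x ≠ x0} = 5 := by
    rw [Nat.card_eq_fintype_card, Fintype.card_subtype_compl (fun x => x = x0),
      Fintype.card_subtype_eq, ← Nat.card_eq_fintype_card, hidx]
  have hcardY : Nat.card (Perm {x : Perm (Fin 6) ⧸ H // x ≠ x0}) = 120 := by
    rw [Nat.card_eq_fintype_card, Fintype.card_perm, ← Nat.card_eq_fintype_card, hY]
    decide
  have hbij : Function.Bijective ψ := by
    rw [Nat.bijective_iff_injective_and_card]
    exact ⟨hψinj, by rw [hc, hcardY]⟩
  have e1 : H ≃* Perm {x : Perm (Fin 6) ⧸ H // x ≠ x0} := MulEquiv.ofBijective ψ hbij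
  have e2 : {x : Perm (Fin 6) ⧸ H // x ≠ x0} ≃ Fin 5 := Finite.equivFinOfCardEq hY
  exact ⟨e1.trans e2.permCongrHom⟩

/-- every nonsolvable subgroup of `S_6` is isomorphic to `A_6`, `S_6`, `A_5` or `S_5` -/
theorem l6_nonsolvable_subgroup (H : Subgroup (Perm (Fin 6))) (hns : ¬ Group.IsSolvable H) :
    Nonempty (H ≃* alternatingGroup (Fin 6)) ∨ Nonempty (H ≃* Perm (Fin 6)) ∨
      Nonempty (H ≃* alternatingGroup (Fin 5)) ∨ Nonempty (H ≃* Perm (Fin 5)) := by
  classical
  by_cases hA : alternatingGroup (Fin 6) ≤ H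
  · by_cases hHA : H ≤ alternatingGroup (Fin 6)
    · left
      exact ⟨MulEquiv.subgroupCongr (le_antisymm hHA hA)⟩
    · right; left
      have hT : H = ⊤ := by
        obtain ⟨h0, hh0, hh0A⟩ := SetLike.not_le_iff_exists.mp hHA
        rw [eq_top_iff]
        intro g _
        by_cases hg : g ∈ alternatingGroup (Fin 6)
        · exact hA hg
        · have h1 : g * h0⁻¹ ∈ alternatingGroup (Fin 6) := by
            rw [Perm.mem_alternatingGroup] at hg hh0A ⊢
            rw [map_mul, map_inv]
            rcases Int.units_eq_one_or (Perm.sign g) with h | h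
            · exact absurd h hg
            · rcases Int.units_eq_one_or (Perm.sign h0) with h' | h'
              · exact absurd h' hh0A
              · rw [h, h']
                decide
          have h2 : g = (g * h0⁻¹) * h0 := by group
          rw [h2]
          exact H.mul_mem (hA h1) hh0
      exact ⟨(MulEquiv.subgroupCongr hT).trans Subgroup.topEquiv⟩
  · right; right
    have hM : H.subgroupOf (alternatingGroup (Fin 6)) ≠ ⊤ := by
      intro h
      apply hA
      rwa [Subgroup.subgroupOf_eq_top] at h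
    have h6 := l6_six_le_index (H.subgroupOf (alternatingGroup (Fin 6))) hM
    have hMcard : Nat.card (H.subgroupOf (alternatingGroup (Fin 6))) ≤ 60 := by
      have h1 := (H.subgroupOf (alternatingGroup (Fin 6))).card_mul_index
      rw [Cfsg.Agent.Lib.Helper62.Small120.card_A6] at h1
      by_contra hgt
      have hgt' : 61 ≤ Nat.card (H.subgroupOf (alternatingGroup (Fin 6))) := by omega
      have h2 : 61 * 6 ≤ Nat.card (H.subgroupOf (alternatingGroup (Fin 6))) *
          (H.subgroupOf (alternatingGroup (Fin 6))).index := Nat.mul_le_mul hgt' h6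
      omega
    -- the sign on `H`
    let σ : H →* ℤˣ := Perm.sign.comp H.subtype
    have hker : σ.ker = (alternatingGroup (Fin 6)).subgroupOf H := by
      ext s
      rw [MonoidHom.mem_ker, Subgroup.mem_subgroupOf, Perm.mem_alternatingGroup]
      rfl
    have hc1 : Nat.card ((alternatingGroup (Fin 6)).subgroupOf H) =
        Nat.card (alternatingGroup (Fin 6) ⊓ H : Subgroup (Perm (Fin 6))) := by
      rw [← Subgroup.inf_subgroupOf_right (alternatingGroup (Fin 6)) H]
      exact Nat.card_congr (Subgroup.subgroupOfEquivOfLe inf_le_right).toEquiv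
    have hc2 : Nat.card (H.subgroupOf (alternatingGroup (Fin 6))) =
        Nat.card (H ⊓ alternatingGroup (Fin 6) : Subgroup (Perm (Fin 6))) := by
      rw [← Subgroup.inf_subgroupOf_right H (alternatingGroup (Fin 6))]
      exact Nat.card_congr (Subgroup.subgroupOfEquivOfLe inf_le_right).toEquiv
    have hkcard : Nat.card σ.ker ≤ 60 := by
      rw [hker, hc1, inf_comm, ← hc2]
      exact hMcard
    have hkns : ¬ Group.IsSolvable σ.ker := by
      intro hs
      apply hns
      exact Group.isSolvable_of_ker_le_range σ.ker.subtype σ (by rw [Subgroup.range_subtype])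
    have hk60 : Nat.card σ.ker = 60 := by
      by_contra hne
      have hlt : Nat.card σ.ker < 60 := by omega
      exact hkns (Cfsg.Agent.Lib.Helper62.Small120.solvable_of_card_lt_sixty _ hlt σ.ker rfl)
    have hmul := σ.ker.card_mul_index
    have hidx : σ.ker.index = 1 ∨ σ.ker.index = 2 := by
      have h1 : σ.ker.index = Nat.card σ.range := Subgroup.index_ker σ
      have h2 : Nat.card σ.range ≤ Nat.card ℤˣ := Subgroup.card_le_card_group σ.range
      have h3 : Nat.card ℤˣ = 2 := by
        rw [Nat.card_eq_fintype_card, Fintype.card_units_int]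
      have h4 : σ.ker.index ≠ 0 := Subgroup.index_ne_zero_of_finite
      omega
    rcases hidx with hi | hi
    · left
      have hc : Nat.card H = 60 := by rw [← hmul, hk60, hi]
      have _hsimp : IsSimpleGroup H := Cfsg.Agent.Lib.Helper62.Small120.isSimpleGroup_of_card_sixty hc hns
      exact Cfsg.Agent.S0494.result hc
    · right
      have hc : Nat.card H = 120 := by rw [← hmul, hk60, hi]
      exact l6_iso_S5 H hc

/-- 255307 L6 -/
theorem case6 {K N : Subgroup (Equiv.Perm (Fin 8))} {Δ : Finset (Fin 8)} (h : Cfg K N Δ)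
    (h6 : Δ.card = 6) :
    Nonempty (↥K ≃* ↥(alternatingGroup (Fin 6))) ∨ Nonempty (↥K ≃* Equiv.Perm (Fin 6)) ∨
      Nonempty (↥K ≃* ↥(alternatingGroup (Fin 5))) ∨ Nonempty (↥K ≃* Equiv.Perm (Fin 5)) := by
  classical
  obtain ⟨hpres, hfaith⟩ := Cfsg.Agent.Lib.Helper84.G42.faithful_on h
  have hiff : ∀ k ∈ K, ∀ x, k x ∈ Δ ↔ x ∈ Δ := by
    intro k hk x
    constructor
    · intro hkx
      have h1 := hpres k⁻¹ (K.inv_mem hk) (k x) hkx
      simpa using h1
    · exact hpres k hk x
  let φ : ↥K →* Perm {x // x ∈ Δ} :=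
    { toFun := fun k => (k : Perm (Fin 8)).subtypePerm (fun x => hiff k k.2 x)
      map_one' := by
        ext x
        simp
      map_mul' := by
        intro a b
        ext x
        rfl }
  have hφinj : Function.Injective φ := by
    rw [injective_iff_map_eq_one]
    intro k hk
    apply Subtype.ext
    apply hfaith k k.2
    intro x hx
    have h1 := congrArg (fun f : Perm {x // x ∈ Δ} => ((f ⟨x, hx⟩ : {x // x ∈ Δ}) : Fin 8)) hk
    exact h1
  let e6 : {x // x ∈ Δ} ≃ Fin 6 := Finset.equivFinOfCardEq h6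
  let ι : ↥K →* Perm (Fin 6) := e6.permCongrHom.toMonoidHom.comp φ
  have hιinj : Function.Injective ι := e6.permCongrHom.injective.comp hφinj
  let e : ↥K ≃* ↥ι.range := MonoidHom.ofInjective hιinj
  have hKns : ¬ Group.IsSolvable ↥K := by
    intro hs
    have hKK : NormalizedBy K K := fun k hk m hm => K.mul_mem (K.mul_mem hk hm) (K.inv_mem hk)
    have hKbot := h.hsolv K le_rfl hKK hs
    apply h.hN1
    rw [eq_bot_iff, ← hKbot]
    exact h.hNK
  have hHns : ¬ Group.IsSolvable ↥ι.range := by
    intro hs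
    exact hKns (Group.isSolvable_of_isSolvable_injective (f := e.toMonoidHom) e.injective)
  rcases l6_nonsolvable_subgroup ι.range hHns with ⟨⟨f⟩⟩ | ⟨⟨f⟩⟩ | ⟨⟨f⟩⟩ | ⟨⟨f⟩⟩
  · exact Or.inl ⟨e.trans f⟩
  · exact Or.inr (Or.inl ⟨e.trans f⟩)
  · exact Or.inr (Or.inr (Or.inl ⟨e.trans f⟩))
  · exact Or.inr (Or.inr (Or.inr ⟨e.trans f⟩))

end Cfsg.Agent.Lib.Helper73.G42
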