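import Mathlib
import Cfsg.Agent.Lib.Helper76.J1Tools
import Cfsg.Agent.Lib.Helper23.SylowCount

/-!
# K-S4274-58520: no nonabelian simple group of order `58520 = 8·5·7·11·19` under `HMin`
-/

set_option autoImplicit false

namespace Cfsg.Agent.Lib.Helper73.J1

open Subgroup Cfsg.Agent.Lib.Helper76.J1 Cfsg.Agent.Lib.Helper23

theorem no_simple_58520 {G : Type*} [Group G] [Finite G] [IsSimpleGroup G]
    (hcard : Nat.card G = 58520) (h19 : Nat.card (Sylow 19 G) = 1540) (hmin : HMin G) : False := by
  have : Fact (Nat.Prime 19) := ⟨by norm_num⟩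
  have : Fact (Nat.Prime 5) := ⟨by norm_num⟩
  have : Fact (Nat.Prime 7) := ⟨by norm_num⟩
  have : Fact (Nat.Prime 11) := ⟨by norm_num⟩
  -- Sylow orders
  have hS19 : ∀ S : Sylow 19 G, Nat.card ↥(S : Subgroup G) = 19 := fun S =>
    card_sylow_eq_prime hcard (by norm_num) (by norm_num) S
  have hS5 : ∀ S : Sylow 5 G, Nat.card ↥(S : Subgroup G) = 5 := fun S =>
    card_sylow_eq_prime hcard (by norm_num) (by norm_num) S
  have hS7 : ∀ S : Sylow 7 G, Nat.card ↥(S : Subgroup G) = 7 := fun S =>
    card_sylow_eq_prime hcard (by norm_num) (by norm_num) S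
  have hS11 : ∀ S : Sylow 11 G, Nat.card ↥(S : Subgroup G) = 11 := fun S =>
    card_sylow_eq_prime hcard (by norm_num) (by norm_num) S
  obtain ⟨P⟩ : Nonempty (Sylow 19 G) := inferInstance
  obtain ⟨S5⟩ : Nonempty (Sylow 5 G) := inferInstance
  obtain ⟨S7⟩ : Nonempty (Sylow 7 G) := inferInstance
  obtain ⟨S11⟩ : Nonempty (Sylow 11 G) := inferInstance
  -- |N_19| = 38, |C_19| = 19
  have hN19 : Nat.card ↥(normalizer ((P : Subgroup G) : Set G)) = 38 := by
    rw [card_normalizer_eq_div hcard P, h19]
  have hC19 : ∀ S : Sylow 19 G, Nat.card ↥(centralizer ((S : Subgroup G) : Set G)) = 19 * 1 := by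
    intro S
    obtain ⟨e, c, he1, he2, hc, hce⟩ :=
      exists_relIndex hcard (by norm_num) (by norm_num) (by norm_num) S
    rw [h19] at hce
    have he18 : e ∣ 18 := he1
    have hele : e ≤ 18 := Nat.le_of_dvd (by norm_num) he18
    have hc1 : c = 1 := by
      interval_cases e <;> omega
    rw [hc, hc1]
  -- valid lists
  have hv5 : validList 58520 5 = [76, 266, 836, 2926] := by decide +kernel
  have hv7 : validList 58520 7 = [22, 190, 4180] := by decide +kernel
  have hv11 : validList 58520 11 = [56, 133] := by decide +kernel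
  have hm5 := card_sylow_mem_validList (G := G) (p := 5) hcard (by norm_num) (by norm_num)
    (by norm_num) (by norm_num)
  have hm7 := card_sylow_mem_validList (G := G) (p := 7) hcard (by norm_num) (by norm_num)
    (by norm_num) (by norm_num)
  have hm11 := card_sylow_mem_validList (G := G) (p := 11) hcard (by norm_num) (by norm_num)
    (by norm_num) (by norm_num)
  rw [hv5] at hm5
  rw [hv7] at hm7
  rw [hv11] at hm11
  -- H1
  have hH5 : 19 ∣ Nat.card (Sylow 5 G) :=
    dvd_card_sylow_of_hmin hmin P (by rw [hcard]; norm_num) (by rw [hN19]; norm_num)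
  have hH7 : 19 ∣ Nat.card (Sylow 7 G) :=
    dvd_card_sylow_of_hmin hmin P (by rw [hcard]; norm_num) (by rw [hN19]; norm_num)
  have hH11 : 19 ∣ Nat.card (Sylow 11 G) :=
    dvd_card_sylow_of_hmin hmin P (by rw [hcard]; norm_num) (by rw [hN19]; norm_num)
  -- n_11 = 133
  have hn11 : Nat.card (Sylow 11 G) = 133 := by
    simp only [List.mem_cons, List.not_mem_nil, or_false] at hm11
    rcases hm11 with h | h
    · rw [h] at hH11; norm_num at hH11
    · exact h
  -- n_7 = 4180
  have hn7 : Nat.card (Sylow 7 G) = 4180 := by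
    simp only [List.mem_cons, List.not_mem_nil, or_false] at hm7
    rcases hm7 with h | h | h
    · rw [h] at hH7; norm_num at hH7
    · exfalso
      have := cross_num (G := G) (p := 7) (q := 11) hcard (by norm_num) (by norm_num)
        (by norm_num) (by norm_num) (by rw [h]; norm_num) (by norm_num)
      rw [hn11] at this
      norm_num at this
    · exact h
  -- |C_7| = 7
  have hC7 : ∀ S : Sylow 7 G, Nat.card ↥(centralizer ((S : Subgroup G) : Set G)) = 7 * 1 := by
    intro S
    obtain ⟨e, c, he1, he2, hc, hce⟩ :=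
      exists_relIndex hcard (by norm_num) (by norm_num) (by norm_num) S
    rw [hn7] at hce
    have he6 : e ∣ 6 := he1
    have hele : e ≤ 6 := Nat.le_of_dvd (by norm_num) he6
    have hc1 : c = 1 := by
      interval_cases e <;> omega
    rw [hc, hc1]
  -- n_5 ≥ 266
  have hn5 : 266 ≤ Nat.card (Sylow 5 G) := by
    simp only [List.mem_cons, List.not_mem_nil, or_false] at hm5
    rcases hm5 with h | h | h | h
    · exfalso
      have hN5 : Nat.card ↥(normalizer ((S5 : Subgroup G) : Set G)) = 770 := by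
        rw [card_normalizer_eq_div hcard S5, h]
      have h7C5 : 7 ∣ Nat.card ↥(centralizer ((S5 : Subgroup G) : Set G)) :=
        dvd_card_centralizer_of_dvd_card_normalizer (by norm_num) S5 (hS5 S5)
          (by rw [hN5]; norm_num) (by norm_num)
      have := cross hS5 hS7 S5 h7C5 S7
      rw [hC7 S7] at this
      norm_num at this
    · omega
    · omega
    · omega
  -- |C_11| = 11 c with c ≥ 4
  obtain ⟨c11, hc11, hc11ge⟩ : ∃ c : ℕ,
      (∀ S : Sylow 11 G, Nat.card ↥(centralizer ((S : Subgroup G) : Set G)) = 11 * c) ∧ 4 ≤ c := by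
    obtain ⟨e, c, he1, he2, hc, hce⟩ :=
      exists_relIndex hcard (by norm_num) (by norm_num) (by norm_num) S11
    rw [hn11] at hce
    have he10 : e ∣ 10 := he1
    have hele : e ≤ 10 := Nat.le_of_dvd (by norm_num) he10
    refine ⟨c, fun S => ?_, ?_⟩
    · rw [card_centralizer_sylow_eq S S11, hc]
    · interval_cases e <;> omega
  -- counting
  have hA19 := card_dvd_orderOf_ge (G := G) (p := 19) (c := 1) hS19 hC19
  have hA7 := card_dvd_orderOf_ge (G := G) (p := 7) (c := 1) hS7 hC7
  have hA11 := card_dvd_orderOf_ge (G := G) (p := 11) (c := c11) hS11 hc11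
  have hB5 := card_orderOf_eq_prime (G := G) 5 hS5
  rw [h19] at hA19
  rw [hn7] at hA7
  rw [hn11] at hA11
  have hsum := card_add4_le_of_disjoint (G := G) (fun x => 19 ∣ orderOf x)
    (fun x => 7 ∣ orderOf x) (fun x => orderOf x = 5) (fun x => 11 ∣ orderOf x)
    (fun x hx => not_dvd_orderOf_of_not_dvd_card_centralizer (p := 19) (q := 7) (by norm_num)
      hS19 P (by rw [hC19 P]; norm_num) x hx)
    (fun x hx h5 => by rw [h5] at hx; norm_num at hx)
    (fun x hx => not_dvd_orderOf_of_not_dvd_card_centralizer (p := 19) (q := 11) (by norm_num)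
      hS19 P (by rw [hC19 P]; norm_num) x hx)
    (fun x hx h5 => by rw [h5] at hx; norm_num at hx)
    (fun x hx => not_dvd_orderOf_of_not_dvd_card_centralizer (p := 7) (q := 11) (by norm_num)
      hS7 S7 (by rw [hC7 S7]; norm_num) x hx)
    (fun x h5 hx => by rw [h5] at hx; norm_num at hx)
  rw [hcard, hB5] at hsum
  have h1 : 133 * ((11 - 1) * 4) ≤ 133 * ((11 - 1) * c11) :=
    Nat.mul_le_mul_left _ (Nat.mul_le_mul_left _ hc11ge)
  have h2 : 266 * (5 - 1) ≤ Nat.card (Sylow 5 G) * (5 - 1) := Nat.mul_le_mul_right _ hn5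
  norm_num at hA19 hA7 h1 h2
  omega

end Cfsg.Agent.Lib.Helper73.J1
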