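import Mathlib
import Cfsg.Agent.Lib.Helper22.NseDefs

/-!
# K-NSE-A (keystone 343101): a finite group satisfies the abstract hypotheses `NseHyp`
-/

set_option autoImplicit false

namespace Cfsg.Agent.Lib.Helper73.Nse

open Cfsg.Agent.Lib.Helper22.Nse
open Cfsg.Agent.S3995 (s)

section
variable {G : Type*} [Group G] [Finite G]

/-- the number of elements of order `m` is a multiple of `φ(m)` -/
theorem nseA_totient_dvd (m : ℕ) : Nat.totient m ∣ s G m := by
  classical
  letI : Fintype G := Fintype.ofFinite G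
  have hs : s G m = (Finset.univ.filter (fun g : G => orderOf g = m)).card := by
    unfold Cfsg.Agent.S3995.s
    rw [Nat.card_eq_fintype_card, Fintype.card_subtype]
  rw [hs]
  set A := Finset.univ.filter (fun g : G => orderOf g = m) with hA
  have hmaps : Set.MapsTo (fun g : G => Subgroup.zpowers g) (↑A : Set G)
      (↑(A.image (fun g : G => Subgroup.zpowers g)) : Set (Subgroup G)) := by
    intro g hg
    exact Finset.mem_coe.2 (Finset.mem_image_of_mem _ (Finset.mem_coe.1 hg))
  rw [Finset.card_eq_sum_card_fiberwise hmaps]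
  refine Finset.dvd_sum (fun Z hZ => ?_)
  obtain ⟨x₀, hx₀, rfl⟩ := Finset.mem_image.1 hZ
  have hx₀m : orderOf x₀ = m := (Finset.mem_filter.1 hx₀).2
  have hfib : A.filter (fun a : G => Subgroup.zpowers a = Subgroup.zpowers x₀)
      = Finset.univ.filter (fun x : G => Subgroup.zpowers x = Subgroup.zpowers x₀) := by
    ext a
    simp only [hA, Finset.mem_filter, Finset.mem_univ, true_and]
    constructor
    · rintro ⟨_, h⟩; exact h
    · intro h
      refine ⟨?_, h⟩
      rw [← hx₀m, ← Nat.card_zpowers, ← Nat.card_zpowers, h]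
  rw [hfib, Cfsg.Agent.S3993.card_gens x₀, hx₀m]

/-- the class equation by element orders -/
theorem nseA_total : Nat.card G = ∑ d ∈ (Nat.card G).divisors, s G d := by
  classical
  letI : Fintype G := Fintype.ofFinite G
  have hn0 : Nat.card G ≠ 0 := (Nat.card_pos (α := G)).ne'
  have h2 := sum_card_orderOf_eq_card_pow_eq_one (G := G) hn0
  have h3 : ∑ d ∈ (Nat.card G).divisors, s G d
      = (Finset.univ.filter (fun x : G => x ^ Nat.card G = 1)).card := by
    rw [← h2]
    refine Finset.sum_congr rfl (fun d _ => ?_)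
    unfold Cfsg.Agent.S3995.s
    rw [Nat.card_eq_fintype_card, Fintype.card_subtype]
  rw [h3, Finset.filter_true_of_mem (fun x _ => pow_card_eq_one'), Finset.card_univ,
    Nat.card_eq_fintype_card]

end

/-- LEAF A -/
theorem nseHyp_of_group {G : Type*} [Group G] [Finite G] (V : Finset ℕ)
    (h : ((fun m : ℕ => Nat.card {g : G // orderOf g = m}) '' Set.range (orderOf : G → ℕ)) = (↑V : Set ℕ)) :
    NseHyp (Nat.card G) (Cfsg.Agent.S3995.s G) V where
  pos := Nat.card_pos
  one := Cfsg.Agent.S3995.s_one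
  frob := fun m hm => Cfsg.Agent.S3995.frob_s m hm
  dvd := by
    intro m hm
    obtain ⟨g, rfl⟩ := (Cfsg.Agent.S3995.s_ne_zero_iff m).1 hm
    exact orderOf_dvd_natCard g
  closed := by
    intro m d hm hd
    obtain ⟨g, hg⟩ := (Cfsg.Agent.S3995.s_ne_zero_iff m).1 hm
    exact (Cfsg.Agent.S3995.s_ne_zero_iff d).2 (Cfsg.Agent.S3995.exists_orderOf_of_dvd hd g hg)
  cauchy := by
    intro p hp hpN
    haveI : Fact p.Prime := ⟨hp⟩
    exact (Cfsg.Agent.S3995.s_ne_zero_iff p).2 (exists_prime_orderOf_dvd_card' p hpN)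
  phi := nseA_totient_dvd
  total := nseA_total
  mem := by
    intro m hm
    obtain ⟨g, hg⟩ := (Cfsg.Agent.S3995.s_ne_zero_iff m).1 hm
    have : Cfsg.Agent.S3995.s G m ∈ (↑V : Set ℕ) := by
      rw [← h]
      exact ⟨m, ⟨g, hg⟩, rfl⟩
    exact Finset.mem_coe.1 this
  attained := by
    intro v hv
    have : v ∈ (↑V : Set ℕ) := Finset.mem_coe.2 hv
    rw [← h] at this
    obtain ⟨m, _, hm⟩ := this
    exact ⟨m, hm⟩

end Cfsg.Agent.Lib.Helper73.Nse
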