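import Mathlib
import Cfsg.Prelude.Def_Characters
import Cfsg.Agent.Lib.Helper83.Decompose

/-!
# K-S4751-G (helper73): Sylow arithmetic for S4751

`χ` a character with `‖χ g‖ = 1` on `p`-singular elements and `χ 1 = |N| - 1 ≠ 1`, `N` a normal
`p`-subgroup: a Sylow `p`-subgroup `S` has `|S| = |N|`, or `p = 2` and `|S| = 2 |N|`.
-/

set_option autoImplicit false

namespace Cfsg.Agent.Lib.Helper73.S4751G

open Cfsg
open scoped ComplexConjugate

universe u

/-- the arithmetic core: `p^b ∣ p^a (p^a - 2)`, `a ≤ b`, `p^a ≠ 2`. -/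
theorem arith_core (p a b : ℕ) (hp : p.Prime) (hab : a ≤ b) (hne : p ^ a ≠ 2)
    (hdvd : ((p : ℤ) ^ b) ∣ ((p : ℤ) ^ a) * (((p : ℤ) ^ a) - 2)) :
    b = a ∨ (p = 2 ∧ b = a + 1) := by
  obtain ⟨c, rfl⟩ := Nat.exists_eq_add_of_le hab
  have hp0 : (0 : ℤ) < (p : ℤ) ^ a := by
    have : (0 : ℤ) < (p : ℤ) := by exact_mod_cast hp.pos
    positivity
  have h1 : ((p : ℤ) ^ c) ∣ ((p : ℤ) ^ a) - 2 := by
    rw [pow_add] at hdvd
    exact (mul_dvd_mul_iff_left hp0.ne').1 hdvd
  rcases Nat.eq_zero_or_pos c with hc | hc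
  · left; omega
  · right
    have hpc : (p : ℤ) ∣ (p : ℤ) ^ c := dvd_pow_self _ hc.ne'
    have h2 : (p : ℤ) ∣ ((p : ℤ) ^ a) - 2 := hpc.trans h1
    rcases Nat.eq_zero_or_pos a with ha0 | ha0
    · exfalso
      subst ha0
      simp only [pow_zero] at h2
      have h3 : (p : ℤ) ∣ 1 := by
        have : (p : ℤ) ∣ -(1 - 2 : ℤ) := (dvd_neg).2 h2
        simpa using this
      have h4 : p ∣ 1 := by exact_mod_cast h3
      exact hp.one_lt.ne' (Nat.dvd_one.1 h4)
    · have hpa : (p : ℤ) ∣ (p : ℤ) ^ a := dvd_pow_self _ ha0.ne'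
      have h3 : (p : ℤ) ∣ 2 := by
        have := dvd_sub hpa h2
        simpa using this
      have h4 : p ∣ 2 := by exact_mod_cast h3
      have hp2 : p = 2 := (Nat.prime_dvd_prime_iff_eq hp Nat.prime_two).1 h4
      refine ⟨hp2, ?_⟩
      subst hp2
      by_contra hc1
      have hc2 : 2 ≤ c := by omega
      have ha2 : 2 ≤ a := by
        by_contra h
        have : a = 1 := by omega
        subst this
        exact hne (by norm_num)
      have h5 : ((2 : ℕ) : ℤ) ^ 2 ∣ ((2 : ℕ) : ℤ) ^ c := pow_dvd_pow _ hc2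
      have h6 : ((2 : ℕ) : ℤ) ^ 2 ∣ ((2 : ℕ) : ℤ) ^ a := pow_dvd_pow _ ha2
      have h7 := dvd_sub h6 (h5.trans h1)
      simp at h7

theorem sylow_card_cases {G : Type u} [Group G] [Fintype G] (p : ℕ) [Fact p.Prime] (N : Subgroup G)
    [N.Normal] (hNp : IsPGroup p N) {χ : G → ℂ} (hχ : IsCharacter G χ) (hnl : χ 1 ≠ 1)
    (hsing : ∀ g : G, p ∣ orderOf g → ‖χ g‖ = 1)
    (hdeg : χ 1 = (Nat.card N : ℂ) - 1) (S : Sylow p G) :
    Nat.card S = Nat.card N ∨ (p = 2 ∧ Nat.card S = 2 * Nat.card N) := by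
  classical
  have hp : p.Prime := Fact.out
  obtain ⟨a, ha⟩ := IsPGroup.iff_card.1 hNp
  obtain ⟨b, hb⟩ := IsPGroup.iff_card.1 S.2
  have hab : a ≤ b := by
    have h1 : Nat.card N ∣ Nat.card G := Subgroup.card_subgroup_dvd_card N
    have h2 : Nat.card S = p ^ (Nat.card G).factorization p := S.card_eq_multiplicity
    have h3 : b = (Nat.card G).factorization p := by
      apply Nat.pow_right_injective hp.two_le
      show p ^ b = p ^ (Nat.card G).factorization p
      rw [← hb, h2]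
    rw [h3]
    rw [ha] at h1
    exact (hp.pow_dvd_iff_le_factorization Nat.card_pos.ne').1 h1
  have hne : p ^ a ≠ 2 := by
    intro h
    apply hnl
    rw [hdeg, ha, h]
    norm_num
  have : Fintype (S : Subgroup G) := Fintype.ofFinite _
  have hψ : IsCharacter (S : Subgroup G) (fun s : (S : Subgroup G) => χ (s : G)) :=
    Cfsg.Agent.Lib.Helper83.isCharacter_restrict (S : Subgroup G) hχ
  obtain ⟨n, hn⟩ := Cfsg.Agent.Lib.Helper83.classInner_char_nat hψ hψ
  unfold classInner at hn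
  -- the sum
  have hone : ∀ s : (S : Subgroup G), s ≠ 1 → χ (s : G) * conj (χ (s : G)) = 1 := by
    intro s hs
    have hord : p ∣ orderOf (s : G) := by
      obtain ⟨k, hk⟩ := (IsPGroup.iff_orderOf.1 S.2) s
      rw [Subgroup.orderOf_coe, hk]
      have hk0 : k ≠ 0 := by
        intro h0
        rw [h0, pow_zero] at hk
        exact hs (orderOf_eq_one_iff.1 hk)
      exact dvd_pow_self _ hk0
    have h1 := hsing _ hord
    rw [Complex.mul_conj, Complex.normSq_eq_norm_sq, h1]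
    norm_num
  have hsum : ∑ s : (S : Subgroup G), χ (s : G) * conj (χ (s : G)) =
      (((p : ℂ) ^ a) - 1) ^ 2 + (((p : ℂ) ^ b) - 1) := by
    rw [← Finset.add_sum_erase Finset.univ _ (Finset.mem_univ (1 : (S : Subgroup G)))]
    congr 1
    · rw [Subgroup.coe_one, hdeg, ha]
      simp only [map_sub, map_one, Complex.conj_natCast]
      push_cast
      ring
    · rw [Finset.sum_congr rfl (fun s hs => hone s (Finset.ne_of_mem_erase hs))]
      rw [Finset.sum_const, Finset.card_erase_of_mem (Finset.mem_univ _), Finset.card_univ,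
        ← Nat.card_eq_fintype_card, hb]
      rw [nsmul_eq_mul, mul_one]
      have hpos : 1 ≤ p ^ b := Nat.one_le_pow _ _ hp.pos
      push_cast [Nat.cast_sub hpos]
      ring
  rw [hsum, hb] at hn
  have hpb : ((p : ℂ) ^ b) ≠ 0 := by
    have : (p : ℂ) ≠ 0 := by exact_mod_cast hp.ne_zero
    exact pow_ne_zero _ this
  have hmain : (((p : ℂ) ^ a) - 1) ^ 2 + (((p : ℂ) ^ b) - 1) = ((p : ℂ) ^ b) * n := by
    have h := hn
    push_cast at h
    field_simp at h
    linear_combination h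
  have hZ : (((p : ℤ) ^ a) - 1) ^ 2 + (((p : ℤ) ^ b) - 1) = ((p : ℤ) ^ b) * n := by
    exact_mod_cast hmain
  have hdvd : ((p : ℤ) ^ b) ∣ ((p : ℤ) ^ a) * (((p : ℤ) ^ a) - 2) := by
    refine ⟨(n : ℤ) - 1, ?_⟩
    linear_combination hZ
  rcases arith_core p a b hp hab hne hdvd with h | ⟨h2, h⟩
  · left
    rw [ha, hb, h]
  · right
    refine ⟨h2, ?_⟩
    rw [ha, hb, h, h2, pow_succ]
    ring

end Cfsg.Agent.Lib.Helper73.S4751G
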