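import Mathlib
import Cfsg.Agent.Lib.Helper73.SPCDefs

set_option autoImplicit false

/-!
# K-SPC-B1a (keystone 267604, S2676 pack): the Cayley transform, `α = 1/2`, transpose version

For nilpotent `N` and `2 ≠ 0`: `(1+N)ᵀ B (1+N) = B ↔ (N P⁻¹)ᵀ B = - B (N P⁻¹)` with `P = 1 + N/2`.
-/

namespace Cfsg.Agent.Lib.Helper73.SPC

open Matrix

variable {F : Type*} [Field F] {ι : Type*} [Fintype ι] [DecidableEq ι]

/-- the equivalence behind the Cayley transform (no hypothesis on `M`) -/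
theorem b1a_cayley_iff (h2 : (2 : F) ≠ 0)
    (N : Matrix ι ι F) (hN : IsNilpotent N) (M : Matrix ι ι F) :
    (1 + N)ᵀ * M * (1 + N) = M ↔
      (N * (1 + (2 : F)⁻¹ • N)⁻¹)ᵀ * M = -(M * (N * (1 + (2 : F)⁻¹ • N)⁻¹)) := by
  set P : Matrix ι ι F := 1 + (2 : F)⁻¹ • N with hP
  clear_value P
  have hPu : IsUnit P := by
    rw [hP]
    exact IsNilpotent.isUnit_one_add (hN.smul _)
  have hPdet : IsUnit P.det := (Matrix.isUnit_iff_isUnit_det P).mp hPu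
  have hPsdet : IsUnit (Pᵀ).det := by
    rw [Matrix.det_transpose]
    exact hPdet
  have h1 : P⁻¹ * P = 1 := Matrix.nonsing_inv_mul P hPdet
  have h2' : Pᵀ * (Pᵀ)⁻¹ = 1 := Matrix.mul_nonsing_inv _ hPsdet
  have h3 : P * P⁻¹ = 1 := Matrix.mul_nonsing_inv P hPdet
  have h4 : (Pᵀ)⁻¹ * Pᵀ = 1 := Matrix.nonsing_inv_mul _ hPsdet
  have hPs : Pᵀ = 1 + (2 : F)⁻¹ • Nᵀ := by
    rw [hP, Matrix.transpose_add, Matrix.transpose_one, Matrix.transpose_smul]
  have hinv : (P⁻¹)ᵀ = (Pᵀ)⁻¹ := by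
    symm
    apply Matrix.inv_eq_left_inv
    rw [← Matrix.transpose_mul, h3, Matrix.transpose_one]
  -- the quantity `X`
  set X : Matrix ι ι F := (Pᵀ)⁻¹ * Nᵀ * M + M * N * P⁻¹ with hX
  clear_value X
  have hR : (N * P⁻¹)ᵀ * M = -(M * (N * P⁻¹)) ↔ X = 0 := by
    rw [Matrix.transpose_mul, hinv, hX, ← Matrix.mul_assoc M N]
    constructor
    · intro h
      rw [h]
      exact neg_add_cancel _
    · intro h
      exact eq_neg_of_add_eq_zero_left h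
  have hPXP : Pᵀ * X * P = Nᵀ * M * P + Pᵀ * M * N := by
    rw [hX, Matrix.mul_add, Matrix.add_mul]
    congr 1
    · rw [← Matrix.mul_assoc, ← Matrix.mul_assoc, h2', Matrix.one_mul]
    · simp only [Matrix.mul_assoc]
      rw [h1, Matrix.mul_one]
  have hX0 : X = 0 ↔ Pᵀ * X * P = 0 := by
    constructor
    · intro h
      rw [h, Matrix.mul_zero, Matrix.zero_mul]
    · intro h
      have : X = (Pᵀ)⁻¹ * (Pᵀ * X * P) * P⁻¹ := by
        have e : (Pᵀ)⁻¹ * (Pᵀ * X * P) * P⁻¹ =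
            ((Pᵀ)⁻¹ * Pᵀ) * X * (P * P⁻¹) := by simp only [Matrix.mul_assoc]
        rw [e, h4, h3, Matrix.one_mul, Matrix.mul_one]
      rw [this, h, Matrix.mul_zero, Matrix.zero_mul]
  have hexp : Nᵀ * M * P + Pᵀ * M * N =
      Nᵀ * M + M * N + Nᵀ * M * N := by
    have e1 : Nᵀ * M * (1 + (2 : F)⁻¹ • N) = Nᵀ * M + (2 : F)⁻¹ • (Nᵀ * M * N) := by
      rw [Matrix.mul_add, Matrix.mul_one, Matrix.mul_smul]
    have e2 : (1 + (2 : F)⁻¹ • Nᵀ) * M * N = M * N + (2 : F)⁻¹ • (Nᵀ * M * N) := by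
      rw [Matrix.add_mul, Matrix.add_mul, Matrix.one_mul, Matrix.smul_mul, Matrix.smul_mul]
    have e3 : (2 : F)⁻¹ • (Nᵀ * M * N) + (2 : F)⁻¹ • (Nᵀ * M * N) = Nᵀ * M * N := by
      rw [← add_smul]
      have : (2 : F)⁻¹ + (2 : F)⁻¹ = 1 := by
        field_simp
        norm_num
      rw [this, one_smul]
    rw [hPs, hP, e1, e2]
    calc Nᵀ * M + (2 : F)⁻¹ • (Nᵀ * M * N) + (M * N + (2 : F)⁻¹ • (Nᵀ * M * N))
        = Nᵀ * M + M * N + ((2 : F)⁻¹ • (Nᵀ * M * N) + (2 : F)⁻¹ • (Nᵀ * M * N)) := by abel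
      _ = Nᵀ * M + M * N + Nᵀ * M * N := by rw [e3]
  have hL : (1 + N)ᵀ * M * (1 + N) = M ↔
      Nᵀ * M + M * N + Nᵀ * M * N = 0 := by
    rw [Matrix.transpose_add, Matrix.transpose_one]
    simp only [Matrix.mul_add, Matrix.add_mul, Matrix.mul_one, Matrix.one_mul]
    constructor
    · intro h
      have : M + Nᵀ * M + (M * N + Nᵀ * M * N) - M = 0 := by rw [h, sub_self]
      rw [← this]
      abel
    · intro h
      have : M + Nᵀ * M + (M * N + Nᵀ * M * N) =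
          M + (Nᵀ * M + M * N + Nᵀ * M * N) := by abel
      rw [this, h, add_zero]
  rw [hL, hR, hX0, hPXP, hexp]

/-- LEAF B1a -/
theorem altInv_one_add_eq_altSkew {ι : Type*} [Fintype ι] [DecidableEq ι] (h2 : (2 : F) ≠ 0)
    (N : Matrix ι ι F) (hN : IsNilpotent N) :
    AltInv (1 + N) = AltSkew (N * (1 + (2 : F)⁻¹ • N)⁻¹) := by
  ext M
  unfold AltInv AltSkew
  simp only [Set.mem_setOf_eq]
  rw [b1a_cayley_iff h2 N hN M]

end Cfsg.Agent.Lib.Helper73.SPC
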