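import Mathlib
import Cfsg.Prelude.Def_JordanBlocks
import Cfsg.Agent.Lib.Helper73.UCDefs
import Cfsg.Agent.Lib.Helper73.SPCDefs
import Cfsg.Agent.Lib.Helper73.SPCB1a
import Cfsg.Agent.Lib.Helper81.SPCC14
import Cfsg.Agent.Lib.Helper79.SPCC8w
import Cfsg.Agent.Lib.Helper74.SPCC11W
import Cfsg.Agent.Lib.Helper05.SPCC7
import Cfsg.Agent.Lib.Helper01.SPCD4
import Cfsg.Agent.Lib.Helper93.SPCC9W
import Cfsg.Agent.Lib.Helper91.SPCB0
import Cfsg.Agent.Lib.Helper80.SPCC13
import Cfsg.Agent.Lib.Helper75.SPCC15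
import Cfsg.Agent.Lib.Helper70.SPCC12
import Cfsg.Agent.Lib.Helper67.SPCD2
import Cfsg.Agent.Lib.Helper48.SPCD6
import Cfsg.Agent.Lib.Helper29.SPCC5w
import Cfsg.Agent.Lib.Helper23.SPCA1a
import Cfsg.Agent.Lib.Helper96.SPCB1b
import Cfsg.Agent.Lib.Helper90.SPCC16
import Cfsg.Agent.Lib.Helper81.SPCC3
import Cfsg.Agent.Lib.Helper66.SPCD7
import Cfsg.Agent.Lib.Helper62.SPCC6
import Cfsg.Agent.Lib.Helper58.SPCD5
import Cfsg.Agent.Lib.Helper56.SPCA1b
import Cfsg.Agent.Lib.Helper52.SPCC10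
import Cfsg.Agent.Lib.Helper48.SPCD3
import Cfsg.Agent.Lib.Helper47.SPCD8
import Cfsg.Agent.Lib.Helper28.SPCC1
import Cfsg.Agent.Lib.Helper10.SPCC4
import Cfsg.Agent.Lib.Helper04.SPCC2
import Cfsg.Agent.Lib.Helper80.SPCB1c
import Cfsg.Agent.Lib.Helper79.SPCC1b
import Cfsg.Agent.Lib.Helper57.SPCC3b
import Cfsg.Agent.Lib.Helper52.SPCB2
import Cfsg.Agent.Lib.Helper19.SPCD1

set_option autoImplicit false

/-!
# SPEC of the pack K-SPC (S2676): every leaf is ONE theorem with EXACT signature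

Deliver leaf `X` as `Cfsg/Agent/Lib/HelperNN/SPC<X>.lean`, namespace `Cfsg.Agent.Lib.HelperNN.SPC`,
same theorem name and signature (check with `example : @spec = @mine := rfl` against a verbatim copy).
Imports allowed: Mathlib, Cfsg.Prelude.*, `Cfsg.Agent.Lib.Helper73.UCDefs`, `Cfsg.Agent.Lib.Helper73.SPCDefs`,
anything on main (in particular the K-UC leaves `Cfsg.Agent.Lib.Helper73.UCHub`, which are the
hermitian twins of several leaves here: K3, K4, K6, K7, A1, A2, B).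
If your leaf uses another leaf that is not yet on main: prove `<name>_of` with that leaf's statement as a
hypothesis, land it, and land the exact-signature wrapper when the other leaf arrives (or redo it yourself).

PROOF. `Sp`-classes inside the `GL`-class of `u₀` = classes of nondegenerate alternating `u₀`-invariant
forms under the commutant of `u₀` (Darboux). Cayley transform `N ↦ N (1 + N/2)⁻¹` (char ≠ 2) turns
invariant forms into forms with a SKEW-adjoint nilpotent of the same Jordan type; those are signed Hankel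
matrices `shankel d c`; the size-`i` top block is `(-1)^i`-symmetric; two forms are congruent under the
commutant iff all their top blocks are congruent (⇐: first lift congruences of the tops by block-constant
matrices, then `h = B⁻¹ B'` is unipotent, self-adjoint, commutes with `N`, and `y = √h ∈ F[h]` does it).
Nondegenerate symmetric forms over `F_q`: 2 classes (dimension ≥ 1); alternating: 1 class, even dimension.
-/

namespace Cfsg.Agent.Lib.Helper73.SPCSpec

open Matrix Cfsg.Agent.Lib.Helper73.UC Cfsg.Agent.Lib.Helper73.SPC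

variable {F : Type*} [Field F]

/-! ## A. classes ↔ orbits of forms -/

/-- LEAF A1a. `Cfsg.Agent.Lib.Helper43.exists_congr_J` (Lib/Helper43/PSpLang1.lean) gives `k` with
`kᵀ B k = J`; `k` is invertible, take `h = k⁻¹`. (Skew + char ≠ 2 ⇒ alternating.) -/
theorem exists_congr_J_of_skew (h2 : (2 : F) ≠ 0) {m : ℕ}
    (B : Matrix (Fin m ⊕ Fin m) (Fin m ⊕ Fin m) F) (hB : Bᵀ = -B) (hdet : IsUnit B.det) :
    ∃ h : Matrix (Fin m ⊕ Fin m) (Fin m ⊕ Fin m) F, IsUnit h.det ∧ hᵀ * Matrix.J (Fin m) F * h = B :=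
  Cfsg.Agent.Lib.Helper23.SPC.exists_congr_J_of_skew h2 B hB hdet

/-- LEAF A1b (orbit correspondence; `hD` is the statement of A1a). `g ∈ Sp ↔ gᵀ J g = J`
(`Matrix.SymplecticGroup.mem_iff'`). For `g ∈ Sp` with `h u₀ = g h` put `B_g = hᵀ J h ∈ AltInv u₀`; the class
of `B_g` under the commutant of `u₀` does not depend on `h` nor on `g` in its `Sp`-class; conversely
`B = hᵀ J h ∈ AltInv u₀` gives `g = h u₀ h⁻¹ ∈ Sp`; `B_g ~ B_g'` iff `g, g'` are `Sp`-conjugate. -/
theorem card_classes_eq_orbCount_of {m : ℕ}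
    (hD : ∀ B : Matrix (Fin m ⊕ Fin m) (Fin m ⊕ Fin m) F, Bᵀ = -B → IsUnit B.det →
      ∃ h : Matrix (Fin m ⊕ Fin m) (Fin m ⊕ Fin m) F, IsUnit h.det ∧ hᵀ * Matrix.J (Fin m) F * h = B)
    (u₀ : Matrix (Fin m ⊕ Fin m) (Fin m ⊕ Fin m) F) :
    Nat.card {C : ConjClasses ↥(Matrix.symplecticGroup (Fin m) F) //
        ∃ g : ↥(Matrix.symplecticGroup (Fin m) F), ConjClasses.mk g = C ∧
          IsConj u₀ (g : Matrix (Fin m ⊕ Fin m) (Fin m ⊕ Fin m) F)} =
      orbCount u₀ (AltInv u₀) :=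
  Cfsg.Agent.Lib.Helper56.SPC.card_classes_eq_orbCount_of hD u₀

/-! ## B. transport of the orbit count -/

/-- LEAF B0. If `c * reindex A = A' * c` then `B ↦ cᵀ B c` maps `AltInv A'` onto `AltInv (reindex A)`,
compatibly with `x ↦ c⁻¹ x c` on commutants; reindexing is harmless. -/
theorem orbCount_altInv_of_isConj {ι ι' : Type*} [Fintype ι] [DecidableEq ι] [Fintype ι']
    [DecidableEq ι'] (e : ι ≃ ι') (A : Matrix ι ι F) (A' : Matrix ι' ι' F)
    (h : IsConj (Matrix.reindex e e A) A') :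
    orbCount A' (AltInv A') = orbCount A (AltInv A) :=
  Cfsg.Agent.Lib.Helper91.SPC.orbCount_altInv_of_isConj e A A' h

/-- LEAF B1a (Cayley transform, `α = 1/2`; twin of K-UC K4 = `Helper34.UCK4`). With `P = 1 + N/2`:
`(1+N)ᵀ B (1+N) = B ↔ Nᵀ B + B N + Nᵀ B N = 0 ↔ Nᵀ B P = - Pᵀ B N ↔ (N P⁻¹)ᵀ B = - B (N P⁻¹)`. -/
theorem altInv_one_add_eq_altSkew {ι : Type*} [Fintype ι] [DecidableEq ι] (h2 : (2 : F) ≠ 0)
    (N : Matrix ι ι F) (hN : IsNilpotent N) :
    AltInv (1 + N) = AltSkew (N * (1 + (2 : F)⁻¹ • N)⁻¹) :=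
  Cfsg.Agent.Lib.Helper73.SPC.altInv_one_add_eq_altSkew h2 N hN

/-- LEAF B1b. `N' = N (1 + N/2)⁻¹` and `N = (1 - N'/2)⁻¹ N'` are polynomial in each other. -/
theorem commute_cayley_iff {ι : Type*} [Fintype ι] [DecidableEq ι] (h2 : (2 : F) ≠ 0)
    (N : Matrix ι ι F) (hN : IsNilpotent N) (x : Matrix ι ι F) :
    x * (1 + N) = (1 + N) * x ↔
      x * (N * (1 + (2 : F)⁻¹ • N)⁻¹) = (N * (1 + (2 : F)⁻¹ • N)⁻¹) * x :=
  Cfsg.Agent.Lib.Helper96.SPC.commute_cayley_iff h2 N hN x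

/-- LEAF B1c (from the statements `h1` of B1a and `h2'` of B1b: same set, same relation). -/
theorem orbCount_cayley_of {ι : Type*} [Fintype ι] [DecidableEq ι] (N : Matrix ι ι F)
    (h1 : AltInv (1 + N) = AltSkew (N * (1 + (2 : F)⁻¹ • N)⁻¹))
    (h2' : ∀ x : Matrix ι ι F, x * (1 + N) = (1 + N) * x ↔
      x * (N * (1 + (2 : F)⁻¹ • N)⁻¹) = (N * (1 + (2 : F)⁻¹ • N)⁻¹) * x) :
    orbCount (1 + N) (AltInv (1 + N)) =
      orbCount (N * (1 + (2 : F)⁻¹ • N)⁻¹) (AltSkew (N * (1 + (2 : F)⁻¹ • N)⁻¹)) :=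
  Cfsg.Agent.Lib.Helper80.SPC.orbCount_cayley_of N h1 h2'

/-- LEAF B2 (twin of K-UC K7). `B' ↦ gᵀ B' g` maps `AltSkew N'` onto `AltSkew N`, compatibly with
`x ↦ g⁻¹ x g` on commutants. -/
theorem orbCount_altSkew_of_conj {ι : Type*} [Fintype ι] [DecidableEq ι] (N N' g : Matrix ι ι F)
    (hg : IsUnit g.det) (h : g * N = N' * g) :
    orbCount N' (AltSkew N') = orbCount N (AltSkew N) :=
  Cfsg.Agent.Lib.Helper52.SPC.orbCount_altSkew_of_conj N N' g hg h

/-! ## C. signed Hankel parametrisation and classification of the orbits -/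

/-- LEAF C1 (twin of K-UC A1 = `Helper22.UCA1`). `(nilM d F)ᵀ` has entry `1` exactly at `((k,a),(k,a+1))`;
`Nᵀ B = - B N` says `B ((l,b+1),(k,a)) = - B ((l,b),(k,a+1))` (out-of-range entries `0`), so
`B ((l,b),(k,a)) = (-1)^b B ((l,0),(k,a+b))`, `0` for `a + b ≥ min (d l) (d k)`; `c (l,k,s) = B (l,0) (k,s)`. -/
theorem shankel_mem_iff {t : ℕ} (d : Fin t → ℕ) (B : Matrix (JI d) (JI d) F) :
    (Bᵀ = -B ∧ (nilM d F)ᵀ * B = -(B * nilM d F)) ↔ ∃ c ∈ AC d, shankel d c = B :=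
  Cfsg.Agent.Lib.Helper28.SPC.shankel_mem_iff d B

/-- LEAF C1b. (`shankel d c` is skew-adjoint for EVERY `c`.) -/
theorem shankel_skew_adjoint {t : ℕ} (d : Fin t → ℕ) (c : CIdx d → F) :
    (nilM d F)ᵀ * shankel d c = -(shankel d c * nilM d F) :=
  Cfsg.Agent.Lib.Helper79.SPC.shankel_skew_adjoint d c

/-- LEAF C2. `shankel d c = D * hankel d c` with `D` the diagonal matrix of the signs `(-1)^b`; then
K-UC B (`Cfsg.Agent.Lib.Helper73.UCSpec.isUnit_det_hankel_iff` in `Helper73.UCHub`). -/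
theorem isUnit_det_shankel_iff {t : ℕ} (d : Fin t → ℕ) (hd : ∀ k, 1 ≤ d k) (c : CIdx d → F) :
    IsUnit (shankel d c).det ↔ IsUnit (topC d hd c).det :=
  Cfsg.Agent.Lib.Helper04.SPC.isUnit_det_shankel_iff d hd c

/-- LEAF C3. -/
theorem topBlock_transpose {t : ℕ} (d : Fin t → ℕ) (hd : ∀ k, 1 ≤ d k) (c : CIdx d → F)
    (hc : c ∈ AC d) (i : ℕ) :
    (topBlock d hd c i)ᵀ = (-1 : F) ^ i • topBlock d hd c i :=
  Cfsg.Agent.Lib.Helper81.SPC.topBlock_transpose d hd c hc i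

/-- LEAF C3b. `topC` is block diagonal for the block sizes (compare K-UC C3 = `Helper26.UCC3`). -/
theorem isUnit_det_topC_iff {t : ℕ} (d : Fin t → ℕ) (hd : ∀ k, 1 ≤ d k) (c : CIdx d → F) :
    IsUnit (topC d hd c).det ↔ ∀ i : ℕ, IsUnit (topBlock d hd c i).det :=
  Cfsg.Agent.Lib.Helper57.SPC.isUnit_det_topC_iff d hd c

/-- LEAF C4 (Toeplitz shape of the commutant). `x N = N x` with `N = nilM d F` says
`x ((l,b),(k,a+1)) = x ((l,b-1),(k,a))` for `b ≥ 1` and `x ((l,0),(k,a+1)) = 0`; the last column of each block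
gives `x ((l,j),(k,0)) = 0` whenever `j + d k < d l`. -/
theorem commute_nilM_entries {t : ℕ} (d : Fin t → ℕ) (x : Matrix (JI d) (JI d) F)
    (hx : x * nilM d F = nilM d F * x) (l k : Fin t) (b : Fin (d l)) (a : Fin (d k)) :
    x ⟨l, b⟩ ⟨k, a⟩ =
      if h : (a : ℕ) ≤ (b : ℕ) ∧ d l ≤ (b : ℕ) - (a : ℕ) + d k then
        x ⟨l, ⟨(b : ℕ) - (a : ℕ), by have := b.2; omega⟩⟩ ⟨k, ⟨0, by have := a.2; omega⟩⟩
      else 0 :=
  Cfsg.Agent.Lib.Helper10.SPC.commute_nilM_entries d x hx l k b a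

/-- LEAF C5 (left/right equivariance of the top blocks; uses C4). For `x` commuting with `nilM d F` put
`τ_i(x) (l,k) = x ((l,0),(k,0))` for `d l = d k = i`. If `xᵀ * shankel d c * y = shankel d c'` with `x, y`
commuting with `nilM d F` then `topBlock c' i = τ_i(x)ᵀ * topBlock c i * τ_i(y)`. (Entry `((l,0),(k,i-1))`:
only the rows `(l',0)`, `d l' = i`, of the column `(l,0)` of `x` and the rows `(k',i-1)`... contribute.) -/
theorem topBlock_mul {t : ℕ} (d : Fin t → ℕ) (hd : ∀ k, 1 ≤ d k) (c c' : CIdx d → F)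
    (x y : Matrix (JI d) (JI d) F) (hx : x * nilM d F = nilM d F * x)
    (hy : y * nilM d F = nilM d F * y) (h : xᵀ * shankel d c * y = shankel d c') (i : ℕ) :
    topBlock d hd c' i =
      (Matrix.of fun l k : {k : Fin t // d k = i} => x ⟨l.1, ⟨0, hd l.1⟩⟩ ⟨k.1, ⟨0, hd k.1⟩⟩)ᵀ *
        topBlock d hd c i *
      (Matrix.of fun l k : {k : Fin t // d k = i} => y ⟨l.1, ⟨0, hd l.1⟩⟩ ⟨k.1, ⟨0, hd k.1⟩⟩) :=
  Cfsg.Agent.Lib.Helper29.SPC.topBlock_mul d hd c c' x y hx hy h i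

/-- LEAF C6 (`τ_i` is multiplicative; uses C4). -/
theorem tau_mul {t : ℕ} (d : Fin t → ℕ) (hd : ∀ k, 1 ≤ d k)
    (x y : Matrix (JI d) (JI d) F) (hx : x * nilM d F = nilM d F * x)
    (hy : y * nilM d F = nilM d F * y) (i : ℕ) :
    (Matrix.of fun l k : {k : Fin t // d k = i} =>
        (x * y) ⟨l.1, ⟨0, hd l.1⟩⟩ ⟨k.1, ⟨0, hd k.1⟩⟩) =
      (Matrix.of fun l k : {k : Fin t // d k = i} => x ⟨l.1, ⟨0, hd l.1⟩⟩ ⟨k.1, ⟨0, hd k.1⟩⟩) *
      (Matrix.of fun l k : {k : Fin t // d k = i} => y ⟨l.1, ⟨0, hd l.1⟩⟩ ⟨k.1, ⟨0, hd k.1⟩⟩) :=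
  Cfsg.Agent.Lib.Helper62.SPC.tau_mul d hd x y hx hy i

/-- LEAF C7 (invariance; from C5 with `y = x`, C6 with `x * x⁻¹ = 1` for the invertibility of `τ_i(x)`). -/
theorem congRel_topBlock {t : ℕ} (d : Fin t → ℕ) (hd : ∀ k, 1 ≤ d k) (c c' : CIdx d → F)
    (h : CongRel (nilM d F) (shankel d c) (shankel d c')) (i : ℕ) :
    CongRel (1 : Matrix {k : Fin t // d k = i} {k : Fin t // d k = i} F)
      (topBlock d hd c i) (topBlock d hd c' i) :=
  Cfsg.Agent.Lib.Helper05.SPC.congRel_topBlock d hd c c' h i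

/-- LEAF C8 (lifting congruences of the tops). Take the block-constant matrix
`x ((l,b),(k,a)) = if d l = d k ∧ b = a then y (d k) l k else 0`; it commutes with `nilM d F`, is invertible
(inverse built from the `(y i)⁻¹`), `xᵀ * shankel d c * x` is skew and skew-adjoint, hence `shankel d c'`
with `c' ∈ AC d` by C1, and C5 computes its top blocks. -/
theorem exists_lift_topBlock {t : ℕ} (d : Fin t → ℕ) (hd : ∀ k, 1 ≤ d k) (c : CIdx d → F)
    (hc : c ∈ AC d)
    (y : ∀ i : ℕ, Matrix {k : Fin t // d k = i} {k : Fin t // d k = i} F)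
    (hy : ∀ i, IsUnit (y i).det) :
    ∃ c' ∈ AC d, CongRel (nilM d F) (shankel d c) (shankel d c') ∧
      ∀ i, topBlock d hd c' i = (y i)ᵀ * topBlock d hd c i * y i :=
  Cfsg.Agent.Lib.Helper79.SPC.exists_lift_topBlock d hd c hc y hy

/-- LEAF C9 (unipotence). Potential `ψ (k,a) = d k - a`: by C4, `(h - 1)` maps the basis vector `(k,a)`
into the span of the `(l,b')` with `ψ (l,b') < ψ (k,a)`, or `ψ` equal and `d l > d k`; so `h - 1` is strictly
triangular for the lexicographic order on `(ψ, - d)`, hence nilpotent. -/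
theorem isNilpotent_sub_one_of_commute {t : ℕ} (d : Fin t → ℕ) (hd : ∀ k, 1 ≤ d k)
    (h : Matrix (JI d) (JI d) F) (hcomm : h * nilM d F = nilM d F * h)
    (htop : ∀ l k : Fin t, d l = d k →
      h ⟨l, ⟨0, hd l⟩⟩ ⟨k, ⟨0, hd k⟩⟩ = if l = k then 1 else 0) :
    IsNilpotent (h - 1) :=
  Cfsg.Agent.Lib.Helper93.SPC.isNilpotent_sub_one_of_commute d hd h hcomm htop

/-- LEAF C10 (square roots of unipotents, char ≠ 2). Induction on `r` with `(h-1)^r = 0`, or the binomial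
series of `(1 + n)^(1/2)`. -/
theorem exists_poly_sqrt {ι : Type*} [Fintype ι] [DecidableEq ι] (h2 : (2 : F) ≠ 0)
    (h : Matrix ι ι F) (hn : IsNilpotent (h - 1)) :
    ∃ P : Polynomial F, Polynomial.aeval h P * Polynomial.aeval h P = h :=
  Cfsg.Agent.Lib.Helper52.SPC.exists_poly_sqrt h2 h hn

/-- LEAF C11 (equal tops ⇒ congruent; from C2, C3b, C5, C9, C10). `B = shankel d c`, `B' = shankel d c'`,
`h = B⁻¹ * B'`: `h` commutes with `N` (both are skew-adjoint), `hᵀ B = B h` (both skew), `τ_i(h) = 1` by C5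
(`1ᵀ * B * h = B'`) and the invertibility of the tops, so `h - 1` is nilpotent (C9), `y = P(h)` with `y² = h`
(C10) commutes with `N`, satisfies `yᵀ B = B y`, is invertible, and `yᵀ B y = B y² = B'`. -/
theorem congRel_of_topBlock_eq {t : ℕ} (h2 : (2 : F) ≠ 0) (d : Fin t → ℕ) (hd : ∀ k, 1 ≤ d k)
    (c c' : CIdx d → F) (hc : c ∈ AC d) (hc' : c' ∈ AC d) (hu : IsUnit (shankel d c).det)
    (hu' : IsUnit (shankel d c').det) (htop : ∀ i, topBlock d hd c i = topBlock d hd c' i) :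
    CongRel (nilM d F) (shankel d c) (shankel d c') :=
  Cfsg.Agent.Lib.Helper74.SPC.congRel_of_topBlock_eq h2 d hd c c' hc hc' hu hu' htop

/-- LEAF C12 (all tops arise). `c (l,k,s) = T (d k) l k` if `d l = d k` and `s + 1 = d k`, else `0`. -/
theorem exists_AC_of_topBlocks {t : ℕ} (d : Fin t → ℕ) (hd : ∀ k, 1 ≤ d k)
    (T : ∀ i : ℕ, Matrix {k : Fin t // d k = i} {k : Fin t // d k = i} F)
    (hT : ∀ i, (T i)ᵀ = (-1 : F) ^ i • T i) :
    ∃ c ∈ AC d, ∀ i, topBlock d hd c i = T i :=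
  Cfsg.Agent.Lib.Helper70.SPC.exists_AC_of_topBlocks d hd T hT

/-- LEAF C13 (assembly of the classification, hypothesis form: `H1 .. H8` are the statements of
C1, C2, C3, C3b, C7, C8, C11, C12). The map `class of shankel d c ↦ (class of topBlock d hd c i)_i` is a
bijection from the classes of `AltSkew (nilM d F)` onto the product of the classes of `SymND _ i`. -/
theorem orbCount_altSkew_nilM_of {t : ℕ} (d : Fin t → ℕ) (hd : ∀ k, 1 ≤ d k)
    (H1 : ∀ B : Matrix (JI d) (JI d) F,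
      (Bᵀ = -B ∧ (nilM d F)ᵀ * B = -(B * nilM d F)) ↔ ∃ c ∈ AC d, shankel d c = B)
    (H2 : ∀ c : CIdx d → F, IsUnit (shankel d c).det ↔ IsUnit (topC d hd c).det)
    (H3 : ∀ c : CIdx d → F, c ∈ AC d → ∀ i : ℕ,
      (topBlock d hd c i)ᵀ = (-1 : F) ^ i • topBlock d hd c i)
    (H4 : ∀ c : CIdx d → F, IsUnit (topC d hd c).det ↔ ∀ i : ℕ, IsUnit (topBlock d hd c i).det)
    (H5 : ∀ c c' : CIdx d → F, CongRel (nilM d F) (shankel d c) (shankel d c') → ∀ i : ℕ,
      CongRel (1 : Matrix {k : Fin t // d k = i} {k : Fin t // d k = i} F)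
        (topBlock d hd c i) (topBlock d hd c' i))
    (H6 : ∀ c : CIdx d → F, c ∈ AC d →
      ∀ y : (∀ i : ℕ, Matrix {k : Fin t // d k = i} {k : Fin t // d k = i} F),
      (∀ i, IsUnit (y i).det) →
      ∃ c' ∈ AC d, CongRel (nilM d F) (shankel d c) (shankel d c') ∧
        ∀ i, topBlock d hd c' i = (y i)ᵀ * topBlock d hd c i * y i)
    (H7 : ∀ c c' : CIdx d → F, c ∈ AC d → c' ∈ AC d → IsUnit (shankel d c).det →
      IsUnit (shankel d c').det → (∀ i, topBlock d hd c i = topBlock d hd c' i) →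
      CongRel (nilM d F) (shankel d c) (shankel d c'))
    (H8 : ∀ T : (∀ i : ℕ, Matrix {k : Fin t // d k = i} {k : Fin t // d k = i} F),
      (∀ i, (T i)ᵀ = (-1 : F) ^ i • T i) → ∃ c ∈ AC d, ∀ i, topBlock d hd c i = T i) :
    orbCount (nilM d F) (AltSkew (nilM d F)) =
      ∏ i ∈ Finset.range (Finset.univ.sup d + 1),
        orbCount (1 : Matrix {k : Fin t // d k = i} {k : Fin t // d k = i} F)
          (SymND {k : Fin t // d k = i} i) :=
  Cfsg.Agent.Lib.Helper80.SPC.orbCount_altSkew_nilM_of d hd H1 H2 H3 H4 H5 H6 H7 H8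

/-- LEAF C14 (nondegenerate symmetric matrices over a finite field of odd characteristic: the
discriminant modulo squares is the only invariant). Diagonalise; `⟨a, b⟩ ≅ ⟨1, ab⟩` since every element of a
finite field is a sum of two squares. Probably on main in the language of quadratic forms
(e.g. `Helper26.SLO9.exists_diag`, `Helper50.StdForms`). -/
theorem orbCount_symND_even [Fintype F] (h2 : (2 : F) ≠ 0) (κ : Type*) [Fintype κ] [DecidableEq κ]
    (i : ℕ) (hi : Even i) :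
    orbCount (1 : Matrix κ κ F) (SymND κ i) = if Fintype.card κ = 0 then 1 else 2 :=
  Cfsg.Agent.Lib.Helper81.SPC.orbCount_symND_even h2 κ i hi

/-- LEAF C15 (nondegenerate alternating matrices: even size, all congruent; Darboux, e.g.
`Helper20.exists_symplectic_basis` / `Helper43.exists_congr_J`). -/
theorem orbCount_symND_odd (h2 : (2 : F) ≠ 0) (κ : Type*) [Fintype κ] [DecidableEq κ]
    (i : ℕ) (hi : Odd i) :
    orbCount (1 : Matrix κ κ F) (SymND κ i) = if Even (Fintype.card κ) then 1 else 0 :=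
  Cfsg.Agent.Lib.Helper75.SPC.orbCount_symND_odd h2 κ i hi

/-- LEAF C16 (arithmetic; `hE`, `hO` are the statements of C14, C15 at the fibres of `d`).
`Fintype.card {k // d k = i} = μ.parts.count i`; the sizes `i ≤ sup d` with positive count are exactly the
elements of `μ.parts.toFinset`; `i = 0` has count `0` by `hd`. -/
theorem prod_orbCount_eq_spWeight {n t : ℕ} (μ : Nat.Partition n) (d : Fin t → ℕ)
    (hd : ∀ k, 1 ≤ d k) (hμ : Multiset.map d Finset.univ.val = μ.parts)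
    (hE : ∀ i : ℕ, Even i →
      orbCount (1 : Matrix {k : Fin t // d k = i} {k : Fin t // d k = i} F)
        (SymND {k : Fin t // d k = i} i) = if Fintype.card {k : Fin t // d k = i} = 0 then 1 else 2)
    (hO : ∀ i : ℕ, Odd i →
      orbCount (1 : Matrix {k : Fin t // d k = i} {k : Fin t // d k = i} F)
        (SymND {k : Fin t // d k = i} i) = if Even (Fintype.card {k : Fin t // d k = i}) then 1 else 0) :
    ∏ i ∈ Finset.range (Finset.univ.sup d + 1),
        orbCount (1 : Matrix {k : Fin t // d k = i} {k : Fin t // d k = i} F)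
          (SymND {k : Fin t // d k = i} i) = spWeight μ :=
  Cfsg.Agent.Lib.Helper90.SPC.prod_orbCount_eq_spWeight μ d hd hμ hE hO

/-! ## D. Jordan types and the final count -/

/-- LEAF D1. In characteristic `p`, `g^p - 1 = (g - 1)^p` (`sub_pow_char` for commuting matrices /
`Helper49.orderOf_eq_char_iff` in Lib/Helper49/UnipotentClasses.lean for `GL (Fin n) F`). -/
theorem orderOf_symplectic_eq_char_iff {p : ℕ} [Fact p.Prime] [CharP F p] {m : ℕ}
    (g : ↥(Matrix.symplecticGroup (Fin m) F)) :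
    orderOf g = p ↔ ((g : Matrix (Fin m ⊕ Fin m) (Fin m ⊕ Fin m) F) - 1) ^ p = 0 ∧ g ≠ 1 :=
  Cfsg.Agent.Lib.Helper19.SPC.orderOf_symplectic_eq_char_iff g

/-- LEAF D2 (existence of the Jordan type; reindex `ι ≃ Fin n` and use `Helper49.exists_hasType`,
`Helper49.HasType`, `Helper49.IsJordanBasis` in Lib/Helper49/UnipotentClasses.lean + JordanBasis.lean: a
Jordan basis `b` for `A - 1` gives `P⁻¹ A P = jordanTypeMatrix` with `P` the matrix of `b`). -/
theorem exists_matHasType {ι : Type*} [Fintype ι] [DecidableEq ι] {n : ℕ}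
    (hn : Fintype.card ι = n) (A : Matrix ι ι F) (r : ℕ) (hA : (A - 1) ^ r = 0) :
    ∃ μ : Nat.Partition n, MatHasType A μ :=
  Cfsg.Agent.Lib.Helper67.SPC.exists_matHasType hn A r hA

/-- LEAF D3 (uniqueness of the Jordan type: the multiset of block sizes is determined by the ranks of the
powers of `A - 1`; `Helper49.HasType.isConj_iff`, `Helper49.card_fiber_eq_count`). -/
theorem matHasType_unique {ι : Type*} [Fintype ι] [DecidableEq ι] {n : ℕ} (A : Matrix ι ι F)
    (μ μ' : Nat.Partition n) (h : MatHasType A μ) (h' : MatHasType A μ') : μ = μ' :=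
  Cfsg.Agent.Lib.Helper48.SPC.matHasType_unique A μ μ' h h'

/-- LEAF D4. `(jordanTypeMatrix d F - 1)^r = 0 ↔ ∀ k, d k ≤ r` (compare `Helper49.HasType.pow_eq_zero_iff`,
`Helper80.UCK4b`, `Helper85.UCK6`: `k6_nilM_pow_apply`). -/
theorem matHasType_pow_eq_zero_iff {ι : Type*} [Fintype ι] [DecidableEq ι] {n : ℕ}
    (A : Matrix ι ι F) (μ : Nat.Partition n) (h : MatHasType A μ) (r : ℕ) :
    (A - 1) ^ r = 0 ↔ ∀ a ∈ μ.parts, a ≤ r :=
  Cfsg.Agent.Lib.Helper01.SPC.matHasType_pow_eq_zero_iff A μ h r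

/-- LEAF D5 (same block sizes ⇒ conjugate: permute the blocks). -/
theorem isConj_of_map_eq {ι : Type*} [Fintype ι] [DecidableEq ι] {t t' : ℕ} (d : Fin t → ℕ)
    (d' : Fin t' → ℕ) (e : ((k : Fin t) × Fin (d k)) ≃ ι) (e' : ((k : Fin t') × Fin (d' k)) ≃ ι)
    (h : Multiset.map d Finset.univ.val = Multiset.map d' Finset.univ.val) :
    IsConj (Matrix.reindex e e (Cfsg.jordanTypeMatrix d F))
      (Matrix.reindex e' e' (Cfsg.jordanTypeMatrix d' F)) :=
  Cfsg.Agent.Lib.Helper58.SPC.isConj_of_map_eq d d' e e' h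

/-- LEAF D6 (a partition has data). `t = μ.parts.card`, `d` an enumeration of `μ.parts`
(`Multiset.toList`), `e` any bijection (the cardinalities agree: `∑ d k = n`). -/
theorem exists_data_of_partition {ι : Type*} [Fintype ι] [DecidableEq ι] {n : ℕ}
    (hn : Fintype.card ι = n) (μ : Nat.Partition n) :
    ∃ (t : ℕ) (d : Fin t → ℕ) (_ : ((k : Fin t) × Fin (d k)) ≃ ι), (∀ k, 1 ≤ d k) ∧
      Multiset.map d Finset.univ.val = μ.parts :=
  Cfsg.Agent.Lib.Helper48.SPC.exists_data_of_partition hn μ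

/-- LEAF D7 (the count for one type, hypothesis form). `hcount` is the chain A1 → B0 → B1 → K-UC K6 → B2 →
C13 → C16 for arbitrary data. For the given `μ` take data `(t, d, e)` by `hdata`; by `hperm` the classes
containing an element of type `μ` are those containing a `GL`-conjugate of `reindex e e (jordanTypeMatrix d F)`. -/
theorem card_classes_of_type_of {m : ℕ} (μ : Nat.Partition (2 * m))
    (hdata : ∃ (t : ℕ) (d : Fin t → ℕ) (_ : ((k : Fin t) × Fin (d k)) ≃ (Fin m ⊕ Fin m)),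
      (∀ k, 1 ≤ d k) ∧ Multiset.map d Finset.univ.val = μ.parts)
    (hperm : ∀ (t t' : ℕ) (d : Fin t → ℕ) (d' : Fin t' → ℕ)
      (e : ((k : Fin t) × Fin (d k)) ≃ (Fin m ⊕ Fin m))
      (e' : ((k : Fin t') × Fin (d' k)) ≃ (Fin m ⊕ Fin m)),
      Multiset.map d Finset.univ.val = Multiset.map d' Finset.univ.val →
      IsConj (Matrix.reindex e e (Cfsg.jordanTypeMatrix d F))
        (Matrix.reindex e' e' (Cfsg.jordanTypeMatrix d' F)))
    (hcount : ∀ (t : ℕ) (d : Fin t → ℕ) (e : ((k : Fin t) × Fin (d k)) ≃ (Fin m ⊕ Fin m)),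
      (∀ k, 1 ≤ d k) → Multiset.map d Finset.univ.val = μ.parts →
      Nat.card {C : ConjClasses ↥(Matrix.symplecticGroup (Fin m) F) //
        ∃ g : ↥(Matrix.symplecticGroup (Fin m) F), ConjClasses.mk g = C ∧
          IsConj (Matrix.reindex e e (Cfsg.jordanTypeMatrix d F))
            (g : Matrix (Fin m ⊕ Fin m) (Fin m ⊕ Fin m) F)} = spWeight μ) :
    Nat.card {C : ConjClasses ↥(Matrix.symplecticGroup (Fin m) F) //
        ∃ g : ↥(Matrix.symplecticGroup (Fin m) F), ConjClasses.mk g = C ∧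
          MatHasType (g : Matrix (Fin m ⊕ Fin m) (Fin m ⊕ Fin m) F) μ} = spWeight μ :=
  Cfsg.Agent.Lib.Helper66.SPC.card_classes_of_type_of μ hdata hperm hcount

open Classical in
/-- LEAF D8 (final bookkeeping, hypothesis form; `open Classical`). `hord` = D1, `hex` = D2 at `ι = Fin m ⊕ Fin m`,
`huniq` = D3, `hpow` = D4, `hcnt` = D7-conclusion for every `μ`. The classes of elements of order `p` are
partitioned by the type `μ` (well defined on classes: `IsConj` in `Sp` gives `IsConj` of the matrices), the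
types that occur with `orderOf = p` are those with all parts `≤ p` and some part `> 1`; the all-ones
partition has `spWeight = 1`; types with `spWeight μ = 0` contribute nothing. -/
theorem card_classes_order_p_of [Fintype F] {p : ℕ} [Fact p.Prime] [CharP F p] (m : ℕ)
    (hord : ∀ g : ↥(Matrix.symplecticGroup (Fin m) F),
      orderOf g = p ↔ ((g : Matrix (Fin m ⊕ Fin m) (Fin m ⊕ Fin m) F) - 1) ^ p = 0 ∧ g ≠ 1)
    (hex : ∀ (A : Matrix (Fin m ⊕ Fin m) (Fin m ⊕ Fin m) F) (r : ℕ), (A - 1) ^ r = 0 →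
      ∃ μ : Nat.Partition (2 * m), MatHasType A μ)
    (huniq : ∀ (A : Matrix (Fin m ⊕ Fin m) (Fin m ⊕ Fin m) F) (μ μ' : Nat.Partition (2 * m)),
      MatHasType A μ → MatHasType A μ' → μ = μ')
    (hpow : ∀ (A : Matrix (Fin m ⊕ Fin m) (Fin m ⊕ Fin m) F) (μ : Nat.Partition (2 * m)),
      MatHasType A μ → ∀ r : ℕ, (A - 1) ^ r = 0 ↔ ∀ a ∈ μ.parts, a ≤ r)
    (hcnt : ∀ μ : Nat.Partition (2 * m),
      Nat.card {C : ConjClasses ↥(Matrix.symplecticGroup (Fin m) F) //
        ∃ g : ↥(Matrix.symplecticGroup (Fin m) F), ConjClasses.mk g = C ∧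
          MatHasType (g : Matrix (Fin m ⊕ Fin m) (Fin m ⊕ Fin m) F) μ} = spWeight μ) :
    Nat.card {C : ConjClasses ↥(Matrix.symplecticGroup (Fin m) F) //
        ∃ g : Matrix.symplecticGroup (Fin m) F, ConjClasses.mk g = C ∧ orderOf g = p} =
      (∑ μ ∈ Finset.univ.filter (fun μ : Nat.Partition (2 * m) =>
          (∀ a ∈ μ.parts, a ≤ p) ∧ ∀ j : ℕ, Odd j → Even (μ.parts.count j)),
        2 ^ ((μ.parts.toFinset.filter (fun j : ℕ => Even j)).card)) - 1 :=
  Cfsg.Agent.Lib.Helper47.SPC.card_classes_order_p_of m hord hex huniq hpow hcnt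

end Cfsg.Agent.Lib.Helper73.SPCSpec
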