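import Mathlib
import Cfsg.Prelude.Def_GeometricClasses
import Cfsg.Agent.Lib.Helper73.SU6Defs

set_option autoImplicit false

namespace Cfsg.Agent.Lib.Helper73.SU6K

open Cfsg Cfsg.Geo Cfsg.Agent.Lib.Helper73.SU6
open scoped Matrix MatrixGroups

variable {F : Type*} [Field F]

/-- the transvection matrix `1 + P Pᵀ` -/
def transvMat {n : ℕ} (P : Fin n → F) : Matrix (Fin n) (Fin n) F :=
  1 + Matrix.replicateCol Unit P * Matrix.replicateRow Unit P

theorem transvMat_mulVec {n : ℕ} (P x : Fin n → F) :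
    transvMat P *ᵥ x = x + (P ⬝ᵥ x) • P := by
  ext i
  rw [transvMat, Matrix.add_mulVec, Matrix.one_mulVec, Pi.add_apply, Pi.add_apply, Pi.smul_apply,
    smul_eq_mul, Matrix.mulVec, dotProduct, dotProduct, Finset.sum_mul]
  congr 1
  refine Finset.sum_congr rfl fun j _ => ?_
  rw [Matrix.mul_apply, Fintype.sum_unique]
  simp only [Matrix.replicateCol_apply, Matrix.replicateRow_apply]
  ring

theorem transvMat_det {n : ℕ} (P : Fin n → F) : (transvMat P).det = 1 + P ⬝ᵥ P := by
  rw [transvMat, Matrix.det_one_add_replicateCol_mul_replicateRow]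

/-- in characteristic two, the transvection `x ↦ x + (P·x) P` with `P` a 0/1-vector of even weight
preserves the hermitian form -/
theorem hermForm_transv [CharP F 2] {n : ℕ} (P : Fin n → F) (hP : ∀ i, P i ^ 2 = P i)
    (hPP : ∑ i, P i = 0) (x y : Fin n → F) :
    hermForm n F 2 (x + (P ⬝ᵥ x) • P) (y + (P ⬝ᵥ y) • P) = hermForm n F 2 x y := by
  have h2 : (2 : F) = 0 := by
    have := CharP.cast_eq_zero F 2
    exact_mod_cast this
  set a := P ⬝ᵥ x with ha
  set b := P ⬝ᵥ y with hb
  have hb2 : ∑ i, P i * y i ^ 2 = b ^ 2 := by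
    rw [hb, dotProduct, CharTwo.sum_sq]
    refine Finset.sum_congr rfl fun i _ => ?_
    rw [mul_pow, hP]
  have hax : ∑ i, x i * P i = a := by
    rw [ha, dotProduct]
    exact Finset.sum_congr rfl fun i _ => mul_comm _ _
  unfold hermForm
  have key : ∀ i, (x + a • P) i * ((y + b • P) i) ^ 2 =
      x i * y i ^ 2 + b ^ 2 * (x i * P i) + a * (P i * y i ^ 2) + a * b ^ 2 * P i
        + (x i * y i * b * P i + a * P i * y i * b * P i) * 2 := by
    intro i
    simp only [Pi.add_apply, Pi.smul_apply, smul_eq_mul]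
    have h3 : P i ^ 3 = P i := by rw [pow_succ, hP, ← pow_two, hP]
    linear_combination (x i * b ^ 2) * hP i + (a * b ^ 2) * h3
  rw [Finset.sum_congr rfl fun i _ => key i]
  simp only [Finset.sum_add_distrib, ← Finset.mul_sum, ← Finset.sum_mul, hb2, hax, hPP, h2]
  linear_combination (a * b ^ 2) * h2

/-- the transvection as an element of `SU` -/
theorem exists_transv [CharP F 2] {n : ℕ} (P : Fin n → F) (hP : ∀ i, P i ^ 2 = P i)
    (hPP : ∑ i, P i = 0) :
    ∃ s : GL (Fin n) F, s ∈ GU n F 2 ⊓ specialLinear (Fin n) F ∧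
      ∀ x, (s : Matrix (Fin n) (Fin n) F) *ᵥ x = x + (P ⬝ᵥ x) • P := by
  have hdet : (transvMat P).det = 1 := by
    rw [transvMat_det, dotProduct]
    have : ∑ i, P i * P i = ∑ i, P i := Finset.sum_congr rfl fun i _ => by rw [← pow_two, hP]
    rw [this, hPP, add_zero]
  refine ⟨Matrix.GeneralLinearGroup.mkOfDetNeZero (transvMat P) (by rw [hdet]; exact one_ne_zero),
    ⟨?_, ?_⟩, fun x => transvMat_mulVec P x⟩
  · intro x y
    show hermForm n F 2 (transvMat P *ᵥ x) (transvMat P *ᵥ y) = _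
    rw [transvMat_mulVec, transvMat_mulVec, hermForm_transv P hP hPP]
  · show Matrix.GeneralLinearGroup.det _ = 1
    apply Units.ext
    show (transvMat P).det = 1
    exact hdet

end Cfsg.Agent.Lib.Helper73.SU6K
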