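import Mathlib
import Cfsg.Prelude.Def_GeometricClasses
import Cfsg.Agent.Lib.Helper73.SU6Defs
import Cfsg.Agent.Lib.Helper73.SU6Transv

/-!
# K-SU6-F4: a unitary transvection of `SU_6(2)` that does not preserve the root set
-/

set_option autoImplicit false

namespace Cfsg.Agent.Lib.Helper73.SU6K

open Cfsg Cfsg.Geo Cfsg.Agent.Lib.Helper73.SU6
open scoped Matrix MatrixGroups

variable {F : Type*} [Field F]

open Classical in
/-- the weight as an explicit sum -/
theorem ncard_support_eq_sum (x : Fin 6 → F) :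
    Set.ncard {i : Fin 6 | x i ≠ 0} = ∑ i, if x i ≠ 0 then 1 else 0 := by
  rw [Set.ncard_eq_toFinset_card', Set.toFinset_ofPred, Finset.card_filter]

theorem charP_two_of_card_four [Fintype F] (hF : Fintype.card F = 4) : CharP F 2 := by
  have hchar : ringChar F = 2 := FiniteField.even_card_iff_char_two.mpr (by rw [hF])
  rw [← hchar]; exact ringChar.charP F

/-- K-SU6-F4 -/
theorem exists_outside [Fintype F] (hF : Fintype.card F = 4) :
    ∃ s : GL (Fin 6) F, s ∈ GU 6 F 2 ⊓ specialLinear (Fin 6) F ∧ s ∉ rootStab F := by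
  have := charP_two_of_card_four hF
  have h2 : (2 : F) = 0 := by
    have := CharP.cast_eq_zero F 2
    exact_mod_cast this
  obtain ⟨s, hs, hsx⟩ := exists_transv (F := F) (n := 6) ![1, 1, 1, 1, 0, 0]
    (by intro i; fin_cases i <;> simp) (by simp [Fin.sum_univ_six]; linear_combination 2 * h2)
  refine ⟨s, hs, fun hR => ?_⟩
  have h1 := (hR ![1, 0, 0, 0, 1, 0]).2 (Or.inl (by
    rw [ncard_support_eq_sum]; simp [Fin.sum_univ_six]))
  rw [hsx] at h1
  have hv : (![1, 0, 0, 0, 1, 0] : Fin 6 → F) +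
      ((![1, 1, 1, 1, 0, 0] : Fin 6 → F) ⬝ᵥ ![1, 0, 0, 0, 1, 0]) • ![1, 1, 1, 1, 0, 0]
      = ![0, 1, 1, 1, 1, 0] := by
    ext i
    fin_cases i
    all_goals simp [dotProduct, Fin.sum_univ_six]
    all_goals linear_combination h2
  rw [hv] at h1
  rcases h1 with h1 | h1
  · rw [ncard_support_eq_sum] at h1
    simp [Fin.sum_univ_six] at h1
  · exact h1.1 0 (by simp)

end Cfsg.Agent.Lib.Helper73.SU6K
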