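import Mathlib
import Cfsg.Prelude.Def_GeometricClasses
import Cfsg.Agent.Lib.Helper36.F4
import Cfsg.Agent.Lib.Helper67.SU6F2
import Cfsg.Agent.Lib.Helper73.SU6Defs
import Cfsg.Agent.Lib.Helper73.SU6Transv
import Cfsg.Agent.Lib.Helper73.SU6F4

/-!
# K-SU6-F3: the all-ones transvection lies in `SU_6(2)`, preserves the root set and is not monomial
-/

set_option autoImplicit false

namespace Cfsg.Agent.Lib.Helper73.SU6K

open Cfsg Cfsg.Geo Cfsg.Agent.Lib.Helper73.SU6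
open Cfsg.Agent.Lib.Helper36 (F4)
open scoped Matrix MatrixGroups

/-- weight indicator -/
def wt1 (a : F4) : ℕ := if a = 0 then 0 else 1

/-- Boolean root test over the computable field of order four -/
def rootB (x0 x1 x2 x3 x4 x5 : F4) : Bool :=
  decide (wt1 x0 + wt1 x1 + wt1 x2 + wt1 x3 + wt1 x4 + wt1 x5 = 2) ||
    (decide (x0 ≠ 0) && decide (x1 ≠ 0) && decide (x2 ≠ 0) && decide (x3 ≠ 0) && decide (x4 ≠ 0) &&
      decide (x5 ≠ 0) && decide (x0 * x1 * x2 * x3 * x4 * x5 = 1))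

/-- Boolean universal quantifier over the four elements -/
def allF4 (p : F4 → Bool) : Bool := p F4.z && p F4.o && p F4.w && p F4.v

theorem allF4_spec (p : F4 → Bool) (h : allF4 p = true) (x : F4) : p x = true := by
  unfold allF4 at h
  simp only [Bool.and_eq_true] at h
  cases x
  · exact h.1.1.1
  · exact h.1.1.2
  · exact h.1.2
  · exact h.2

set_option maxRecDepth 100000 in
theorem rootB_transv_all :
    allF4 (fun x0 => allF4 fun x1 => allF4 fun x2 => allF4 fun x3 => allF4 fun x4 => allF4 fun x5 =>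
      !(rootB x0 x1 x2 x3 x4 x5) ||
        rootB (x0 + (x0 + x1 + x2 + x3 + x4 + x5)) (x1 + (x0 + x1 + x2 + x3 + x4 + x5))
          (x2 + (x0 + x1 + x2 + x3 + x4 + x5)) (x3 + (x0 + x1 + x2 + x3 + x4 + x5))
          (x4 + (x0 + x1 + x2 + x3 + x4 + x5)) (x5 + (x0 + x1 + x2 + x3 + x4 + x5))) = true := by
  decide +kernel

theorem rootB_transv (x0 x1 x2 x3 x4 x5 : F4) (h : rootB x0 x1 x2 x3 x4 x5 = true) :
    rootB (x0 + (x0 + x1 + x2 + x3 + x4 + x5)) (x1 + (x0 + x1 + x2 + x3 + x4 + x5))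
      (x2 + (x0 + x1 + x2 + x3 + x4 + x5)) (x3 + (x0 + x1 + x2 + x3 + x4 + x5))
      (x4 + (x0 + x1 + x2 + x3 + x4 + x5)) (x5 + (x0 + x1 + x2 + x3 + x4 + x5)) = true := by
  have h0 := allF4_spec _ (allF4_spec _ (allF4_spec _ (allF4_spec _ (allF4_spec _
    (allF4_spec _ rootB_transv_all x0) x1) x2) x3) x4) x5
  simp only [Bool.or_eq_true, Bool.not_eq_true'] at h0
  rcases h0 with h0 | h0
  · rw [h] at h0; exact absurd h0 (by decide)
  · exact h0

/-- root vectors over `F4` are detected by the Boolean test -/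
theorem isRoot_iff_rootB (x : Fin 6 → F4) :
    IsRoot x ↔ rootB (x 0) (x 1) (x 2) (x 3) (x 4) (x 5) = true := by
  have hite : ∀ (a : F4) (inst : Decidable (a ≠ 0)), (@ite ℕ (a ≠ 0) inst 1 0) = wt1 a := by
    intro a inst; unfold wt1; by_cases ha : a = 0 <;> simp [ha]
  have hall : (∀ i, x i ≠ 0) ↔
      (((((x 0 ≠ 0 ∧ x 1 ≠ 0) ∧ x 2 ≠ 0) ∧ x 3 ≠ 0) ∧ x 4 ≠ 0) ∧ x 5 ≠ 0) := by
    constructor
    · intro h
      exact ⟨⟨⟨⟨⟨h 0, h 1⟩, h 2⟩, h 3⟩, h 4⟩, h 5⟩
    · rintro ⟨⟨⟨⟨⟨h0, h1⟩, h2⟩, h3⟩, h4⟩, h5⟩ i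
      fin_cases i <;> assumption
  unfold IsRoot rootB
  rw [ncard_support_eq_sum, Fin.sum_univ_six, Fin.prod_univ_six, hall]
  simp only [Bool.or_eq_true, Bool.and_eq_true, decide_eq_true_eq, hite]

variable {F : Type*} [Field F]

/-- coordinatewise ring isomorphisms preserve root vectors -/
theorem isRoot_comp_ringEquiv {K : Type*} [Field K] (e : F ≃+* K) (x : Fin 6 → F) :
    IsRoot (fun i => e (x i)) ↔ IsRoot x := by
  unfold IsRoot
  have h1 : {i : Fin 6 | e (x i) ≠ 0} = {i : Fin 6 | x i ≠ 0} := by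
    ext i; simp
  have h2 : (∀ i, e (x i) ≠ 0) ↔ ∀ i, x i ≠ 0 := by simp
  have h3 : (∏ i, e (x i) = 1) ↔ ∏ i, x i = 1 := by
    rw [← map_prod, map_eq_one_iff e e.injective]
  rw [h1, h2, h3]

/-- the all-ones transvection preserves the root set -/
theorem isRoot_allOnes [Fintype F] (hF : Fintype.card F = 4) (x : Fin 6 → F) (hx : IsRoot x) :
    IsRoot (x + ((fun _ => 1 : Fin 6 → F) ⬝ᵥ x) • (fun _ => 1 : Fin 6 → F)) := by
  let e : F ≃+* F4 := FiniteField.ringEquivOfCardEq (hF.trans F4.card_eq.symm)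
  rw [← isRoot_comp_ringEquiv e, isRoot_iff_rootB] at hx ⊢
  have hpt : ∀ i, e ((x + ((fun _ => 1 : Fin 6 → F) ⬝ᵥ x) • (fun _ => 1 : Fin 6 → F)) i) =
      e (x i) + (e (x 0) + e (x 1) + e (x 2) + e (x 3) + e (x 4) + e (x 5)) := by
    intro i
    simp [dotProduct, Fin.sum_univ_six]
  rw [hpt, hpt, hpt, hpt, hpt, hpt]
  exact rootB_transv _ _ _ _ _ _ hx

/-- K-SU6-F3 -/
theorem exists_extra [Fintype F] (hF : Fintype.card F = 4) :
    ∃ t : GL (Fin 6) F, t ∈ GU 6 F 2 ⊓ specialLinear (Fin 6) F ∧ t ∈ rootStab F ∧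
      t ∉ decompositionStabilizer (stdFrame F 6) := by
  have := charP_two_of_card_four hF
  have h2 : (2 : F) = 0 := by
    have := CharP.cast_eq_zero F 2
    exact_mod_cast this
  obtain ⟨t, ht, htx⟩ := exists_transv (F := F) (n := 6) (fun _ => 1)
    (by intro i; simp) (by simp; linear_combination 3 * h2)
  have hinv : ∀ x : Fin 6 → F, (t : Matrix (Fin 6) (Fin 6) F) *ᵥ ((t : Matrix (Fin 6) (Fin 6) F) *ᵥ x) = x := by
    intro x
    rw [htx, htx]
    ext i
    simp [dotProduct, Fin.sum_univ_six]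
    linear_combination (4 * (x 0 + x 1 + x 2 + x 3 + x 4 + x 5)) * h2
  refine ⟨t, ht, ?_, ?_⟩
  · intro x
    constructor
    · intro h
      have := isRoot_allOnes hF _ h
      rw [← htx, hinv] at this
      exact this
    · intro h
      rw [htx]
      exact isRoot_allOnes hF x h
  · intro hD
    obtain ⟨σ, c, hc, hM⟩ := Cfsg.Agent.Lib.Helper67.SU6K.monomial_of_mem_stab t hD
    have hcol : ∀ j : Fin 6, (t : Matrix (Fin 6) (Fin 6) F) j 0 =
        ((Pi.single 0 1 : Fin 6 → F) + ((fun _ => 1 : Fin 6 → F) ⬝ᵥ Pi.single 0 1) • (fun _ => 1 : Fin 6 → F)) j := by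
      intro j
      rw [← htx, Matrix.mulVec_single_one, Matrix.col_apply]
    have h1 := hcol 1
    have h3 := hcol 2
    rw [hM] at h1 h3
    simp [dotProduct] at h1 h3
    have e1 : (1 : Fin 6) = σ 0 := by
      by_contra hne
      rw [if_neg hne] at h1
      exact zero_ne_one h1
    have e2 : (2 : Fin 6) = σ 0 := by
      by_contra hne
      rw [if_neg hne] at h3
      exact zero_ne_one h3
    rw [← e1] at e2
    exact absurd e2 (by decide)

end Cfsg.Agent.Lib.Helper73.SU6K
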