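import Mathlib
import Cfsg.Prelude.Def_GeometricClasses
import Cfsg.Agent.Lib.Helper73.SU6FDefs
import Cfsg.Agent.Lib.Helper57.SU6K1a
import Cfsg.Agent.Lib.Helper86.SU6K1b
import Cfsg.Agent.Lib.Helper21.SU6K2
import Cfsg.Agent.Lib.Helper85.SU6K3
import Cfsg.Agent.Lib.Helper13.SU6K4

/-!
# S5802, `q = 2`: the normaliser of an adjoint-closed cubic field lies in a symplectic-type subfield group

Assembly of the keystones K-SU6-K1a (helper57), K1b (helper86), K2 (helper21), K3 (helper85), K4 (helper13);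
K0 (helper27) is used inside the leaves.
-/

set_option autoImplicit false

namespace Cfsg.Agent.Lib.Helper73.SU6

open Cfsg Cfsg.Geo
open Cfsg.Agent.Lib.Helper84.AschU (adj)
open scoped Matrix MatrixGroups

variable {F : Type*} [Field F] [Fintype F]

/-- assembly -/
theorem field_three_le_subfield_of_two {q : ℕ} (hF : Fintype.card F = q ^ 2) (hq : q = 2)
    (K : Subalgebra F (Matrix (Fin 6) (Fin 6) F)) (hK : IsFieldSubalgebra 3 K)
    (hadj : IsAdjointClosedFor (hermForm 6 F q) K) :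
    ∃ (F₀ : Subfield F) (P : GL (Fin 6) F) (ζ : F), Fintype.card F = Nat.card F₀ ^ 2 ∧ ζ ≠ 0 ∧ ζ + ζ ^ q = 0 ∧
      IsFormRationalStructure (hermForm 6 F q) F₀ ζ P ∧
      (∀ w : Fin 6 → F, (∀ i, w i ∈ F₀) →
        hermForm 6 F q ((P : Matrix (Fin 6) (Fin 6) F) *ᵥ w) ((P : Matrix (Fin 6) (Fin 6) F) *ᵥ w) = 0) ∧
      subalgebraNormalizer K ⊓ (GU 6 F q ⊓ specialLinear (Fin 6) F) ≤ subfieldSubgroup F₀ P := by
  subst hq
  have hF4 : Fintype.card F = 4 := by rw [hF]; norm_num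
  have h2 : (2 : F) = 0 := by
    have e2 := FiniteField.pow_card (2 : F)
    have e3 := FiniteField.pow_card (3 : F)
    rw [hF4] at e2 e3
    linear_combination (-11 : F) * e2 + 2 * e3
  obtain ⟨u, hu, hiso⟩ := Cfsg.Agent.Lib.Helper57.SU6K.exists_isotropic hF K hK hadj
  obtain ⟨v, huv⟩ := Cfsg.Agent.Lib.Helper86.SU6K.exists_hypPair_of_isotropic hF K hK hadj u hu hiso
  obtain ⟨F₀, P, hcard, hrat, halt, hmem, hdet⟩ := Cfsg.Agent.Lib.Helper21.SU6K.exists_structure hF K hK hadj u v huv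
  refine ⟨F₀, P, 1, hcard, one_ne_zero, ?_, hrat, halt, ?_⟩
  · rw [one_pow]; linear_combination h2
  · rintro g ⟨hgN, hgU, hgS⟩
    obtain ⟨l, hlK, hl1, hl⟩ := Cfsg.Agent.Lib.Helper85.SU6K.normalizer_decomp hF K hK hadj u v huv g hgN hgU
    have hl1' : adj hF l * l = 1 := by rwa [mul_eq_one_comm]
    -- the unit `L` with matrix `l`
    let L : GL (Fin 6) F := ⟨l, adj hF l, hl1, hl1'⟩
    have hs : ∀ x, InV0 hF K u v x →
        InV0 hF K u v (((L⁻¹ * g : GL (Fin 6) F) : Matrix (Fin 6) (Fin 6) F) *ᵥ x) := by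
      intro x hx
      obtain ⟨y, hy, hgy⟩ := hl x hx
      have : ((L⁻¹ * g : GL (Fin 6) F) : Matrix (Fin 6) (Fin 6) F) *ᵥ x = y := by
        rw [Units.val_mul, ← Matrix.mulVec_mulVec, hgy]
        show (adj hF l) *ᵥ (l *ᵥ y) = y
        rw [Matrix.mulVec_mulVec, hl1', Matrix.one_mulVec]
      rw [this]; exact hy
    have hds := hdet (L⁻¹ * g) hs
    have hdg : (g : Matrix (Fin 6) (Fin 6) F).det = 1 := by
      have : Matrix.GeneralLinearGroup.det g = 1 := hgS
      have := congrArg Units.val this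
      simpa using this
    have hdl : l.det = 1 := by
      rw [Units.val_mul, Matrix.det_mul, hdg, mul_one] at hds
      have h3 : l.det * (adj hF l).det = 1 := by rw [← Matrix.det_mul, hl1, Matrix.det_one]
      have h4 : ((L⁻¹ : GL (Fin 6) F) : Matrix (Fin 6) (Fin 6) F) = adj hF l := rfl
      rw [h4] at hds
      rw [hds, mul_one] at h3
      exact h3
    obtain ⟨c, hc⟩ := Cfsg.Agent.Lib.Helper13.SU6K.scalar_of_det_one hF K hK hadj u v huv l hlK hl1 hdl
    have hc0 : c ≠ 0 := by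
      rintro rfl
      rw [zero_smul] at hc
      rw [hc, zero_mul] at hl1
      exact zero_ne_one hl1
    refine hmem g ⟨Units.mk0 c hc0, fun x hx => ?_⟩
    obtain ⟨y, hy, hgy⟩ := hl x hx
    refine ⟨y, hy, ?_⟩
    rw [hgy, hc, Matrix.smul_mulVec, Matrix.one_mulVec]
    rfl

end Cfsg.Agent.Lib.Helper73.SU6
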