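import Mathlib
import Cfsg.Prelude.Def_GeometricClasses
import Cfsg.Agent.Lib.Helper73.SU6Defs
import Cfsg.Agent.Lib.Helper68.SU6F1
import Cfsg.Agent.Lib.Helper67.SU6F2
import Cfsg.Agent.Lib.Helper73.SU6F3
import Cfsg.Agent.Lib.Helper73.SU6F4


/-!
# S5802, `q = 2`: the stabiliser of an orthonormal frame is not maximal in `SU_6(2)`

Assembly of the keystones K-SU6-F1 (helper68), F2 (helper67), F3, F4: the frame stabiliser `3^5:S_6` and the unitary transvection
`1 + J` preserve the 378 root vectors of `F_4^6`, another transvection does not.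
-/

set_option autoImplicit false

namespace Cfsg.Agent.Lib.Helper73.SU6

open Cfsg Cfsg.Geo
open scoped Matrix MatrixGroups

variable {F : Type*} [Field F] [Fintype F] {q : ℕ}

/-- assembly -/
theorem frames_not_maximal_of_two (hF : Fintype.card F = q ^ 2) (hq : q = 2)
    (D : Fin 6 → Submodule F (Fin 6 → F)) (hD : IsNondegenerateMDecomposition (hermForm 6 F q) 1 D) :
    ¬ IsMaximalIn (GU 6 F q ⊓ specialLinear (Fin 6) F)
      (decompositionStabilizer D ⊓ (GU 6 F q ⊓ specialLinear (Fin 6) F)) := by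
  intro hmax
  obtain ⟨g, hgU, hg⟩ := Cfsg.Agent.Lib.Helper68.SU6K.exists_conj_stdFrame hF hq D hD
  subst hq
  have hF4 : Fintype.card F = 4 := by rw [hF]; norm_num
  obtain ⟨t, htSU, htR, htD⟩ := Cfsg.Agent.Lib.Helper73.SU6K.exists_extra (F := F) hF4
  obtain ⟨s, hsSU, hsR⟩ := Cfsg.Agent.Lib.Helper73.SU6K.exists_outside (F := F) hF4
  -- SU is normalised by g
  have hSUconj : ∀ x : GL (Fin 6) F, g⁻¹ * x * g ∈ GU 6 F 2 ⊓ specialLinear (Fin 6) F ↔
      x ∈ GU 6 F 2 ⊓ specialLinear (Fin 6) F := by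
    intro x
    have hSL : (specialLinear (Fin 6) F).Normal := by
      unfold specialLinear; infer_instance
    constructor
    · rintro ⟨h1, h2⟩
      refine ⟨?_, ?_⟩
      · have := (GU 6 F 2).mul_mem ((GU 6 F 2).mul_mem hgU h1) ((GU 6 F 2).inv_mem hgU)
        simpa [mul_assoc] using this
      · have := hSL.conj_mem _ h2 g
        simpa [mul_assoc] using this
    · rintro ⟨h1, h2⟩
      refine ⟨(GU 6 F 2).mul_mem ((GU 6 F 2).mul_mem ((GU 6 F 2).inv_mem hgU) h1) hgU, ?_⟩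
      have := hSL.conj_mem _ h2 g⁻¹
      simpa [mul_assoc] using this
  -- the intermediate subgroup
  let M : Subgroup (GL (Fin 6) F) :=
    ((rootStab F ⊓ (GU 6 F 2 ⊓ specialLinear (Fin 6) F)).comap (MulAut.conj g⁻¹).toMonoidHom)
  have hM : ∀ x, x ∈ M ↔ g⁻¹ * x * g ∈ rootStab F ∧ x ∈ GU 6 F 2 ⊓ specialLinear (Fin 6) F := by
    intro x
    rw [Subgroup.mem_comap]
    show (MulAut.conj g⁻¹) x ∈ _ ↔ _
    rw [MulAut.conj_apply, inv_inv, Subgroup.mem_inf, hSUconj]
  have h1 : decompositionStabilizer D ⊓ (GU 6 F 2 ⊓ specialLinear (Fin 6) F) ≤ M := by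
    intro x hx
    rw [hM]
    refine ⟨?_, hx.2⟩
    apply Cfsg.Agent.Lib.Helper67.SU6K.stdFrame_stab_le_rootStab hF4
    exact ⟨(hg x).1 hx.1, ((hSUconj x).2 hx.2).2⟩
  have h2 : M ≤ GU 6 F 2 ⊓ specialLinear (Fin 6) F := fun x hx => ((hM x).1 hx).2
  rcases hmax.2 M h1 h2 with h | h
  · -- g t g⁻¹ ∈ M but not in the stabiliser
    have hmem : g * t * g⁻¹ ∈ M := by
      rw [hM]
      refine ⟨by simpa [mul_assoc] using htR, ?_⟩
      have := (hSUconj (g * t * g⁻¹)).1 (by simpa [mul_assoc] using htSU)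
      exact this
    rw [h] at hmem
    have := (hg _).1 hmem.1
    exact htD (by simpa [mul_assoc] using this)
  · have hmem : g * s * g⁻¹ ∈ M := by
      rw [h]
      exact (hSUconj (g * s * g⁻¹)).1 (by simpa [mul_assoc] using hsSU)
    have := ((hM _).1 hmem).1
    exact hsR (by simpa [mul_assoc] using this)

end Cfsg.Agent.Lib.Helper73.SU6
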