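import Mathlib
import Cfsg.Prelude.Def_GeometricClasses
import Cfsg.Agent.S5663
import Cfsg.Agent.Lib.Helper38.SUMaxG1
import Cfsg.Agent.Lib.Helper32.SUMaxN1
import Cfsg.Agent.Lib.Helper26.SUMaxN2
import Cfsg.Agent.Lib.Helper14.SUMaxN3
import Cfsg.Agent.Lib.Helper47.SUMaxN4
import Cfsg.Agent.Lib.Helper70.SUMaxN5
import Cfsg.Agent.Lib.Helper94.SUMaxD6a
import Cfsg.Agent.Lib.Helper91.SUMaxD6b
import Cfsg.Agent.Lib.Helper79.SUMaxXA
import Cfsg.Agent.Lib.Helper49.SUMaxXB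
import Cfsg.Agent.Lib.Helper36.SLMaxD2
import Cfsg.Agent.Lib.Helper63.SLMaxD3
import Cfsg.Agent.Lib.Helper73.SU6Frames
import Cfsg.Agent.Lib.Helper73.SU6Field

/-!
# The keystones used by the S5802 row file, re-exported under one namespace
(S5663 = helper61's team; SUMax leaves of helper44's pack; SLMax D2/D3; the two `q = 2` leaves of helper73's SU6 pack)
-/

set_option autoImplicit false

namespace Cfsg.Agent.Lib.Helper73.SU6Keys

open Cfsg Cfsg.Geo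
open scoped Matrix Kronecker MatrixGroups

variable {F : Type*} [Field F] [Fintype F]

theorem aschbacher_unitary (n q : ℕ) (hF : Fintype.card F = q ^ 2) (hn : 3 ≤ n) (hex : ¬ (n = 3 ∧ q = 2))
    (H : Subgroup (GL (Fin n) F)) (hH : H ≤ GU n F q ⊓ specialLinear (Fin n) F)
    (hproper : H ⊔ (scalars (Fin n) F ⊓ (GU n F q ⊓ specialLinear (Fin n) F)) ≠ GU n F q ⊓ specialLinear (Fin n) F) :
    (∃ M : Subgroup (GL (Fin n) F), InUnitaryClass n F q M ∧ H ≤ M) ∨ InUnitaryResidualClass H :=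
  Cfsg.Agent.S5663.result n q hF hn hex H hH hproper

theorem sup_scalars_ne_of_isMaximalIn {n q : ℕ} (hF : Fintype.card F = q ^ 2) (hn : 3 ≤ n) (hex : ¬ (n = 3 ∧ q = 2))
    (H : Subgroup (GL (Fin n) F)) (hH : IsMaximalIn (GU n F q ⊓ specialLinear (Fin n) F) H) :
    H ⊔ (scalars (Fin n) F ⊓ (GU n F q ⊓ specialLinear (Fin n) F)) ≠ GU n F q ⊓ specialLinear (Fin n) F :=
  Cfsg.Agent.Lib.Helper38.SUMax.sup_scalars_ne_of_isMaximalIn hF hn hex H hH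

theorem su_not_le_subspaceStabilizer {n q : ℕ} (hF : Fintype.card F = q ^ 2) (hn : 3 ≤ n) (hex : ¬ (n = 3 ∧ q = 2))
    (W : Submodule F (Fin n → F)) (h0 : W ≠ ⊥) (h1 : W ≠ ⊤) :
    ¬ GU n F q ⊓ specialLinear (Fin n) F ≤ subspaceStabilizer W :=
  Cfsg.Agent.Lib.Helper32.SUMax.su_not_le_subspaceStabilizer hF hn hex W h0 h1

theorem su_not_le_decompositionStabilizer {n q : ℕ} (hF : Fintype.card F = q ^ 2) (hn : 3 ≤ n) (hex : ¬ (n = 3 ∧ q = 2)) {t k : ℕ}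
    (D : Fin t → Submodule F (Fin n → F)) (hD : IsMDecomposition k D) :
    ¬ GU n F q ⊓ specialLinear (Fin n) F ≤ decompositionStabilizer D :=
  Cfsg.Agent.Lib.Helper26.SUMax.su_not_le_decompositionStabilizer hF hn hex D hD

theorem su_not_le_subalgebraNormalizer {n q : ℕ} (hF : Fintype.card F = q ^ 2) (hn : 3 ≤ n) (hex : ¬ (n = 3 ∧ q = 2)) {r : ℕ} (hr : 2 ≤ r)
    (K : Subalgebra F (Matrix (Fin n) (Fin n) F)) (hK : IsFieldSubalgebra r K) :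
    ¬ GU n F q ⊓ specialLinear (Fin n) F ≤ subalgebraNormalizer K :=
  Cfsg.Agent.Lib.Helper14.SUMax.su_not_le_subalgebraNormalizer hF hn hex hr K hK

theorem su_not_le_tensorProductSubgroup {n q : ℕ} (hF : Fintype.card F = q ^ 2) (hn : 3 ≤ n) (hex : ¬ (n = 3 ∧ q = 2)) {n₁ n₂ : ℕ}
    (h₁ : 2 ≤ n₁) (h₂ : 2 ≤ n₂) (e : Fin n ≃ Fin n₁ × Fin n₂) (P : GL (Fin n) F) :
    ¬ GU n F q ⊓ specialLinear (Fin n) F ≤ tensorProductSubgroup n₁ n₂ e P :=
  Cfsg.Agent.Lib.Helper47.SUMax.su_not_le_tensorProductSubgroup hF hn hex h₁ h₂ e P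

theorem su_not_le_subfieldSubgroup {n q : ℕ} (hF : Fintype.card F = q ^ 2) (hn : 3 ≤ n) (hex : ¬ (n = 3 ∧ q = 2)) (F₀ : Subfield F) (r : ℕ)
    (hr : r.Prime) (hF₀ : Fintype.card F = Nat.card F₀ ^ r) (P : GL (Fin n) F) :
    ¬ GU n F q ⊓ specialLinear (Fin n) F ≤ subfieldSubgroup F₀ P :=
  Cfsg.Agent.Lib.Helper70.SUMax.su_not_le_subfieldSubgroup hF hn hex F₀ r hr hF₀ P

theorem card_sq_mul_card_center_fin {n : ℕ} (hn : 0 < n)
    (R : Subgroup (GL (Fin n) F)) (habs : ActsAbsolutelyIrreducibly (matrixSet R))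
    (hcl : ∀ g ∈ R, ∀ h ∈ R, ∀ x ∈ R, (g * h * g⁻¹ * h⁻¹) * x = x * (g * h * g⁻¹ * h⁻¹)) :
    n ^ 2 * Nat.card (Subgroup.center R) = Nat.card R :=
  Cfsg.Agent.Lib.Helper94.SUMax.card_sq_mul_card_center_fin hn R habs hcl

theorem commutator_central_of_symplecticType {n : ℕ} {r : ℕ}
    (R : Subgroup (GL (Fin n) F)) (hR : IsSymplecticTypeGroup r R) :
    ∀ g ∈ R, ∀ h ∈ R, ∀ x ∈ R, (g * h * g⁻¹ * h⁻¹) * x = x * (g * h * g⁻¹ * h⁻¹) :=
  Cfsg.Agent.Lib.Helper91.SUMax.commutator_central_of_symplecticType R hR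

theorem nondeg_planes_le_lines_of_two {n q : ℕ} (hF : Fintype.card F = q ^ 2) (hq : q = 2) {t : ℕ}
    (D : Fin t → Submodule F (Fin n → F)) (hD : IsNondegenerateMDecomposition (hermForm n F q) 2 D) :
    ∃ (t' : ℕ) (D' : Fin t' → Submodule F (Fin n → F)),
      IsNondegenerateMDecomposition (hermForm n F q) 1 D' ∧
      decompositionStabilizer D ⊓ GU n F q ≤ decompositionStabilizer D' :=
  Cfsg.Agent.Lib.Helper79.SUMax.nondeg_planes_le_lines_of_two hF hq D hD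

theorem tensor_two_le_decomposition_of_two {n q : ℕ} (hF : Fintype.card F = q ^ 2) (hq : q = 2) {n₂ : ℕ}
    (hn₂ : 1 ≤ n₂)
    (e : Fin n ≃ Fin 2 × Fin n₂) (P : GL (Fin n) F)
    (f₁ : (Fin 2 → F) → (Fin 2 → F) → F) (f₂ : (Fin n₂ → F) → (Fin n₂ → F) → F)
    (h₁ : IsUnitaryFormPow q f₁) (h₂ : IsUnitaryFormPow q f₂)
    (hT : IsTensorFormStructure (fun x : F => x ^ q) (hermForm n F q) f₁ f₂ e P) :
    ∃ D : Fin 2 → Submodule F (Fin n → F), IsNondegenerateMDecomposition (hermForm n F q) n₂ D ∧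
      tensorProductSubgroup 2 n₂ e P ⊓ GU n F q ≤ decompositionStabilizer D :=
  Cfsg.Agent.Lib.Helper49.SUMax.tensor_two_le_decomposition_of_two hF hq hn₂ e P f₁ f₂ h₁ h₂ hT

theorem frames_not_maximal_of_two {q : ℕ} (hF : Fintype.card F = q ^ 2) (hq : q = 2)
    (D : Fin 6 → Submodule F (Fin 6 → F)) (hD : IsNondegenerateMDecomposition (hermForm 6 F q) 1 D) :
    ¬ IsMaximalIn (GU 6 F q ⊓ specialLinear (Fin 6) F)
      (decompositionStabilizer D ⊓ (GU 6 F q ⊓ specialLinear (Fin 6) F)) :=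
  Cfsg.Agent.Lib.Helper73.SU6.frames_not_maximal_of_two hF hq D hD

theorem field_three_le_subfield_of_two {q : ℕ} (hF : Fintype.card F = q ^ 2) (hq : q = 2)
    (K : Subalgebra F (Matrix (Fin 6) (Fin 6) F)) (hK : IsFieldSubalgebra 3 K)
    (hadj : IsAdjointClosedFor (hermForm 6 F q) K) :
    ∃ (F₀ : Subfield F) (P : GL (Fin 6) F) (ζ : F), Fintype.card F = Nat.card F₀ ^ 2 ∧ ζ ≠ 0 ∧ ζ + ζ ^ q = 0 ∧
      IsFormRationalStructure (hermForm 6 F q) F₀ ζ P ∧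
      (∀ w : Fin 6 → F, (∀ i, w i ∈ F₀) →
        hermForm 6 F q ((P : Matrix (Fin 6) (Fin 6) F) *ᵥ w) ((P : Matrix (Fin 6) (Fin 6) F) *ᵥ w) = 0) ∧
      subalgebraNormalizer K ⊓ (GU 6 F q ⊓ specialLinear (Fin 6) F) ≤ subfieldSubgroup F₀ P :=
  Cfsg.Agent.Lib.Helper73.SU6.field_three_le_subfield_of_two hF hq K hK hadj

theorem mul_eq_of_isMDecomposition {n : ℕ} {t m : ℕ} (D : Fin t → Submodule F (Fin n → F))
    (hD : IsMDecomposition m D) : t * m = n :=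
  Cfsg.Agent.Lib.Helper36.SLMax.mul_eq_of_isMDecomposition D hD

theorem dvd_of_isFieldSubalgebra {n : ℕ} {r : ℕ} (K : Subalgebra F (Matrix (Fin n) (Fin n) F)) (hK : IsFieldSubalgebra r K) :
    r ∣ n :=
  Cfsg.Agent.Lib.Helper63.SLMax.dvd_of_isFieldSubalgebra K hK

end Cfsg.Agent.Lib.Helper73.SU6Keys
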