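import Mathlib
import Cfsg.Prelude.Def_GeometricClasses
import Cfsg.Agent.Lib.Helper73.SU6Keys

/-!
# Glue lemmas for S5802 (maximal subgroups of `SU_6(q)`)
-/

set_option autoImplicit false

namespace Cfsg.Agent.Lib.Helper73.SU6Glue

open Cfsg Cfsg.Geo Cfsg.Agent.Lib.Helper73.SU6Keys
open scoped Matrix Kronecker MatrixGroups

variable {F : Type*} [Field F] [Fintype F] {n q : ℕ}

lemma two_le_q (hF : Fintype.card F = q ^ 2) : 2 ≤ q := by
  have h1 : 1 < Fintype.card F := Fintype.one_lt_card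
  rw [hF] at h1
  by_contra h
  have hq : q ≤ 1 := by omega
  have : q ^ 2 ≤ 1 ^ 2 := Nat.pow_le_pow_left hq 2
  omega

lemma ne_top_of_isTotallySingularFor (hF : Fintype.card F = q ^ 2) (hn : 1 ≤ n) (W : Submodule F (Fin n → F))
    (hW : IsTotallySingularFor (hermForm n F q) W) : W ≠ ⊤ := by
  rintro rfl
  have hq := two_le_q hF
  have h := hW (Pi.single ⟨0, by omega⟩ 1) trivial (Pi.single ⟨0, by omega⟩ 1) trivial
  unfold hermForm at h
  rw [Finset.sum_eq_single (⟨0, by omega⟩ : Fin n)] at h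
  · simp at h
  · intro j _ hj
    rw [Pi.single_eq_of_ne hj, zero_mul]
  · intro h0; exact absurd (Finset.mem_univ _) h0

lemma ne_top_of_two_mul_finrank_lt (W : Submodule F (Fin n → F)) (h : 2 * Module.finrank F W < n) : W ≠ ⊤ := by
  rintro rfl
  rw [finrank_top, Module.finrank_fin_fun] at h
  omega

/-- A maximal subgroup contained in `X`, where `X` does not contain `SU`, equals `X ⊓ SU`. -/
lemma eq_inf_of_le {G : Type*} [Group G] {S H : Subgroup G} (hH : IsMaximalIn S H) {X : Subgroup G}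
    (hX : H ≤ X) (hnot : ¬ S ≤ X) : H = X ⊓ S := by
  rcases hH.2 (X ⊓ S) (le_inf hX hH.1.le) inf_le_right with h | h
  · exact h.symm
  · exact absurd (inf_eq_right.mp h) hnot

lemma six_eq_mul_of_equiv {n₁ n₂ : ℕ} (e : Fin 6 ≃ Fin n₁ × Fin n₂) : n₁ * n₂ = 6 := by
  have := Fintype.card_congr e
  simpa using this.symm

lemma six_eq_pow_of_equiv {k t : ℕ} (e : Fin 6 ≃ (Fin t → Fin k)) : k ^ t = 6 := by
  have := Fintype.card_congr e
  simpa using this.symm

end Cfsg.Agent.Lib.Helper73.SU6Glue
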