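import Mathlib
import Cfsg.Prelude.Def_Transfer
import Cfsg.Agent.Lib.Helper73.SqFCount
import Cfsg.Agent.Lib.Helper63.SqFL2
import Cfsg.Agent.Lib.Helper09.SqFCovering
import Cfsg.Agent.Lib.Helper03.NormalPComplement
import Cfsg.Agent.Lib.Helper60.TwoComplement
import Cfsg.Agent.Lib.Helper21.SqFL5

/-!
# Cossey–Wang: `p ^ 2`-free class sizes for the smallest prime give a normal `p`-complement
-/

set_option autoImplicit false
set_option linter.unusedSectionVars false

namespace Cfsg.Agent.Lib.Helper73.SqF

open Subgroup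

universe u

section quot

variable {G : Type u} [Group G]

/-- class sizes in a quotient divide class sizes upstairs -/
theorem index_centralizer_quotient_dvd' (N : Subgroup G) [N.Normal] (x : G) :
    (centralizer ({(QuotientGroup.mk' N x)} : Set (G ⧸ N))).index ∣
      (centralizer ({x} : Set G)).index := by
  have h1 : (centralizer ({x} : Set G)).map (QuotientGroup.mk' N) ≤
      centralizer ({(QuotientGroup.mk' N x)} : Set (G ⧸ N)) := by
    rintro _ ⟨c, hc, rfl⟩
    have hc' : c * x = x * c := mem_centralizer_singleton_iff.1 hc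
    rw [mem_centralizer_singleton_iff, ← map_mul, ← map_mul, hc']
  exact (Subgroup.index_dvd_of_le h1).trans
    (Subgroup.index_map_dvd _ (QuotientGroup.mk'_surjective N))

/-- class sizes in a normal subgroup divide class sizes in the group -/
theorem index_centralizer_normal_dvd' [Finite G] (N : Subgroup G) [N.Normal] (x : N) :
    (centralizer ({x} : Set N)).index ∣ (centralizer ({(x : G)} : Set G)).index := by
  have h1 : centralizer ({x} : Set N) = (centralizer ({(x : G)} : Set G)).subgroupOf N := by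
    ext y
    rw [mem_subgroupOf, mem_centralizer_singleton_iff, mem_centralizer_singleton_iff]
    constructor
    · intro h
      have := congrArg Subtype.val h
      simpa using this
    · intro h
      exact Subtype.ext (by simpa using h)
  rw [h1]
  exact Cfsg.Agent.Lib.Helper21.SqF.relIndex_dvd_index_of_normal_right _ N

/-- the quotient by a central `p`-subgroup detects normal `p`-complements -/
theorem npc_of_quotient_central' [Finite G] (p : ℕ) [hp : Fact p.Prime] (Z : Subgroup G) [Z.Normal]
    (hZp : IsPGroup p Z) (hZc : Z ≤ center G)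
    (h : Cfsg.HasNormalPComplement p (G ⧸ Z)) : Cfsg.HasNormalPComplement p G := by
  obtain ⟨Nb, hNbn, hNbcard, hNbmem⟩ := npc_mem_iff p h
  set v := (Nat.card (G ⧸ Z)).factorization p with hv
  set K₁ : Subgroup G := Nb.comap (QuotientGroup.mk' Z) with hK₁
  have hK₁n : K₁.Normal := hNbn.comap _
  have hidxNb : Nb.index = p ^ v := by
    have h2 := Nb.card_mul_index
    exact Nat.eq_of_mul_eq_mul_left Nat.card_pos (h2.trans hNbcard.symm)
  have hidx : K₁.index = p ^ v := by
    rw [hK₁, Subgroup.index_comap_of_surjective Nb (QuotientGroup.mk'_surjective Z), hidxNb]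
  -- `|Nb|` is prime to `p`
  have hNbcop : ¬ p ∣ Nat.card Nb := by
    intro hd
    obtain ⟨y, hy⟩ := exists_prime_orderOf_dvd_card' (G := Nb) p hd
    have h1 := (hNbmem y.1).1 y.2
    rw [Subgroup.orderOf_coe, hy] at h1
    exact hp.out.one_lt.ne' ((Nat.coprime_self p).1 h1)
  have hcardK : Nat.card K₁ = Nat.card Z * Nat.card Nb := card_comap_mk_aux Z Nb
  obtain ⟨a, ha⟩ := IsPGroup.iff_card.1 hZp
  have hZK : Z ≤ K₁ := by
    intro z hz
    rw [hK₁, mem_comap]
    have : QuotientGroup.mk' Z z = 1 := (QuotientGroup.eq_one_iff z).2 hz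
    rw [this]
    exact one_mem _
  have hfac : (Nat.card K₁).factorization p = a := by
    rw [hcardK, ha, Nat.factorization_mul (pow_pos hp.out.pos a).ne' Nat.card_pos.ne',
      hp.out.factorization_pow]
    simp [Nat.factorization_eq_zero_of_not_dvd hNbcop]
  have hQcard : Nat.card (Z.subgroupOf K₁) = p ^ (Nat.card K₁).factorization p := by
    rw [hfac, ← ha]
    exact Nat.card_congr (Subgroup.subgroupOfEquivOfLe hZK).toEquiv
  let Q : Sylow p K₁ := Sylow.ofCard (Z.subgroupOf K₁) hQcard
  have hQ : normalizer ((Q : Subgroup K₁) : Set K₁) ≤ centralizer ((Q : Subgroup K₁) : Set K₁) := by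
    intro y _
    rw [mem_centralizer_iff]
    intro z hz
    have hz' : (z : G) ∈ Z := mem_subgroupOf.1 hz
    have := mem_center_iff.1 (hZc hz') (y : G)
    exact Subtype.ext (by simpa using this.symm)
  have hnpcK : Cfsg.HasNormalPComplement p K₁ :=
    Cfsg.Agent.Lib.Helper03.hasNormalPComplement_of_normalizer_le_centralizer Q hQ
  exact Cfsg.Agent.Lib.Helper60.hasNormalPComplement_of_normal_of_index_pow K₁ v hidx hnpcK

end quot

section inherit

variable {G : Type u} [Group G] [Finite G] (p : ℕ) [hp : Fact p.Prime]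

/-- abelian Sylow `p`-subgroups pass to subgroups -/
theorem sylow_abelian_subgroup
    (hab : ∀ P : Sylow p G, ∀ a ∈ (P : Subgroup G), ∀ b ∈ (P : Subgroup G), a * b = b * a)
    (H : Subgroup G) (Q : Sylow p H) :
    ∀ a ∈ (Q : Subgroup H), ∀ b ∈ (Q : Subgroup H), a * b = b * a := by
  intro a ha b hb
  have hQ : IsPGroup p ((Q : Subgroup H).map H.subtype) := Q.2.map _
  obtain ⟨P₁, hP₁⟩ := hQ.exists_le_sylow
  have h1 := hab P₁ (a : G) (hP₁ ⟨a, ha, rfl⟩) (b : G) (hP₁ ⟨b, hb, rfl⟩)
  exact Subtype.ext (by simpa using h1)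

/-- abelian Sylow `p`-subgroups pass to quotients by normal `p`-subgroups -/
theorem sylow_abelian_quotient
    (hab : ∀ P : Sylow p G, ∀ a ∈ (P : Subgroup G), ∀ b ∈ (P : Subgroup G), a * b = b * a)
    (Z : Subgroup G) [Z.Normal] (hZ : IsPGroup p Z) (Q : Sylow p (G ⧸ Z)) :
    ∀ a ∈ (Q : Subgroup (G ⧸ Z)), ∀ b ∈ (Q : Subgroup (G ⧸ Z)), a * b = b * a := by
  intro a ha b hb
  have hker : IsPGroup p (QuotientGroup.mk' Z).ker := by
    rw [QuotientGroup.ker_mk']; exact hZ
  have hL : IsPGroup p ((Q : Subgroup (G ⧸ Z)).comap (QuotientGroup.mk' Z)) :=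
    Q.2.comap_of_ker_isPGroup _ hker
  obtain ⟨P₁, hP₁⟩ := hL.exists_le_sylow
  obtain ⟨a', rfl⟩ := QuotientGroup.mk'_surjective Z a
  obtain ⟨b', rfl⟩ := QuotientGroup.mk'_surjective Z b
  have h1 := hab P₁ a' (hP₁ (mem_comap.2 ha)) b' (hP₁ (mem_comap.2 hb))
  rw [← map_mul, ← map_mul, h1]

end inherit

section thmB

/-- **Theorem B** (auxiliary, by induction on the order). -/
theorem npc_of_abelian_sylow_aux (p : ℕ) [hp : Fact p.Prime] :
    ∀ (n : ℕ) (G : Type u) [Group G] [Finite G], Nat.card G = n →
      (∀ r : ℕ, r.Prime → r ∣ Nat.card G → p ≤ r) →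
      (∀ P : Sylow p G, ∀ a ∈ (P : Subgroup G), ∀ b ∈ (P : Subgroup G), a * b = b * a) →
      (∀ x : G, ¬ p ^ 2 ∣ (centralizer ({x} : Set G)).index) →
      Cfsg.HasNormalPComplement p G := by
  intro n
  induction n using Nat.strong_induction_on with
  | _ n ih =>
  intro G _ _ hcard hmin hab h
  let P : Sylow p G := default
  by_cases hZ : (P : Subgroup G) ⊓ center G = ⊥
  · by_cases hNC : normalizer ((P : Subgroup G) : Set G) ≤ centralizer ((P : Subgroup G) : Set G)
    · exact Cfsg.Agent.Lib.Helper03.hasNormalPComplement_of_normalizer_le_centralizer P hNC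
    · exfalso
      obtain ⟨w, hwN, hwC⟩ := SetLike.not_le_iff_exists.1 hNC
      refine counting_false p P hmin (hab P) ?_ (fun x _ => h x) w hwN hwC
      intro u hu1 hu
      have hne : centralizer ({u} : Set G) ≠ ⊤ := by
        intro htop
        apply hu1
        have hc : u ∈ center G := by
          rw [← index_Cz_eq_one_iff, htop, Subgroup.index_top]
        obtain ⟨P₁, hP₁⟩ := exists_sylow_mem p u hu
        obtain ⟨g, hg⟩ := MulAction.exists_smul_eq G P₁ P
        have huP : u ∈ (P : Subgroup G) := by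
          rw [← hg, Sylow.coe_subgroup_smul]
          refine ⟨u, hP₁, ?_⟩
          simp only [MulDistribMulAction.toMonoidEnd_apply, MulDistribMulAction.toMonoidHom_apply,
            MulAut.smul_def, MulAut.conj_apply]
          rw [mem_center_iff.1 hc g]
          group
        have : u ∈ (P : Subgroup G) ⊓ center G := ⟨huP, hc⟩
        rw [hZ] at this
        exact (mem_bot).1 this
      have hlt : Nat.card (centralizer ({u} : Set G)) < n := by
        rw [← hcard]
        apply lt_of_le_of_ne (Subgroup.card_le_card_group _)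
        intro heq
        exact hne (Subgroup.eq_top_of_card_eq _ heq)
      refine ih _ hlt ↥(centralizer ({u} : Set G)) rfl ?_
        (fun Q => sylow_abelian_subgroup p hab _ Q)
        (Cfsg.Agent.Lib.Helper63.SqF.sfp_centralizer p hab h u hu)
      intro r hr hrd
      exact hmin r hr (hrd.trans (Subgroup.card_subgroup_dvd_card _))
  · set Z0 : Subgroup G := (P : Subgroup G) ⊓ center G with hZ0
    have hZ0c : Z0 ≤ center G := inf_le_right
    have hZ0n : Z0.Normal := by
      refine ⟨fun z hz g => ?_⟩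
      have := mem_center_iff.1 (hZ0c hz) g
      have h2 : g * z * g⁻¹ = z := by
        rw [this]; group
      rw [h2]; exact hz
    have hZ0p : IsPGroup p Z0 := P.2.to_le inf_le_left
    apply npc_of_quotient_central' p Z0 hZ0p hZ0c
    have hlt : Nat.card (G ⧸ Z0) < n := by
      rw [← hcard, Subgroup.card_eq_card_quotient_mul_card_subgroup Z0]
      have h1 : 1 < Nat.card Z0 := by
        rw [Subgroup.one_lt_card_iff_ne_bot]
        exact hZ
      have h2 : 0 < Nat.card (G ⧸ Z0) := Nat.card_pos
      nlinarith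
    refine ih _ hlt (G ⧸ Z0) rfl ?_ (fun Q => sylow_abelian_quotient p hab Z0 hZ0p Q) ?_
    · intro r hr hrd
      exact hmin r hr (hrd.trans (Subgroup.card_quotient_dvd_card Z0))
    · intro x hx
      obtain ⟨x', rfl⟩ := QuotientGroup.mk'_surjective Z0 x
      exact h x' (hx.trans (index_centralizer_quotient_dvd' Z0 x'))

/-- **Theorem B.** Abelian Sylow `p`-subgroups, `p` the smallest prime, `p ^ 2`-free class sizes:
normal `p`-complement. -/
theorem npc_of_abelian_sylow {G : Type u} [Group G] [Finite G] (p : ℕ) [Fact p.Prime]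
    (hmin : ∀ r : ℕ, r.Prime → r ∣ Nat.card G → p ≤ r)
    (hab : ∀ P : Sylow p G, ∀ a ∈ (P : Subgroup G), ∀ b ∈ (P : Subgroup G), a * b = b * a)
    (h : ∀ x : G, ¬ p ^ 2 ∣ (centralizer ({x} : Set G)).index) :
    Cfsg.HasNormalPComplement p G :=
  npc_of_abelian_sylow_aux p _ G rfl hmin hab h

end thmB

section thmA

open scoped commutatorElement

/-- conjugation by elements of `H` preserves `⁅H, H⁆` -/
theorem conj_mem_commutator_self {G : Type u} [Group G] (H : Subgroup G) {g d : G} (hg : g ∈ H)
    (hd : d ∈ ⁅H, H⁆) : g * d * g⁻¹ ∈ ⁅H, H⁆ := by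
  rw [← Subgroup.map_subtype_commutator] at hd ⊢
  obtain ⟨d₀, hd₀, rfl⟩ := hd
  have hn : (_root_.commutator H).Normal := inferInstance
  exact ⟨⟨g, hg⟩ * d₀ * ⟨g, hg⟩⁻¹, hn.conj_mem d₀ hd₀ ⟨g, hg⟩, rfl⟩

/-- `H` normalizes the centralizer of its derived subgroup -/
theorem le_normalizer_centralizer_commutator {G : Type u} [Group G] (H : Subgroup G) :
    H ≤ normalizer ((centralizer ((⁅H, H⁆ : Subgroup G) : Set G) : Subgroup G) : Set G) := by
  have key : ∀ g ∈ H, ∀ c ∈ centralizer ((⁅H, H⁆ : Subgroup G) : Set G),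
      g * c * g⁻¹ ∈ centralizer ((⁅H, H⁆ : Subgroup G) : Set G) := by
    intro g hg c hc
    rw [mem_centralizer_iff] at hc ⊢
    intro d hd
    have hd' : g⁻¹ * d * g⁻¹⁻¹ ∈ ⁅H, H⁆ := conj_mem_commutator_self H (inv_mem hg) hd
    have h1 := hc _ hd'
    calc d * (g * c * g⁻¹) = g * ((g⁻¹ * d * g⁻¹⁻¹) * c) * g⁻¹ := by group
      _ = g * (c * (g⁻¹ * d * g⁻¹⁻¹)) * g⁻¹ := by rw [h1]
      _ = g * c * g⁻¹ * d := by group
  intro g hg
  rw [mem_normalizer_iff]
  intro c
  constructor
  · exact key g hg c
  · intro h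
    have := key g⁻¹ (inv_mem hg) _ h
    have e : g⁻¹ * (g * c * g⁻¹) * g⁻¹⁻¹ = c := by group
    rwa [e] at this

/-- **Theorem A** (auxiliary, by induction on the order). -/
theorem npc_of_sq_free_aux (p : ℕ) [hp : Fact p.Prime] :
    ∀ (n : ℕ) (G : Type u) [Group G] [Finite G], Nat.card G = n →
      (∀ r : ℕ, r.Prime → r ∣ Nat.card G → p ≤ r) →
      (∀ x : G, ¬ p ^ 2 ∣ (centralizer ({x} : Set G)).index) →
      Cfsg.HasNormalPComplement p G := by
  intro n
  induction n using Nat.strong_induction_on with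
  | _ n ih =>
  intro G _ _ hcard hmin h
  let P : Sylow p G := default
  set D : Subgroup G := ⁅(P : Subgroup G), (P : Subgroup G)⁆ with hD
  set C : Subgroup G := centralizer (D : Set G) with hC
  have hsup : (P : Subgroup G) ⊔ C = ⊤ :=
    Cfsg.Agent.Lib.Helper09.SqF.sylow_sup_centralizer_commutator_eq_top p P (fun x _ => h x)
  have hCn : C.Normal := by
    rw [← normalizer_eq_top_iff, eq_top_iff, ← hsup]
    exact sup_le (le_normalizer_centralizer_commutator (P : Subgroup G)) le_normalizer
  have hDP : D ≤ (P : Subgroup G) := by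
    rw [hD, Subgroup.commutator_le]
    intro a ha b hb
    exact mul_mem (mul_mem (mul_mem ha hb) (inv_mem ha)) (inv_mem hb)
  by_cases hCtop : C = ⊤
  · -- `D` is central
    have hDc : D ≤ center G := by
      intro d hd
      rw [mem_center_iff]
      intro g
      have hg : g ∈ C := by rw [hCtop]; trivial
      exact (mem_centralizer_iff.1 hg d hd).symm
    have hDn : D.Normal := by
      refine ⟨fun z hz g => ?_⟩
      have := mem_center_iff.1 (hDc hz) g
      have h2 : g * z * g⁻¹ = z := by
        rw [this]; group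
      rw [h2]; exact hz
    have hDp : IsPGroup p D := P.2.to_le hDP
    apply npc_of_quotient_central' p D hDp hDc
    apply npc_of_abelian_sylow p
    · intro r hr hrd
      exact hmin r hr (hrd.trans (Subgroup.card_quotient_dvd_card D))
    · intro Q a ha b hb
      have hker : IsPGroup p (QuotientGroup.mk' D).ker := by
        rw [QuotientGroup.ker_mk']; exact hDp
      have hL : IsPGroup p ((Q : Subgroup (G ⧸ D)).comap (QuotientGroup.mk' D)) :=
        Q.2.comap_of_ker_isPGroup _ hker
      obtain ⟨P₁, hP₁⟩ := hL.exists_le_sylow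
      obtain ⟨a', rfl⟩ := QuotientGroup.mk'_surjective D a
      obtain ⟨b', rfl⟩ := QuotientGroup.mk'_surjective D b
      have ha' : a' ∈ (P₁ : Subgroup G) := hP₁ (mem_comap.2 ha)
      have hb' : b' ∈ (P₁ : Subgroup G) := hP₁ (mem_comap.2 hb)
      obtain ⟨g, hg⟩ := MulAction.exists_smul_eq G P₁ P
      -- conjugate into `P`
      have hmemP : ∀ x ∈ (P₁ : Subgroup G), g * x * g⁻¹ ∈ (P : Subgroup G) := by
        intro x hx
        rw [← hg, Sylow.coe_subgroup_smul]
        exact ⟨x, hx, rfl⟩
      have hcomm : ⁅g * a' * g⁻¹, g * b' * g⁻¹⁆ ∈ D :=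
        Subgroup.commutator_mem_commutator (hmemP a' ha') (hmemP b' hb')
      have hconj : ⁅g * a' * g⁻¹, g * b' * g⁻¹⁆ = g * ⁅a', b'⁆ * g⁻¹ := by
        simp only [commutatorElement_def]; group
      rw [hconj] at hcomm
      have hcomm' : ⁅a', b'⁆ ∈ D := by
        have := hDn.conj_mem _ hcomm g⁻¹
        have e : g⁻¹ * (g * ⁅a', b'⁆ * g⁻¹) * g⁻¹⁻¹ = ⁅a', b'⁆ := by group
        rwa [e] at this
      have h1 : (QuotientGroup.mk' D) ⁅a', b'⁆ = 1 := (QuotientGroup.eq_one_iff _).2 hcomm'
      rw [commutatorElement_def, map_mul, map_mul, map_mul, map_inv, map_inv] at h1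
      have h2 := mul_inv_eq_one.1 h1
      exact mul_inv_eq_iff_eq_mul.1 h2
    · intro x hx
      obtain ⟨x', rfl⟩ := QuotientGroup.mk'_surjective D x
      exact h x' (hx.trans (index_centralizer_quotient_dvd' D x'))
  · -- induction on the proper normal subgroup `C`
    have hlt : Nat.card C < n := by
      rw [← hcard]
      apply lt_of_le_of_ne (Subgroup.card_le_card_group _)
      intro heq
      exact hCtop (Subgroup.eq_top_of_card_eq _ heq)
    have hnpcC : Cfsg.HasNormalPComplement p C := by
      refine ih _ hlt ↥C rfl ?_ ?_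
      · intro r hr hrd
        exact hmin r hr (hrd.trans (Subgroup.card_subgroup_dvd_card _))
      · intro x hx
        exact h (x : G) (hx.trans (index_centralizer_normal_dvd' C x))
    -- the index of `C` is a power of `p`
    have hidx : ∃ j : ℕ, C.index = p ^ j := by
      have h1 : C.index = C.relIndex (P : Subgroup G) := by
        rw [← Subgroup.relIndex_top_right, ← hsup, Subgroup.relIndex_sup_right]
      have h2 : C.relIndex (P : Subgroup G) ∣ Nat.card (P : Subgroup G) :=
        Subgroup.index_dvd_card _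
      obtain ⟨k, hk⟩ := IsPGroup.iff_card.1 P.2
      rw [hk] at h2
      obtain ⟨j, _, hj⟩ := (Nat.dvd_prime_pow hp.out).1 h2
      exact ⟨j, h1.trans hj⟩
    obtain ⟨j, hj⟩ := hidx
    exact Cfsg.Agent.Lib.Helper60.hasNormalPComplement_of_normal_of_index_pow C j hj hnpcC

/-- **Theorem A** (Cossey–Wang). If `p` is at most every prime divisor of `|G|` and no class size
is divisible by `p ^ 2`, then `G` has a normal `p`-complement. -/
theorem npc_of_sq_free {G : Type u} [Group G] [Finite G] (p : ℕ) [Fact p.Prime]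
    (hmin : ∀ r : ℕ, r.Prime → r ∣ Nat.card G → p ≤ r)
    (h : ∀ x : G, ¬ p ^ 2 ∣ (centralizer ({x} : Set G)).index) :
    Cfsg.HasNormalPComplement p G :=
  npc_of_sq_free_aux p _ G rfl hmin h

end thmA

section solv

theorem not_sq_dvd_of_squarefree {p n : ℕ} (hp : p.Prime) (h : Squarefree n) : ¬ p ^ 2 ∣ n := by
  intro hd
  rw [pow_two] at hd
  have := h p hd
  exact hp.one_lt.ne' (Nat.isUnit_iff.1 this)

/-- squarefree class sizes force solvability (auxiliary) -/
theorem isSolvable_of_sqfree_aux :
    ∀ (n : ℕ) (G : Type u) [Group G] [Finite G], Nat.card G = n →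
      (∀ x : G, Squarefree (centralizer ({x} : Set G)).index) → Group.IsSolvable G := by
  intro n
  induction n using Nat.strong_induction_on with
  | _ n ih =>
  intro G _ _ hcard h
  by_cases h1 : Nat.card G = 1
  · have : Subsingleton G := (Nat.card_eq_one_iff_unique.1 h1).1
    infer_instance
  set p := (Nat.card G).minFac with hp
  have hpp : p.Prime := Nat.minFac_prime h1
  have : Fact p.Prime := ⟨hpp⟩
  have hmin : ∀ r : ℕ, r.Prime → r ∣ Nat.card G → p ≤ r :=
    fun r hr hrd => Nat.minFac_le_of_dvd hr.two_le hrd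
  obtain ⟨Q, K, hKn, hc⟩ := npc_of_sq_free p hmin (fun x => not_sq_dvd_of_squarefree hpp (h x))
  have hcm : Nat.card K * Nat.card (Q : Subgroup G) = Nat.card G := hc.card_mul_card
  have hQcard : Nat.card (Q : Subgroup G) = p ^ (Nat.card G).factorization p :=
    Q.card_eq_multiplicity
  have hQ2 : 2 ≤ Nat.card (Q : Subgroup G) := by
    rw [hQcard]
    have hv : 1 ≤ (Nat.card G).factorization p :=
      (hpp.dvd_iff_one_le_factorization Nat.card_pos.ne').1 (Nat.minFac_dvd _)
    calc 2 ≤ p := hpp.two_le
      _ = p ^ 1 := (pow_one p).symm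
      _ ≤ p ^ (Nat.card G).factorization p := Nat.pow_le_pow_right hpp.pos hv
  have hlt : Nat.card K < n := by
    rw [← hcard, ← hcm]
    have : 0 < Nat.card K := Nat.card_pos
    nlinarith
  have hKs : Group.IsSolvable K := by
    refine ih _ hlt ↥K rfl ?_
    intro x
    exact (h (x : G)).squarefree_of_dvd (index_centralizer_normal_dvd' K x)
  have hidx : K.index = p ^ (Nat.card G).factorization p := by
    rw [← hQcard]
    exact hc.symm.index_eq_card
  have hQs : Group.IsSolvable (G ⧸ K) := by
    have hpg : IsPGroup p (G ⧸ K) := by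
      apply IsPGroup.of_card (n := (Nat.card G).factorization p)
      rw [← Subgroup.index_eq_card, hidx]
    have := hpg.isNilpotent
    infer_instance
  exact Group.isSolvable_of_ker_le_range K.subtype (QuotientGroup.mk' K)
    (by rw [QuotientGroup.ker_mk', Subgroup.range_subtype])

/-- squarefree class sizes force solvability -/
theorem isSolvable_of_sqfree {G : Type u} [Group G] [Finite G]
    (h : ∀ x : G, Squarefree (centralizer ({x} : Set G)).index) : Group.IsSolvable G :=
  isSolvable_of_sqfree_aux _ G rfl h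

end solv

end Cfsg.Agent.Lib.Helper73.SqF
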