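import Mathlib
import Cfsg.Prelude.Def_JordanBlocks
import Cfsg.Prelude.Def_LieClassical
import Cfsg.Agent.Lib.Helper73.UCDefs
import Cfsg.Agent.Lib.Helper30.UCC2c
import Cfsg.Agent.Lib.Helper30.UCC2b
import Cfsg.Agent.Lib.Helper85.UCK6
import Cfsg.Agent.Lib.Helper53.UCK1
import Cfsg.Agent.Lib.Helper42.UCK5
import Cfsg.Agent.Lib.Helper34.UCK4
import Cfsg.Agent.Lib.Helper14.UCK7
import Cfsg.Agent.Lib.Helper89.UCK2
import Cfsg.Agent.Lib.Helper66.UCK8
import Cfsg.Agent.Lib.Helper32.UCK3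
import Cfsg.Agent.Lib.Helper26.UCC3
import Cfsg.Agent.Lib.Helper22.UCA1
import Cfsg.Agent.Lib.Helper21.UCB
import Cfsg.Agent.Lib.Helper97.UCK1
import Cfsg.Agent.Lib.Helper80.UCK4b
import Cfsg.Agent.Lib.Helper56.UCC2a
import Cfsg.Agent.Lib.Helper62.UCC1
import Cfsg.Agent.Lib.Helper18.UCC4
import Cfsg.Agent.Lib.Helper10.UCA2

set_option autoImplicit false

/-!
# SPEC of the pack K-UC (S2646): every leaf is ONE theorem with EXACT signature

Deliver leaf `X` as `Cfsg/Agent/Lib/HelperNN/UC<X>.lean`, namespace `Cfsg.Agent.Lib.HelperNN.UC`,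
same theorem name and signature (check with `example : @spec = @mine := rfl` against a verbatim copy).
Imports allowed: Mathlib, Cfsg.Prelude.*, `Cfsg.Agent.Lib.Helper73.UCDefs`, anything on main.

Conventions: `|K| = q^2`, `φ : K →+* K` is `x ↦ x^q`; `hadj φ M = (M.map φ)ᵀ`;
`nilM d K = jordanTypeMatrix d K - 1` has entry `1` exactly at `((k, a+1), (k, a))`.
-/

namespace Cfsg.Agent.Lib.Helper73.UCSpec

open Matrix Cfsg.Agent.Lib.Helper73.UC

variable {K : Type*} [Field K]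

/-! ## group side -/

/-- LEAF K1 (orbit-stabiliser). `C = C_GL(u)` acts on the `u`-invariant nondegenerate hermitian matrices
by `x · M = hadj x⁻¹ * M * x⁻¹`; it is transitive (`Helper40.GUConj.exists_sqrt`: an invertible hermitian
`h` commuting with `u` is `hadj c * c` with `c` commuting with everything that commutes with `h`) and the
stabiliser of `1` is `C ∩ GU`. Concretely: `x ↦ hadj x * x` maps `C` ONTO `FormsInv φ u` with fibres the
right cosets of `C ∩ GU` (which is in bijection with the centraliser of `u` in `↥GU`).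
`Helper40.GUConj.mem_GU_iff_adj` translates membership in `GU` (`Helper40.GUConj.adj φ M = hadj φ M` by `rfl`). -/
theorem card_centralizer_GL_eq_mul [Fintype K] {q n : ℕ} (hK : Fintype.card K = q ^ 2)
    (φ : K →+* K) (hφ : ∀ x, φ x = x ^ q) (hφφ : ∀ x, φ (φ x) = x) (u : ↥(Cfsg.GU n K q)) :
    Nat.card {g : GL (Fin n) K // g * (u : GL (Fin n) K) = (u : GL (Fin n) K) * g} =
      Nat.card ↥(Subgroup.centralizer ({u} : Set ↥(Cfsg.GU n K q))) *
        Nat.card (FormsInv φ ((u : GL (Fin n) K) : Matrix (Fin n) (Fin n) K)) :=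
  Cfsg.Agent.Lib.Helper97.UC.card_centralizer_GL_eq_mul hK φ hφ hφφ u

/-- LEAF K2. Transport `Cfsg.Agent.S2581.result` (import `Cfsg.Agent.S2581`) along the conjugation and
the reindexing `e`. -/
theorem card_centralizer_GL_of_isConj [Fintype K] {Q n t : ℕ} (hK : Fintype.card K = Q)
    (d : Fin t → ℕ) (hd : ∀ k, 1 ≤ d k) (e : ((k : Fin t) × Fin (d k)) ≃ Fin n) (A : GL (Fin n) K)
    (hA : IsConj (Matrix.reindex e e (Cfsg.jordanTypeMatrix d K)) (A : Matrix (Fin n) (Fin n) K)) :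
    Nat.card {g : GL (Fin n) K // g * A = A * g} =
      Q ^ gam d * ∏ i ∈ Finset.range (Finset.univ.sup d + 1), ∏ j : Fin (mult d i),
        (Q ^ mult d i - Q ^ (j : ℕ)) :=
  Cfsg.Agent.Lib.Helper89.UC.card_centralizer_GL_of_isConj hK d hd e A hA

/-- LEAF K3. If `c * J' = A * c` (`c` a unit) then `M ↦ hadj c * M * c` is a bijection
`FormsInv φ A → FormsInv φ J'`; then reindex along `e`. -/
theorem card_formsInv_of_isConj {n t : ℕ} (φ : K →+* K) (hφφ : ∀ x, φ (φ x) = x)
    (d : Fin t → ℕ) (e : ((k : Fin t) × Fin (d k)) ≃ Fin n) (A : Matrix (Fin n) (Fin n) K)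
    (hA : IsConj (Matrix.reindex e e (Cfsg.jordanTypeMatrix d K)) A) :
    Nat.card (FormsInv φ A) = Nat.card (FormsInv φ (Cfsg.jordanTypeMatrix d K)) :=
  Cfsg.Agent.Lib.Helper32.UC.card_formsInv_of_isConj φ hφφ d e A hA

/-- LEAF K4 (generalised Cayley transform, all characteristics). With `P = 1 + α • N` (a unit since `N`
is nilpotent, commuting with `N`), `α + φ α = 1`:
`hadj (1+N) * M * (1+N) = M ↔ hadj N * M + M * N + hadj N * M * N = 0 ↔ hadj N * M * P = - hadj P * M * N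
 ↔ hadj (N * P⁻¹) * M = - M * (N * P⁻¹)`; multiplying by the skew scalar `ε` turns `-` into `+`.
No hypothesis on `M` is needed for this equivalence. -/
theorem formsInv_one_add_eq_formsSA {ι : Type*} [Fintype ι] [DecidableEq ι] (φ : K →+* K)
    (hφφ : ∀ x, φ (φ x) = x) (α ε : K) (hα : α + φ α = 1) (hε : φ ε = -ε) (hε0 : ε ≠ 0)
    (N : Matrix ι ι K) (hN : IsNilpotent N) :
    FormsInv φ (1 + N) = FormsSA φ (ε • (N * (1 + α • N)⁻¹)) :=
  Cfsg.Agent.Lib.Helper34.UC.formsInv_one_add_eq_formsSA φ hφφ α ε hα hε hε0 N hN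

/-- LEAF K4b. -/
theorem isNilpotent_nilM {t : ℕ} (d : Fin t → ℕ) : IsNilpotent (nilM d K) :=
  Cfsg.Agent.Lib.Helper80.UC.isNilpotent_nilM d

/-- LEAF K5. `x ↦ x + x^q` is additive `K → K` with image inside the `q` roots of `X^q - X` and kernel
inside the `q` roots of `X^q + X`; since `|K| = q^2` both are equalities. (`q ≥ 2`.) -/
theorem exists_trace_one_skew [Fintype K] {q : ℕ} (hK : Fintype.card K = q ^ 2)
    (φ : K →+* K) (hφ : ∀ x, φ x = x ^ q) :
    (∃ α : K, α + φ α = 1) ∧ ∃ ε : K, ε ≠ 0 ∧ φ ε = -ε :=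
  Cfsg.Agent.Lib.Helper42.UC.exists_trace_one_skew hK φ hφ

/-- LEAF K6 (explicit conjugator). With `N = nilM d K`, `s = ε • (N * (1 + α • N)⁻¹)`: the matrix `g`
whose column `(k, a)` is `s^a` applied to the basis vector `(k, 0)` satisfies `g * N = s * g`, is block
diagonal, and inside each block lower triangular with diagonal entries `ε^a`; hence `det g ≠ 0`.
(`d k = 0` is allowed: empty blocks.) -/
theorem exists_conj_cayley {t : ℕ} (d : Fin t → ℕ) (α ε : K) (hε0 : ε ≠ 0) :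
    ∃ g : Matrix (JI d) (JI d) K, IsUnit g.det ∧
      g * nilM d K = (ε • (nilM d K * (1 + α • nilM d K)⁻¹)) * g :=
  Cfsg.Agent.Lib.Helper85.UC.exists_conj_cayley d α ε hε0

/-- LEAF K7. `M ↦ hadj g * M * g` is a bijection `FormsSA φ N' → FormsSA φ N`. -/
theorem card_formsSA_of_conj {ι : Type*} [Fintype ι] [DecidableEq ι] (φ : K →+* K)
    (hφφ : ∀ x, φ (φ x) = x) (N N' g : Matrix ι ι K) (hg : IsUnit g.det) (h : g * N = N' * g) :
    Nat.card (FormsSA φ N') = Nat.card (FormsSA φ N) :=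
  Cfsg.Agent.Lib.Helper14.UC.card_formsSA_of_conj φ hφφ N N' g hg h

/-! ## Hankel parametrisation of the `nilM`-self-adjoint hermitian matrices -/

/-- LEAF A1. `hadj φ (nilM d K)` has entry `1` exactly at `((k,a),(k,a+1))`, so `hadj N * M = M * N` says
`M ((l,b+1),(k,a)) = M ((l,b),(k,a+1))` with the convention that out-of-range entries are `0`: `M` is of
Hankel type in each pair of blocks, vanishing when `a + b ≥ min (d l) (d k)`. Take
`c (l,k,s) = M (l,0) (k,s)`. -/
theorem hankel_mem_iff {t : ℕ} (d : Fin t → ℕ) (φ : K →+* K) (hφφ : ∀ x, φ (φ x) = x)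
    (M : Matrix (JI d) (JI d) K) :
    (hadj φ M = M ∧ hadj φ (nilM d K) * M = M * nilM d K) ↔ ∃ c ∈ HC d φ, hankel d c = M :=
  Cfsg.Agent.Lib.Helper22.UC.hankel_mem_iff d φ hφφ M

/-- LEAF A2. `c (l,k,s) = hankel d c (l,0) (k,s)`. -/
theorem hankel_injective {t : ℕ} (d : Fin t → ℕ) :
    Function.Injective (hankel d : (CIdx d → K) → Matrix (JI d) (JI d) K) :=
  Cfsg.Agent.Lib.Helper10.UC.hankel_injective d

/-- LEAF B (nondegeneracy criterion). Reindex the columns by `(k,a) ↦ (k, d k - 1 - a)`; with the key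
`(a, d l - a)` for the row `(l,a)` (order: first `a` increasing, then `d l - a` decreasing) the matrix is
block triangular with diagonal blocks the size-`i` parts `T_i` of `topC`; so
`det (hankel d c) = ± ∏_i (det T_i)^i` while `det (topC d hd c) = ∏_i det T_i`.
Alternative: `Helper49.jgen_surjective_iff` (Lib/Helper49/UnipCentralizer.lean) applied to `H₀ * hankel d c`
(`H₀` the block flip), whose `jtop` is block triangular with the same diagonal blocks. -/
theorem isUnit_det_hankel_iff {t : ℕ} (d : Fin t → ℕ) (hd : ∀ k, 1 ≤ d k) (c : CIdx d → K) :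
    IsUnit (hankel d c).det ↔ IsUnit (topC d hd c).det :=
  Cfsg.Agent.Lib.Helper21.UC.isUnit_det_hankel_iff d hd c

/-- LEAF C1. -/
theorem topC_mem_BDH {t : ℕ} (d : Fin t → ℕ) (hd : ∀ k, 1 ≤ d k) (φ : K →+* K)
    (c : CIdx d → K) (hc : c ∈ HC d φ) : topC d hd c ∈ BDH d φ :=
  Cfsg.Agent.Lib.Helper62.UC.topC_mem_BDH d hd φ c hc

/-- LEAF C2a. Fixed points of `σ` contribute a factor `q` (the fixed field of `φ` has `q` elements),
2-cycles of `σ` a factor `q^2`. Alternative: `c ↦ φ ∘ c ∘ σ` is a semilinear involution `Θ` of `S → K`;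
with `α + φ α = 1`, `ψ c = α • c + Θ (α • c)` is a projection onto `Fix Θ` with kernel `α⁻¹ ε • Fix Θ`. -/
theorem card_hermitian_functions [Fintype K] {q : ℕ} (hK : Fintype.card K = q ^ 2)
    (φ : K →+* K) (hφ : ∀ x, φ x = x ^ q) {S : Type*} [Fintype S] (σ : S → S)
    (hσ : ∀ x, σ (σ x) = x) :
    Nat.card {c : S → K // ∀ x, c (σ x) = φ (c x)} = q ^ Fintype.card S :=
  Cfsg.Agent.Lib.Helper56.UC.card_hermitian_functions hK φ hφ σ hσ

/-- LEAF C2b. `|CIdx d| = Σ_{l,k} min (d l) (d k)`, the top indices are the pairs with `d l = d k`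
(`d k ≥ 1`), and `Σ_{l,k} min - #{d l = d k} = gam d` (compare `Helper49.exponent_eq`). -/
theorem card_nonTop {t : ℕ} (d : Fin t → ℕ) (hd : ∀ k, 1 ≤ d k) :
    Nat.card {p : CIdx d // ¬ IsTop d p} = gam d :=
  Cfsg.Agent.Lib.Helper30.UC.card_nonTop d hd

/-- LEAF C2c (from C2a, C2b). A hermitian system with prescribed top part `T ∈ BDH` is the same as a
hermitian-symmetric function on the non-top indices (closed under `cswap`). -/
theorem card_fiber_topC [Fintype K] {q t : ℕ} (hK : Fintype.card K = q ^ 2)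
    (φ : K →+* K) (hφ : ∀ x, φ x = x ^ q) (hφφ : ∀ x, φ (φ x) = x)
    (d : Fin t → ℕ) (hd : ∀ k, 1 ≤ d k) (T : Matrix (Fin t) (Fin t) K) (hT : T ∈ BDH d φ) :
    Nat.card {c : CIdx d → K // c ∈ HC d φ ∧ topC d hd c = T} = q ^ gam d :=
  Cfsg.Agent.Lib.Helper30.UC.card_fiber_topC hK φ hφ hφφ d hd T hT

/-- LEAF C3. Block diagonal hermitian matrices are tuples of hermitian matrices on the fibres of `d`;
the determinant is the product of the block determinants. Sizes `i` with `mult d i = 0` contribute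
`hermUnits φ 0 = 1`. -/
theorem card_BDH_units [Fintype K] {t : ℕ} (φ : K →+* K) (d : Fin t → ℕ) :
    Nat.card {T : Matrix (Fin t) (Fin t) K // T ∈ BDH d φ ∧ IsUnit T.det} =
      ∏ i ∈ Finset.range (Finset.univ.sup d + 1), hermUnits φ (mult d i) :=
  Cfsg.Agent.Lib.Helper26.UC.card_BDH_units φ d

/-- LEAF C4 (assembly, hypothesis form: `h1 h2 h3` are the statements of C1, C2c, C3). -/
theorem card_HC_units_of [Fintype K] {q t : ℕ} (φ : K →+* K) (d : Fin t → ℕ) (hd : ∀ k, 1 ≤ d k)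
    (h1 : ∀ c : CIdx d → K, c ∈ HC d φ → topC d hd c ∈ BDH d φ)
    (h2 : ∀ T : Matrix (Fin t) (Fin t) K, T ∈ BDH d φ →
      Nat.card {c : CIdx d → K // c ∈ HC d φ ∧ topC d hd c = T} = q ^ gam d)
    (h3 : Nat.card {T : Matrix (Fin t) (Fin t) K // T ∈ BDH d φ ∧ IsUnit T.det} =
      ∏ i ∈ Finset.range (Finset.univ.sup d + 1), hermUnits φ (mult d i)) :
    Nat.card {c : CIdx d → K // c ∈ HC d φ ∧ IsUnit (topC d hd c).det} =
      q ^ gam d * ∏ i ∈ Finset.range (Finset.univ.sup d + 1), hermUnits φ (mult d i) :=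
  Cfsg.Agent.Lib.Helper18.UC.card_HC_units_of φ d hd h1 h2 h3

/-- LEAF K8 (assembly, hypothesis form: `hA1 hA2 hB hC` are the statements of A1, A2, B, C4-conclusion). -/
theorem card_formsSA_nilM_of [Fintype K] {q t : ℕ} (φ : K →+* K) (d : Fin t → ℕ) (hd : ∀ k, 1 ≤ d k)
    (hA1 : ∀ M : Matrix (JI d) (JI d) K,
      (hadj φ M = M ∧ hadj φ (nilM d K) * M = M * nilM d K) ↔ ∃ c ∈ HC d φ, hankel d c = M)
    (hA2 : Function.Injective (hankel d : (CIdx d → K) → Matrix (JI d) (JI d) K))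
    (hB : ∀ c : CIdx d → K, IsUnit (hankel d c).det ↔ IsUnit (topC d hd c).det)
    (hC : Nat.card {c : CIdx d → K // c ∈ HC d φ ∧ IsUnit (topC d hd c).det} =
      q ^ gam d * ∏ i ∈ Finset.range (Finset.univ.sup d + 1), hermUnits φ (mult d i)) :
    Nat.card (FormsSA φ (nilM d K)) =
      q ^ gam d * ∏ i ∈ Finset.range (Finset.univ.sup d + 1), hermUnits φ (mult d i) :=
  Cfsg.Agent.Lib.Helper66.UC.card_formsSA_nilM_of φ d hd hA1 hA2 hB hC

/-- LEAF K9. K1 with `u = 1` (then `FormsInv φ 1` is the set of all invertible hermitian matrices) and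
`Matrix.card_GL_field`. (You may cite LEAF K1 as a hypothesis-free theorem once it is on main, or redo
the orbit count directly.) -/
theorem card_GL_eq_card_GU_mul_hermUnits [Fintype K] {q : ℕ} (hK : Fintype.card K = q ^ 2)
    (φ : K →+* K) (hφ : ∀ x, φ x = x ^ q) (hφφ : ∀ x, φ (φ x) = x) (a : ℕ) :
    (∏ j : Fin a, ((q ^ 2) ^ a - (q ^ 2) ^ (j : ℕ))) =
      Nat.card ↥(Cfsg.GU a K q) * hermUnits φ a :=
  Cfsg.Agent.Lib.Helper53.UC.card_GL_eq_card_GU_mul_hermUnits hK φ hφ hφφ a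

end Cfsg.Agent.Lib.Helper73.UCSpec
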