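import Cfsg.Agent.Lib.Helper73.UNdDefs
import Cfsg.Agent.Lib.Helper21.UNdUHa
import Cfsg.Agent.Lib.Helper65.UNdSEcore
import Cfsg.Agent.Lib.Helper08.UNdSCD0
import Cfsg.Agent.Lib.Helper98.UNdSB
import Cfsg.Agent.Lib.Helper93.UNdIA
import Cfsg.Agent.Lib.Helper10.UNdSA
import Cfsg.Agent.Lib.Helper90.UNdUE
import Cfsg.Agent.Lib.Helper87.UNdEB
import Cfsg.Agent.Lib.Helper82.UNdXA
import Cfsg.Agent.Lib.Helper77.UNdAR1
import Cfsg.Agent.Lib.Helper64.UNdBA2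
import Cfsg.Agent.Lib.Helper62.UNdUG
import Cfsg.Agent.Lib.Helper57.UNdSF
import Cfsg.Agent.Lib.Helper52.UNdUD
import Cfsg.Agent.Lib.Helper19.UNdIE
import Cfsg.Agent.Lib.Helper19.UNdIB
import Cfsg.Agent.Lib.Helper10.UNdAR2
import Cfsg.Agent.Lib.Helper80.UNdEA
import Cfsg.Agent.Lib.Helper79.UNdUB
import Cfsg.Agent.Lib.Helper79.UNdUA
import Cfsg.Agent.Lib.Helper59.UNdXB
import Cfsg.Agent.Lib.Helper43.UNdIAR
import Cfsg.Agent.Lib.Helper26.UNdXAR
import Cfsg.Agent.Lib.Helper18.UNdT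
import Cfsg.Agent.Lib.Helper14.UNdUF
import Cfsg.Agent.Lib.Helper03.UNdUC
import Cfsg.Agent.Lib.Lead.UNdROOT
import Cfsg.Agent.Lib.Helper80.UNdIC
import Cfsg.Agent.Lib.Helper19.UNdID
import Cfsg.Agent.Lib.Helper19.UNdDET
import Cfsg.Agent.Lib.Helper79.UNdBA3
import Cfsg.Agent.Lib.Helper65.UNdBA1
import Cfsg.Agent.Lib.Helper98.Nd7
import Cfsg.Agent.Lib.Helper02.NdB
import Cfsg.Agent.Lib.Helper85.NdI
import Cfsg.Agent.Lib.Helper99.HermCount
import Cfsg.Agent.Lib.Helper49.UPairIndex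

/-!
# S5954 keystones (architect helper73): PSU_n(q) on NONDEGENERATE m-spaces (hermitian twin of S5956)

Pack K-UNd, keystone ids 595401-595431.  Everything is stated for a plain function `h : V → V → F` with
`hh : Cfsg.Agent.Lib.Helper99.HermONB.HForm q h` (additive + `F`-linear in the FIRST variable, `h y x = (h x y) ^ q`,
nondegenerate on `V`; lemmas `hh.add_left hh.smul_left hh.conj hh.nondeg`, and `hh.add_right hF`, `hh.smul_right`,
`hh.zero_left`, `hh.zero_right hF`, `hh.sum_left`), `hF : Fintype.card F = q ^ 2`.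
Definitions ON MAIN in `Cfsg/Agent/Lib/Helper73/UNdDefs.lean` (namespace `Cfsg.Agent.Lib.Helper73.UNd`):
`ND h W`, `Ort h W W'`, `Isom h y`, `Fixes h y m`, `perp hh W` (`mem_perp`), `cU i`, `stdH_hform hF n`.
`Inv y W`, `V0 y`, `V1 r y`, `gsum r y` are those of `Cfsg.Agent.Lib.Helper98.Elus`.
Useful: `Cfsg.Agent.Lib.Helper80.AschU.exists_orthonormal'` (orthonormal families, any characteristic),
`Helper99.HermONB.exists_basis / form_eq_hermForm`, `Helper19` (`frobQ`, `pow_q_pow_q`, `add_pow_q`, `sum_pow_q`,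
`det_pow_of_mem_GU`), `Helper49.UPair.card_GU_eq`, `Helper99.hcnt_eq / hAZ_closed`.
The SYMPLECTIC originals to port are in `Cfsg/Agent/Lib/Helper98/Sy1..Sy6.lean`, `Nd1..Nd7.lean`,
`Lib/Helper72/NdA.lean`, `Lib/Helper75/NdD.lean`, `Lib/Helper80/NdE.lean` (S5956 pack).
Deliver `Cfsg/Agent/Lib/<Seat>/UNd<Tag>.lean`, namespace `Cfsg.Agent.Lib.<Seat>.UNd`, EXACT signature
(universe `u`, `F V : Type u`).  A leaf may use any other leaf of this file: develop against a sorried copy and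
switch to the real import when it lands.  `import Cfsg.Agent.Lib.Helper73.UNdDefs` + the imports above give everything.
-/

set_option autoImplicit false

namespace Cfsg.Agent.Lib.Helper73.UNdSpec

open Module Cfsg.Agent.Lib.Helper99.HermONB Cfsg.Agent.Lib.Helper98.Elus Cfsg.Agent.Lib.Helper73.UNd

universe u
variable {F : Type u} [Field F] {V : Type u} [AddCommGroup V] [Module F V]
variable {q : ℕ} {h : V → V → F}

/-! ## BA1 (595401): orthogonality and complements (port of Sy1 first half + Sy2 end) -/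

theorem eq_zero_symm [Fintype F] (hF : Fintype.card F = q ^ 2) (hh : HForm q h) {u v : V}
    (h0 : h u v = 0) : h v u = 0 :=
  Cfsg.Agent.Lib.Helper65.UNd.eq_zero_symm hF hh h0

theorem ort_symm [Fintype F] (hF : Fintype.card F = q ^ 2) (hh : HForm q h) {W W' : Submodule F V}
    (hO : Ort h W W') : Ort h W' W :=
  Cfsg.Agent.Lib.Helper65.UNd.ort_symm hF hh hO

theorem nd_iff_disjoint (hh : HForm q h) (W : Submodule F V) :
    ND h W ↔ Disjoint W (perp hh W) :=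
  Cfsg.Agent.Lib.Helper65.UNd.nd_iff_disjoint hh W

theorem ort_iff_le_perp [Fintype F] (hF : Fintype.card F = q ^ 2) (hh : HForm q h)
    (W W' : Submodule F V) : Ort h W W' ↔ W' ≤ perp hh W :=
  Cfsg.Agent.Lib.Helper65.UNd.ort_iff_le_perp hF hh W W'

/-- `dim W + dim W^⊥ = dim V`.  Routes: (a) counting: `v ↦ h(·, v)` is an injective additive map `V → Dual F V`,
hence bijective (`|V| = |Dual V|`), restriction `Dual V → Dual W` is onto, so `|V| = |W^⊥| * |W|`;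
(b) orthonormal basis (`exists_orthonormal'`) and the standard form, cf. `Helper18.AschUR.finrank_hperp`. -/
theorem finrank_add_perp [Fintype F] [FiniteDimensional F V] (hF : Fintype.card F = q ^ 2)
    (hh : HForm q h) (W : Submodule F V) :
    finrank F W + finrank F (perp hh W) = finrank F V :=
  Cfsg.Agent.Lib.Helper65.UNd.finrank_add_perp hF hh W

theorem finrank_perp_inf [Fintype F] [FiniteDimensional F V] (hF : Fintype.card F = q ^ 2)
    (hh : HForm q h) (M U : Submodule F V) (hMU : M ≤ U) (hU : ND h U) :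
    finrank F ↥(perp hh M ⊓ U) + finrank F M = finrank F U :=
  Cfsg.Agent.Lib.Helper65.UNd.finrank_perp_inf hF hh M U hMU hU

theorem compl_props [Fintype F] [FiniteDimensional F V] (hF : Fintype.card F = q ^ 2)
    (hh : HForm q h) (W' W : Submodule F V) (hW' : ND h W') (hle : W' ≤ W) (hW : ND h W) :
    W' ⊔ (perp hh W' ⊓ W) = W ∧ W' ⊓ (perp hh W' ⊓ W) = ⊥ ∧ ND h (perp hh W' ⊓ W) ∧
      finrank F W' + finrank F ↥(perp hh W' ⊓ W) = finrank F W :=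
  Cfsg.Agent.Lib.Helper65.UNd.compl_props hF hh W' W hW' hle hW

theorem nd_sup [Fintype F] (hF : Fintype.card F = q ^ 2) (hh : HForm q h) (W1 W2 : Submodule F V)
    (h1 : ND h W1) (h2 : ND h W2) (h12 : Ort h W1 W2) : ND h (W1 ⊔ W2) ∧ W1 ⊓ W2 = ⊥ :=
  Cfsg.Agent.Lib.Helper65.UNd.nd_sup hF hh W1 W2 h1 h2 h12

theorem finrank_sup_of_ort [Fintype F] [FiniteDimensional F V] (hF : Fintype.card F = q ^ 2)
    (hh : HForm q h) (W1 W2 : Submodule F V) (h1 : ND h W1) (h2 : ND h W2) (h12 : Ort h W1 W2) :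
    finrank F ↥(W1 ⊔ W2) = finrank F W1 + finrank F W2 :=
  Cfsg.Agent.Lib.Helper65.UNd.finrank_sup_of_ort hF hh W1 W2 h1 h2 h12

theorem nd_bot (hh : HForm q h) : ND h (⊥ : Submodule F V) :=
  Cfsg.Agent.Lib.Helper65.UNd.nd_bot hh

theorem nd_top (hh : HForm q h) : ND h (⊤ : Submodule F V) :=
  Cfsg.Agent.Lib.Helper65.UNd.nd_top hh

/-! ## BA2 (595402): non-isotropic vectors, nondegenerate subspaces of every dimension, restriction -/

/-- if `h v v = 0` on `W` then `h u w + h w u = 0`; replace `u` by `a • u` with `a ^ q ≠ a` to get `h u w = 0`. -/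
theorem exists_nonisotropic [Fintype F] (hF : Fintype.card F = q ^ 2) (hh : HForm q h)
    (W : Submodule F V) (hW : ND h W) (hne : W ≠ ⊥) : ∃ v ∈ W, h v v ≠ 0 :=
  Cfsg.Agent.Lib.Helper64.UNd.exists_nonisotropic hF hh W hW hne

theorem nd_span_singleton [Fintype F] (hF : Fintype.card F = q ^ 2) (hh : HForm q h) (v : V)
    (hv : h v v ≠ 0) : ND h (Submodule.span F {v}) ∧ finrank F ↥(Submodule.span F {v}) = 1 :=
  Cfsg.Agent.Lib.Helper64.UNd.nd_span_singleton hF hh v hv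

/-- induction on `s` with `exists_nonisotropic`, `nd_span_singleton`, `compl_props`, `nd_sup`. -/
theorem exists_nd_sub [Fintype F] [FiniteDimensional F V] (hF : Fintype.card F = q ^ 2)
    (hh : HForm q h) (W : Submodule F V) (hW : ND h W) :
    ∀ s : ℕ, s ≤ finrank F W → ∃ W' : Submodule F V, W' ≤ W ∧ ND h W' ∧ finrank F W' = s :=
  Cfsg.Agent.Lib.Helper64.UNd.exists_nd_sub hF hh W hW

theorem hform_restrict (hh : HForm q h) (W : Submodule F V) (hW : ND h W) :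
    HForm q (fun a b : W => h (a : V) (b : V)) :=
  Cfsg.Agent.Lib.Helper64.UNd.hform_restrict hh W hW

/-- orthonormal basis of a nondegenerate subspace (`exists_orthonormal'` for `hform_restrict`). -/
theorem exists_onb_sub [Fintype F] [FiniteDimensional F V] (hF : Fintype.card F = q ^ 2)
    (hh : HForm q h) (W : Submodule F V) (hW : ND h W) (k : ℕ) (hk : finrank F W = k) :
    ∃ e : Fin k → V, (∀ i, e i ∈ W) ∧ (∀ i j, h (e i) (e j) = if i = j then 1 else 0) ∧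
      LinearIndependent F e ∧ Submodule.span F (Set.range e) = W :=
  Cfsg.Agent.Lib.Helper64.UNd.exists_onb_sub hF hh W hW k hk

/-! ## BA3 (595403): isometries (port of Sy1 second half) -/

/-- for `v ∈ W^⊥`, `w ∈ W`: `h (y v) w = h (y v) (y (z⁻¹ • y^(r-1) w)) = h v (z⁻¹ • y^(r-1) w) = 0`. -/
theorem inv_perp [Fintype F] (hF : Fintype.card F = q ^ 2) (hh : HForm q h) (r : ℕ) (hr : 0 < r)
    (y : V →ₗ[F] V) (z : F) (hz : z ≠ 0) (hy : y ^ r = z • 1) (hiso : Isom h y)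
    (W : Submodule F V) (hW : Inv y W) : Inv y (perp hh W) :=
  Cfsg.Agent.Lib.Helper79.UNd.inv_perp hF hh r hr y z hz hy hiso W hW

theorem isom_pow (y : V →ₗ[F] V) (hiso : Isom h y) (k : ℕ) : Isom h (y ^ k) :=
  Cfsg.Agent.Lib.Helper79.UNd.isom_pow y hiso k

theorem isom_smul (hh : HForm q h) (y : V →ₗ[F] V) (hiso : Isom h y) (c : F)
    (hc : c ^ (q + 1) = 1) : Isom h (c • y) :=
  Cfsg.Agent.Lib.Helper79.UNd.isom_smul hh y hiso c hc

theorem inv_smul_iff (y : V →ₗ[F] V) (c : F) (hc : c ≠ 0) (W : Submodule F V) :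
    Inv (c • y) W ↔ Inv y W :=
  Cfsg.Agent.Lib.Helper79.UNd.inv_smul_iff y c hc W

/-- a scalar isometry of a nonzero space has norm one -/
theorem scalar_norm [Fintype F] (hF : Fintype.card F = q ^ 2) (hh : HForm q h) [Nontrivial V]
    (z : F) (hiso : Isom h (z • (1 : V →ₗ[F] V))) : z ^ (q + 1) = 1 :=
  Cfsg.Agent.Lib.Helper79.UNd.scalar_norm hF hh z hiso

theorem ort_V0_V1 [Fintype F] (hF : Fintype.card F = q ^ 2) (hh : HForm q h) (r : ℕ)
    (hrF : (r : F) ≠ 0) (y : V →ₗ[F] V) (hy : y ^ r = 1) (hiso : Isom h y) :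
    Ort h (V0 y) (V1 r y) :=
  Cfsg.Agent.Lib.Helper79.UNd.ort_V0_V1 hF hh r hrF y hy hiso

theorem nd_inf_parts [Fintype F] (hF : Fintype.card F = q ^ 2) (hh : HForm q h) (r : ℕ)
    (hrF : (r : F) ≠ 0) (y : V →ₗ[F] V) (hy : y ^ r = 1) (hiso : Isom h y) (W : Submodule F V)
    (hW : ND h W) (hWinv : Inv y W) : ND h (W ⊓ V0 y) ∧ ND h (W ⊓ V1 r y) :=
  Cfsg.Agent.Lib.Helper79.UNd.nd_inf_parts hF hh r hrF y hy hiso W hW hWinv

/-! ## T (595404): transport between `SU n F q` on `Fin n → F` and abstract hermitian spaces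
(template: `Helper98.Nd7.transport_fixed` + `Helper99.HermONB.exists_SU_of_isometry`, with `exists_orthonormal'`
in place of `exists_orthonormal` so that characteristic 2 is allowed) -/

theorem isom_of_mem_SU (n : ℕ) (x : Matrix.SpecialLinearGroup (Fin n) F) (hx : x ∈ Cfsg.SU n F q) :
    Isom (Cfsg.hermForm n F q) (Matrix.toLin' (x : Matrix (Fin n) (Fin n) F)) :=
  Cfsg.Agent.Lib.Helper18.UNd.isom_of_mem_SU n x hx

theorem transport_fixed [Fintype F] (hF : Fintype.card F = q ^ 2) (n m r : ℕ) (hn : 0 < n)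
    (hL : ∀ x : Matrix.SpecialLinearGroup (Fin n) F, x ∈ Cfsg.SU n F q →
      (∃ z : F, ((x ^ r : Matrix.SpecialLinearGroup (Fin n) F) : Matrix (Fin n) (Fin n) F) =
        z • (1 : Matrix (Fin n) (Fin n) F)) →
      (∀ z : F, (x : Matrix (Fin n) (Fin n) F) ≠ z • (1 : Matrix (Fin n) (Fin n) F)) →
      ∃ W : Submodule F (Fin n → F), finrank F W = m ∧ ND (Cfsg.hermForm n F q) W ∧
        Inv (Matrix.toLin' (x : Matrix (Fin n) (Fin n) F)) W)
    {V' : Type u} [AddCommGroup V'] [Module F V'] [FiniteDimensional F V']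
    (h' : V' → V' → F) (hh' : HForm q h') (hV' : finrank F V' = n) (y' : V' →ₗ[F] V')
    (hiso' : Isom h' y') (hdet' : LinearMap.det y' = 1) (z : F) (hy' : y' ^ r = z • 1)
    (hns' : ∀ c : F, y' ≠ c • 1) :
    ∃ W' : Submodule F V', Inv y' W' ∧ ND h' W' ∧ finrank F W' = m :=
  Cfsg.Agent.Lib.Helper18.UNd.transport_fixed hF n m r hn hL h' hh' hV' y' hiso' hdet' z hy' hns'

/-! ## DET (595405): determinant of an isometry (orthonormal basis + `Helper19.det_pow_of_mem_GU`) -/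

theorem det_norm_of_isom [Fintype F] [FiniteDimensional F V] (hF : Fintype.card F = q ^ 2)
    (hh : HForm q h) (y : V →ₗ[F] V) (hiso : Isom h y) : (LinearMap.det y) ^ (q + 1) = 1 :=
  Cfsg.Agent.Lib.Helper19.UNd.det_norm_of_isom hF hh y hiso

theorem det_eq_one_of_coprime [Fintype F] [FiniteDimensional F V] (hF : Fintype.card F = q ^ 2)
    (hh : HForm q h) (y : V →ₗ[F] V) (hiso : Isom h y) (r : ℕ) (hy : y ^ r = 1)
    (hcop : Nat.Coprime r (q + 1)) : LinearMap.det y = 1 :=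
  Cfsg.Agent.Lib.Helper19.UNd.det_eq_one_of_coprime hF hh y hiso r hy hcop

/-! ## AR (595406, 595407): arithmetic -/

theorem cU_pos (i : ℕ) (hi : 1 ≤ i) : 1 ≤ cU i :=
  Cfsg.Agent.Lib.Helper77.UNd.cU_pos i hi

/-- `ord_r(-q) = cU (ord_r q)`: `(-q)^k = 1` iff `cU i ∣ k`. -/
theorem cU_dvd_iff (r : ℕ) [Fact r.Prime] (hr2 : r ≠ 2) (hrq : ¬ r ∣ q) (k : ℕ) :
    ((r : ℤ) ∣ (q : ℤ) ^ k - (-1) ^ k) ↔ cU (orderOf (q : ZMod r)) ∣ k :=
  Cfsg.Agent.Lib.Helper77.UNd.cU_dvd_iff r hr2 hrq k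

theorem orderOf_eq_two_iff (r : ℕ) [Fact r.Prime] (hr2 : r ≠ 2) :
    orderOf (q : ZMod r) = 2 ↔ r ∣ q + 1 :=
  Cfsg.Agent.Lib.Helper77.UNd.orderOf_eq_two_iff r hr2

/-- `b = ord_r(q^2)` -/
theorem orderOf_sq (r : ℕ) [Fact r.Prime] (hrq : ¬ r ∣ q) :
    orderOf ((q ^ 2 : ℕ) : ZMod r) =
      if Even (orderOf (q : ZMod r)) then orderOf (q : ZMod r) / 2 else orderOf (q : ZMod r) :=
  Cfsg.Agent.Lib.Helper77.UNd.orderOf_sq r hrq

/-- `c = b` exactly when `i ≡ 2 (mod 4)`, otherwise `c = 2 b` -/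
theorem cU_eq (r : ℕ) [Fact r.Prime] (hrq : ¬ r ∣ q) :
    (orderOf (q : ZMod r) % 4 = 2 ∧ cU (orderOf (q : ZMod r)) = orderOf ((q ^ 2 : ℕ) : ZMod r)) ∨
    (orderOf (q : ZMod r) % 4 ≠ 2 ∧
      cU (orderOf (q : ZMod r)) = 2 * orderOf ((q ^ 2 : ℕ) : ZMod r)) :=
  Cfsg.Agent.Lib.Helper77.UNd.cU_eq r hrq

/-- AR2 (595407) -/
theorem dvd_of_dvd_hAZ (hq : 2 ≤ q) (r : ℕ) [Fact r.Prime] (hrq : ¬ r ∣ q) (k : ℕ)
    (hd : r ∣ (Cfsg.Agent.Lib.Helper99.hAZ q k).1) : (r : ℤ) ∣ (q : ℤ) ^ k - (-1) ^ k :=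
  Cfsg.Agent.Lib.Helper10.UNd.dvd_of_dvd_hAZ hq r hrq k hd

theorem exists_of_dvd_GUf (r : ℕ) [Fact r.Prime] (hrq : ¬ r ∣ q) (k : ℕ)
    (hd : r ∣ Cfsg.Agent.Lib.Helper51.UPar.GUf q k) :
    ∃ j, 1 ≤ j ∧ j ≤ k ∧ (r : ℤ) ∣ (q : ℤ) ^ j - (-1) ^ j :=
  Cfsg.Agent.Lib.Helper10.UNd.exists_of_dvd_GUf r hrq k hd

theorem dvd_GUf_of (hq : 1 ≤ q) (r k : ℕ) (hk : 1 ≤ k) (hd : (r : ℤ) ∣ (q : ℤ) ^ k - (-1) ^ k) :
    r ∣ Cfsg.Agent.Lib.Helper51.UPar.GUf q k :=
  Cfsg.Agent.Lib.Helper10.UNd.dvd_GUf_of hq r k hk hd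

/-! ## ROOT (595408): roots of norm-one scalars -/

/-- `l = z ^ s` with `s * r ≡ 1 (mod q + 1)` -/
theorem exists_root_of_coprime (r : ℕ) (hcop : Nat.Coprime r (q + 1)) (z : F)
    (hz : z ^ (q + 1) = 1) : ∃ l : F, l ^ r = z ∧ l ^ (q + 1) = 1 :=
  Cfsg.Agent.Lib.Lead.UNd.exists_root_of_coprime r hcop z hz

/-- the norm-one group `C` is cyclic of order `q + 1`; `z` is a square in `C` or `z = μ^2` with `μ^(q+1) = -1`
(`z` is a square in `F` because `q - 1` is even) -/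
theorem sq_cases [Fintype F] (hF : Fintype.card F = q ^ 2) (h2 : (2 : F) ≠ 0) (z : F)
    (hz : z ^ (q + 1) = 1) :
    (∃ l : F, l ^ 2 = z ∧ l ^ (q + 1) = 1) ∨ (∃ μ : F, μ ^ 2 = z ∧ μ ^ (q + 1) = -1) :=
  Cfsg.Agent.Lib.Lead.UNd.sq_cases hF h2 z hz

/-- `r` odd, `r ∣ q + 1` (so `r ∤ q - 1`): an element of `C` is an `r`-th power in `F` iff it is one in `C`. -/
theorem root_cases [Fintype F] (hF : Fintype.card F = q ^ 2) (r : ℕ) [Fact r.Prime] (hr2 : r ≠ 2)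
    (hr : r ∣ q + 1) (z : F) (hz : z ^ (q + 1) = 1) :
    (∃ l : F, l ^ r = z ∧ l ^ (q + 1) = 1) ∨ (∀ d : F, d ^ r ≠ z) :=
  Cfsg.Agent.Lib.Lead.UNd.root_cases hF r hr2 hr z hz

/-! ## I-AR (595409): arithmetic for `r = 2`.  `ω` a generator of `Fˣ`.
`q ≡ 1 (4)`: `μ = ω^((q^2-1)/4)` is a square root of `-1` in the prime-power subfield: `μ^(q+1) = μ^2 = -1`,
`μ^n = (-1)^(n/2)`.  `q ≡ 3 (4)`: `v_2(ord μ) = v_2(q+1) + 1` whenever `μ^(q+1) = -1`. -/

theorem exists_mu [Fintype F] (hF : Fintype.card F = q ^ 2) (h2 : (2 : F) ≠ 0) (n : ℕ)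
    (hn : Even n) (hcond : q % 4 = 1 ∨ padicValNat 2 (q + 1) < padicValNat 2 n) :
    ∃ μ : F, μ ^ (q + 1) = -1 ∧ μ ^ n = (-1) ^ (n / 2) :=
  Cfsg.Agent.Lib.Helper43.UNd.exists_mu hF h2 n hn hcond

theorem no_mu [Fintype F] (hF : Fintype.card F = q ^ 2) (h2 : (2 : F) ≠ 0) (n : ℕ) (hn : Even n)
    (hn0 : 0 < n) (hq3 : q % 4 = 3) (hv : padicValNat 2 n ≤ padicValNat 2 (q + 1)) (μ : F)
    (h1 : μ ^ (q + 1) = -1) (h3 : μ ^ n = (-1) ^ (n / 2)) : False :=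
  Cfsg.Agent.Lib.Helper43.UNd.no_mu hF h2 n hn hn0 hq3 hv μ h1 h3

/-! ## X-AR (595410): arithmetic for `r ∣ q + 1`, `r` odd -/

/-- `z = ζ^s`, `ζ` a generator of `C`, `q + 1 = r^a s` -/
theorem exists_nonpower [Fintype F] (hF : Fintype.card F = q ^ 2) (r : ℕ) [Fact r.Prime]
    (hr2 : r ≠ 2) (hr : r ∣ q + 1) (n : ℕ) (hv : padicValNat r (q + 1) < padicValNat r n) :
    ∃ z : F, z ^ (q + 1) = 1 ∧ (∀ d : F, d ^ r ≠ z) ∧ z ^ (n / r) = 1 :=
  Cfsg.Agent.Lib.Helper26.UNd.exists_nonpower hF r hr2 hr n hv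

theorem power_of_val_le [Fintype F] (hF : Fintype.card F = q ^ 2) (r : ℕ) [Fact r.Prime]
    (hr : r ∣ q + 1) (n : ℕ) (hn : 0 < n) (hrn : r ∣ n)
    (hv : padicValNat r n ≤ padicValNat r (q + 1)) (z : F) (hz : z ^ (q + 1) = 1)
    (hzn : z ^ (n / r) = 1) : ∃ l : F, l ^ r = z ∧ l ^ (q + 1) = 1 :=
  Cfsg.Agent.Lib.Helper26.UNd.power_of_val_le hF r hr n hn hrn hv z hz hzn

/-! ## UNIPOTENT PART (`r = p`, all `p` including 2) -/

/-- U-A (595411): VERBATIM port of `Helper98.Nd2` (`coeff_eq_zero_of_pairing`, `linearIndependent_of_pairing`,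
`nonDeg_of_pairing`: only linearity in the FIRST variable is used, `hh.sum_left`) and of `Nd3.piece_of_chains`
(with `Helper85.Nd.finrank_inf_ker_of_chains` in place of `hchain`). -/
theorem piece_of_chains_u [Fintype F] [FiniteDimensional F V] (hF : Fintype.card F = q ^ 2)
    (hh : HForm q h) (N : V →ₗ[F] V) (U : Submodule F V) (hU : Inv N U) (a : ℕ)
    (ha : 0 < a) (hNa : ∀ x ∈ U, (N ^ a) x = 0)
    (P1 : ∀ x, ∀ y ∈ U, ∀ i j, a ≤ i + j → h ((N ^ i) x) ((N ^ j) y) = 0)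
    (P2 : ∀ x, ∀ y ∈ U, ∀ i j, i + j + 1 = a →
      h ((N ^ i) x) ((N ^ j) y) = (-1) ^ i * h x ((N ^ (a - 1)) y))
    (e : ℕ) (v : Fin e → V) (hv : ∀ j, v j ∈ U)
    (h3 : ∀ γ : Fin e → F, (∀ l, ∑ j, γ j * h (v j) ((N ^ (a - 1)) (v l)) = 0) → γ = 0) :
    ∃ P : Submodule F V, P ≤ U ∧ Inv N P ∧ ND h P ∧ finrank F P = e * a ∧
      ∀ k, finrank F ↥(P ⊓ LinearMap.ker (N ^ k)) = e * min a k :=
  Cfsg.Agent.Lib.Helper79.UNd.piece_of_chains_u hF hh N U hU a ha hNa P1 P2 e v hv h3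

/-- U-B (595412): port of `Nd3.exists_piece`, SIMPLER: always `e = 1`.  `N = u - 1`, `a` = nilpotency index of `N`
on `U`; `h (N x) y = - h x (N (u⁻¹ y))` gives P1, P2 as in Nd3.  The form `g x y = h x (N^(a-1) y)` on `U` is
nonzero and `g y x = (-1)^(a-1) (g x y)^q`; if `g v v = 0` for all `v ∈ U` then `g x y + g y x = 0`, and replacing
`x` by `λ x` with `λ^q ≠ λ` forces `g = 0`.  So some `v ∈ U` has `h v (N^(a-1) v) ≠ 0`: apply `piece_of_chains_u`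
with `e = 1`. -/
theorem exists_piece_u [Fintype F] [FiniteDimensional F V] (hF : Fintype.card F = q ^ 2)
    (hh : HForm q h) (p : ℕ) (hp : 0 < p) (u : V →ₗ[F] V) (hu : u ^ p = 1)
    (hNp : (u - 1) ^ p = 0) (hiso : Isom h u)
    (U : Submodule F V) (hU : Inv u U) (hUnd : ND h U) (hne : U ≠ ⊥) :
    ∃ (P : Submodule F V) (a : ℕ), P ≤ U ∧ Inv u P ∧ ND h P ∧ 0 < a ∧ a ≤ p ∧
      finrank F P = a ∧ ∀ k, finrank F ↥(P ⊓ LinearMap.ker ((u - 1) ^ k)) = min a k :=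
  Cfsg.Agent.Lib.Helper79.UNd.exists_piece_u hF hh p hp u hu hNp hiso U hU hUnd hne

/-- U-C (595413): port of `Nd4.exists_type` (no parity conditions): strong induction, split off `exists_piece_u`,
complement by `compl_props` + `inv_perp`, kernels add by `Helper98.Nd.finrank_sup_inf_ker`. -/
theorem exists_type_u [Fintype F] [FiniteDimensional F V] (hF : Fintype.card F = q ^ 2)
    (hh : HForm q h) (p : ℕ) (hp : 0 < p) (u : V →ₗ[F] V) (hu : u ^ p = 1)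
    (hNp : (u - 1) ^ p = 0) (hiso : Isom h u) :
    ∀ n : ℕ, ∀ U : Submodule F V, Inv u U → ND h U → finrank F U = n →
      ∃ μ : Multiset ℕ, (∀ a ∈ μ, 0 < a ∧ a ≤ p) ∧ μ.sum = n ∧
        (∀ k, finrank F ↥(U ⊓ LinearMap.ker ((u - 1) ^ k)) = (μ.map (fun a => min a k)).sum) ∧
        ∀ ν : Multiset ℕ, ν ≤ μ →
          ∃ W : Submodule F V, W ≤ U ∧ Inv u W ∧ ND h W ∧ finrank F W = ν.sum :=
  Cfsg.Agent.Lib.Helper03.UNd.exists_type_u hF hh p hp u hu hNp hiso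

/-- U-D (595414): port of `Nd6.exists_fixed_unip` and `Nd6.exists_sub_type` (uses U-C for `⊤`, for `W` and for
`W^⊥`, and `Helper02.Nd.eq_of_sum_min_eq`). -/
theorem exists_fixed_unip_u [Fintype F] [FiniteDimensional F V] (hF : Fintype.card F = q ^ 2)
    (hh : HForm q h) (p : ℕ) (hp : 0 < p) (u : V →ₗ[F] V) (hu : u ^ p = 1)
    (hNp : (u - 1) ^ p = 0) (hiso : Isom h u) (n m : ℕ) (hn : finrank F V = n)
    (hpart : ∀ μ : Multiset ℕ, (∀ a ∈ μ, 0 < a ∧ a ≤ p) → μ.sum = n →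
      ∃ ν : Multiset ℕ, ν ≤ μ ∧ ν.sum = m) : Fixes h u m :=
  Cfsg.Agent.Lib.Helper52.UNd.exists_fixed_unip_u hF hh p hp u hu hNp hiso n m hn hpart

theorem exists_sub_type_u [Fintype F] [FiniteDimensional F V] (hF : Fintype.card F = q ^ 2)
    (hh : HForm q h) (p : ℕ) (hp : 0 < p) (u : V →ₗ[F] V) (hu : u ^ p = 1)
    (hNp : (u - 1) ^ p = 0) (hiso : Isom h u) (μ : Multiset ℕ) (hμ : ∀ a ∈ μ, 0 < a)
    (hker : ∀ k, finrank F (LinearMap.ker ((u - 1) ^ k)) = (μ.map (fun a => min a k)).sum)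
    (W : Submodule F V) (hW : Inv u W) (hWnd : ND h W) :
    ∃ ν : Multiset ℕ, ν ≤ μ ∧ ν.sum = finrank F W :=
  Cfsg.Agent.Lib.Helper52.UNd.exists_sub_type_u hF hh p hp u hu hNp hiso μ hμ hker W hW hWnd

/-- U-E (595415): nilpotent skew-hermitian Jordan block.  `M e_j = e_(j+1)`, `M e_(a-1) = 0`,
`β x y = θ * ∑ i, (-1)^i * x i * (y (Fin.rev i))^q` with `θ = 1` for odd `a` and `θ = t - t^q ≠ 0` (`θ^q = -θ`)
for even `a`.  Kernel dimensions as in `Helper75.NdD` / leaf C of S5956 (`exists_block_model`, same `M`). -/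
theorem exists_nilp_block [Fintype F] (hF : Fintype.card F = q ^ 2) (a : ℕ) (ha : 0 < a) :
    ∃ (β : (Fin a → F) → (Fin a → F) → F) (M : (Fin a → F) →ₗ[F] (Fin a → F)),
      HForm q β ∧ (∀ x y, β (M x) y = - β x (M y)) ∧ M ^ a = 0 ∧
      ∀ k : ℕ, finrank F (LinearMap.ker (M ^ k)) = min a k :=
  Cfsg.Agent.Lib.Helper90.UNd.exists_nilp_block hF a ha

/-- U-F (595416): Cayley transform, port of `Helper80.Nd.exists_cayley` (`Lib/Helper80/NdE.lean`);
`h (M^k x) y = h x ((-M)^k y)`. -/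
theorem exists_cayley_u [Fintype F] (hF : Fintype.card F = q ^ 2) {p : ℕ} [Fact p.Prime] [CharP F p]
    (hp2 : p ≠ 2) (hh : HForm q h) (M : V →ₗ[F] V) (hskew : ∀ x y, h (M x) y = - h x (M y))
    (hM : M ^ p = 0) :
    ∃ u : V →ₗ[F] V, Isom h u ∧ u ^ p = 1 ∧
      ∀ k : ℕ, LinearMap.ker ((u - 1) ^ k) = LinearMap.ker (M ^ k) :=
  Cfsg.Agent.Lib.Helper14.UNd.exists_cayley_u hF hp2 hh M hskew hM

/-- U-G (595417): unipotent isometric Jordan block of size `a ≤ p`.  `p` odd: U-E + U-F.  `p = 2`: `a = 1`: `u = 1`,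
`β x y = x 0 * (y 0)^q`; `a = 2`: `β x y = x 0 * (y 1)^q + x 1 * (y 0)^q`, `u x = ![x 0, x 1 + x 0]`. -/
theorem exists_unip_block [Fintype F] (hF : Fintype.card F = q ^ 2) {p : ℕ} [Fact p.Prime]
    [CharP F p] (a : ℕ) (ha : 0 < a) (hap : a ≤ p) :
    ∃ (β : (Fin a → F) → (Fin a → F) → F) (u : (Fin a → F) →ₗ[F] (Fin a → F)),
      HForm q β ∧ Isom β u ∧ u ^ p = 1 ∧
      ∀ k : ℕ, finrank F (LinearMap.ker ((u - 1) ^ k)) = min a k :=
  Cfsg.Agent.Lib.Helper62.UNd.exists_unip_block hF a ha hap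

/-- U-H (595418): assembly (cf. `Helper75.Nd.exists_skew_model`): induction on `μ`; `V' = (Fin a → F) × V''` with
the sum form and `LinearMap.prodMap`; `μ = 0`: `PUnit`. -/
theorem exists_unip_model [Fintype F] (hF : Fintype.card F = q ^ 2) {p : ℕ} [Fact p.Prime]
    [CharP F p] (μ : Multiset ℕ) (hμ : ∀ a ∈ μ, 0 < a ∧ a ≤ p) :
    ∃ (V' : Type u) (_ : AddCommGroup V') (_ : Module F V') (_ : FiniteDimensional F V')
      (h' : V' → V' → F) (u' : V' →ₗ[F] V'),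
      HForm q h' ∧ Isom h' u' ∧ u' ^ p = 1 ∧
      ∀ k : ℕ, finrank F (LinearMap.ker ((u' - 1) ^ k)) = (μ.map (fun a => min a k)).sum :=
  Cfsg.Agent.Lib.Helper21.UNd.exists_unip_model_of hF
    (fun a ha hap => exists_unip_block hF a ha hap) μ hμ

/-! ## INVOLUTIONS (`r = 2 ≠ p`) -/

/-- I-A (595419): `V = V0 g ⊥ V1 2 g` (`ort_V0_V1`, `nd_inf_parts` with `r = 2`, `W = ⊤`), every subspace of `V0 g`
and of `V1 2 g = ker (1 + g)` is invariant; `exists_nd_sub` in both, `nd_sup`, `finrank_sup_of_ort`. -/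
theorem exists_fixed_invol_pos [Fintype F] [FiniteDimensional F V] (hF : Fintype.card F = q ^ 2)
    (hh : HForm q h) (h2 : (2 : F) ≠ 0) (g : V →ₗ[F] V) (hg : g ^ 2 = 1) (hiso : Isom h g)
    (m : ℕ) (hm : m ≤ finrank F V) : Fixes h g m :=
  Cfsg.Agent.Lib.Helper93.UNd.exists_fixed_invol_pos hF hh h2 g hg hiso m hm

/-- I-B (595420): anti-isometric involution: `V0 g` and `V1 2 g` are totally isotropic (`h u v = - h u v`), so for an
invariant nondegenerate `W = (W ⊓ V0 g) ⊕ (W ⊓ V1 2 g)` both parts have dimension `≤ dim W / 2`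
(`finrank_perp_inf`), hence `= dim W / 2`. -/
theorem anti_invol_even [Fintype F] [FiniteDimensional F V] (hF : Fintype.card F = q ^ 2)
    (hh : HForm q h) (h2 : (2 : F) ≠ 0) (g : V →ₗ[F] V) (hg : g ^ 2 = 1)
    (hanti : ∀ u v, h (g u) (g v) = - h u v) (W : Submodule F V) (hW : Inv g W)
    (hWnd : ND h W) : 2 * finrank F ↥(W ⊓ V1 2 g) = finrank F W :=
  Cfsg.Agent.Lib.Helper19.UNd.anti_invol_even hF hh h2 g hg hanti W hW hWnd

/-- I-C (595421): in an invariant nondegenerate `U ≠ ⊥` pick `0 ≠ v ∈ U ⊓ V0 g`, `w ∈ U` with `h v w ≠ 0`; the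
`V1`-part `w' = (w - g w)/2` has `h v w' = h v w ≠ 0`; `span {v, w'}` is an invariant nondegenerate plane. Induct with
`compl_props`, `inv_perp`. -/
theorem exists_fixed_anti [Fintype F] [FiniteDimensional F V] (hF : Fintype.card F = q ^ 2)
    (hh : HForm q h) (h2 : (2 : F) ≠ 0) (g : V →ₗ[F] V) (hg : g ^ 2 = 1)
    (hanti : ∀ u v, h (g u) (g v) = - h u v) (m : ℕ) (hme : Even m) (hm : m ≤ finrank F V) :
    Fixes h g m :=
  Cfsg.Agent.Lib.Helper80.UNd.exists_fixed_anti hF hh h2 g hg hanti m hme hm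

/-- I-D (595422): pure linear algebra: `V = V0 g ⊕ V1 2 g`, `g = 1 ⊕ -1`. -/
theorem det_invol [FiniteDimensional F V] (h2 : (2 : F) ≠ 0) (g : V →ₗ[F] V) (hg : g ^ 2 = 1) :
    LinearMap.det g = (-1) ^ finrank F (V1 2 g) :=
  Cfsg.Agent.Lib.Helper19.UNd.det_invol h2 g hg

/-- I-E (595423): `V' = (Fin k → F) × (Fin k → F)`, `h' (a,b) (a',b') = s a b' + s b a'` (`s = hermForm k F q`),
`g' (a,b) = (a,-b)`. -/
theorem exists_anti_model [Fintype F] (hF : Fintype.card F = q ^ 2) (h2 : (2 : F) ≠ 0) (k : ℕ)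
    (hk : 1 ≤ k) :
    ∃ (V' : Type u) (_ : AddCommGroup V') (_ : Module F V') (_ : FiniteDimensional F V')
      (h' : V' → V' → F) (g' : V' →ₗ[F] V'),
      HForm q h' ∧ finrank F V' = 2 * k ∧ g' ^ 2 = 1 ∧ (∀ u v, h' (g' u) (g' v) = - h' u v) ∧
      ∀ c : F, g' ≠ c • 1 :=
  Cfsg.Agent.Lib.Helper19.UNd.exists_anti_model hF h2 k hk

omit [Field F] in
/-- `r ≠ p` does not divide `q` -/
theorem not_dvd_q [Fintype F] (hF : Fintype.card F = q ^ 2) (p f : ℕ) [Fact p.Prime]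
    (hFp : Fintype.card F = p ^ f) (r : ℕ) [Fact r.Prime] (hpr : p ≠ r) : ¬ r ∣ q := by
  have hr : r.Prime := Fact.out
  have hp : p.Prime := Fact.out
  intro hd
  have h2 : r ∣ p ^ f := by
    rw [← hFp, hF]
    exact dvd_pow hd two_ne_zero
  have := hr.dvd_of_dvd_pow h2
  rw [Nat.prime_dvd_prime_iff_eq hr hp] at this
  exact hpr this.symm


/-! ## SEMISIMPLE PART (`r` odd, `r ≠ p`); `i = orderOf (q : ZMod r)`, `c = cU i` -/

/-- S-A (595424): Lagrange.  `y` restricted to `W` in an orthonormal basis of `W` (`exists_onb_sub`) is an element of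
order `r` of `Cfsg.GU k F q`, `k = dim W` (it is `≠ 1` since `W ⊓ V0 y = ⊥`), so `r ∣ GUf q k`
(`Helper49.UPair.card_GU_eq`), then `exists_of_dvd_GUf`, `cU_dvd_iff`. -/
theorem cU_le_finrank_of_nd [Fintype F] [FiniteDimensional F V] (hF : Fintype.card F = q ^ 2)
    (hh : HForm q h) (r : ℕ) [Fact r.Prime] (hr2 : r ≠ 2) (hrF : (r : F) ≠ 0) (y : V →ₗ[F] V)
    (hy : y ^ r = 1) (hiso : Isom h y) (W : Submodule F V) (hW : Inv y W) (hWnd : ND h W)
    (hWV1 : W ≤ V1 r y) (hne : W ≠ ⊥) : cU (orderOf (q : ZMod r)) ≤ finrank F W :=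
  Cfsg.Agent.Lib.Helper10.UNd.cU_le_finrank_of_nd hF hh r hr2 hrF y hy hiso W hW hWnd hWV1 hne

/-- S-B (595425): port of `Helper98.Sy.exists_min_nonDeg` (Sy3).  `b = orderOf (card F : ZMod r) = ord_r(q^2)`.
Minimal invariant `M ≤ U` of dimension `b` (greedy), irreducible.  (1) `M` nondegenerate: `c ≤ b` by S-A and
`c ∈ {b, 2b}` (`cU_eq`), so `dim M = c`.  (2) `M` totally isotropic: `H = M ⊕ M'` nondegenerate of dimension `2b`
exactly as in Sy3; if `c = 2b` done.  If `i ≡ 2 (mod 4)`: `b` odd, `r ∣ q^b + 1`, `y^(q^b) = y⁻¹`, and for `g : F[X]`: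
`g(y)^(q^k) = (g.map σ^k)(y^(q^k))`, `h (g(y) u) v = h u ((g.map σ)(y⁻¹) v)`, so the irreducible factor `P` killing `M`
kills `M'` and `H`; pick `v ∈ H` with `h v v ≠ 0` (`exists_nonisotropic`): `span {y^k v | k < b}` is invariant of
dimension `b`, irreducible and not totally isotropic, hence nondegenerate. -/
theorem exists_min_nd_u [Fintype F] [FiniteDimensional F V] (hF : Fintype.card F = q ^ 2)
    (hh : HForm q h) (p f : ℕ) [Fact p.Prime] (hFp : Fintype.card F = p ^ f) (r : ℕ)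
    [Fact r.Prime] (hpr : p ≠ r) (hr2 : r ≠ 2) (hrF : (r : F) ≠ 0) (y : V →ₗ[F] V)
    (hy : y ^ r = 1) (hiso : Isom h y) (U : Submodule F V) (hUV1 : U ≤ V1 r y) (hU : Inv y U)
    (hUnd : ND h U) (hUne : U ≠ ⊥) :
    ∃ W : Submodule F V, W ≤ U ∧ Inv y W ∧ ND h W ∧ finrank F W = cU (orderOf (q : ZMod r)) :=
  Cfsg.Agent.Lib.Helper98.UNd.exists_min_nd_u_of hF hh p f hFp r hpr hr2 hrF y hy hiso U hUV1 hU hUnd hUne
    (fun W hW hWnd hWV1 hne => cU_le_finrank_of_nd hF hh r hr2 hrF y hy hiso W hW hWnd hWV1 hne)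
    (cU_eq r (not_dvd_q hF p f hFp r hpr))
    (fun W hW hne => exists_nonisotropic hF hh W hW hne)

/-- S-C (595426): port of `Sy4.exists_nonDeg_inv`; peel off S-B pieces, complements by `compl_props`, `inv_perp`. -/
theorem cU_dvd_finrank_u [Fintype F] [FiniteDimensional F V] (hF : Fintype.card F = q ^ 2)
    (hh : HForm q h) (p f : ℕ) [Fact p.Prime] (hFp : Fintype.card F = p ^ f) (r : ℕ)
    [Fact r.Prime] (hpr : p ≠ r) (hr2 : r ≠ 2) (hrF : (r : F) ≠ 0) (y : V →ₗ[F] V)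
    (hy : y ^ r = 1) (hiso : Isom h y) (U : Submodule F V) (hUV1 : U ≤ V1 r y) (hU : Inv y U)
    (hUnd : ND h U) : cU (orderOf (q : ZMod r)) ∣ finrank F U :=
  Cfsg.Agent.Lib.Helper08.UNd.cU_dvd_finrank_of hF hh r (Fact.out : r.Prime).pos y hy hiso
    (cU (orderOf (q : ZMod r))) (Cfsg.Agent.Lib.Helper08.UNd.cU_orderOf_pos hF p f hFp r hpr)
    (fun U hUV1 hU hUnd hne => exists_min_nd_u hF hh p f hFp r hpr hr2 hrF y hy hiso U hUV1 hU hUnd hne)
    _ U hUV1 hU hUnd rfl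

theorem exists_nd_inv_u [Fintype F] [FiniteDimensional F V] (hF : Fintype.card F = q ^ 2)
    (hh : HForm q h) (p f : ℕ) [Fact p.Prime] (hFp : Fintype.card F = p ^ f) (r : ℕ)
    [Fact r.Prime] (hpr : p ≠ r) (hr2 : r ≠ 2) (hrF : (r : F) ≠ 0) (y : V →ₗ[F] V)
    (hy : y ^ r = 1) (hiso : Isom h y) (U : Submodule F V) (hUV1 : U ≤ V1 r y) (hU : Inv y U)
    (hUnd : ND h U) :
    ∀ b' : ℕ, cU (orderOf (q : ZMod r)) * b' ≤ finrank F U →
      ∃ W : Submodule F V, W ≤ U ∧ Inv y W ∧ ND h W ∧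
        finrank F W = cU (orderOf (q : ZMod r)) * b' :=
  Cfsg.Agent.Lib.Helper08.UNd.exists_nd_inv_of hF hh r (Fact.out : r.Prime).pos y hy hiso
    (cU (orderOf (q : ZMod r))) (Cfsg.Agent.Lib.Helper08.UNd.cU_orderOf_pos hF p f hFp r hpr)
    (fun U hUV1 hU hUnd hne => exists_min_nd_u hF hh p f hFp r hpr hr2 hrF y hy hiso U hUV1 hU hUnd hne)
    U hUV1 hU hUnd

/-- S-D (595427): port of `Nd5.exists_fixed_nd` and `Nd5.mod_le_of_inv_nonDeg`. -/
theorem exists_fixed_nd_u [Fintype F] [FiniteDimensional F V] (hF : Fintype.card F = q ^ 2)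
    (hh : HForm q h) (p f : ℕ) [Fact p.Prime] (hFp : Fintype.card F = p ^ f) (r : ℕ)
    [Fact r.Prime] (hpr : p ≠ r) (hr2 : r ≠ 2) (hrF : (r : F) ≠ 0) (y : V →ₗ[F] V)
    (hy : y ^ r = 1) (hiso : Isom h y) (n m : ℕ) (hn : finrank F V = n) (hmn : m ≤ n)
    (hk : m % cU (orderOf (q : ZMod r)) ≤ n % cU (orderOf (q : ZMod r))) : Fixes h y m :=
  Cfsg.Agent.Lib.Helper08.UNd.exists_fixed_nd_of hF hh r (Fact.out : r.Prime).pos y hy hiso
    (cU (orderOf (q : ZMod r))) (Cfsg.Agent.Lib.Helper08.UNd.cU_orderOf_pos hF p f hFp r hpr)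
    (fun U hUV1 hU hUnd hne => exists_min_nd_u hF hh p f hFp r hpr hr2 hrF y hy hiso U hUV1 hU hUnd hne)
    hrF (fun W hW s hs => exists_nd_sub hF hh W hW s hs) n m hn hmn hk

theorem mod_le_of_inv_nd_u [Fintype F] [FiniteDimensional F V] (hF : Fintype.card F = q ^ 2)
    (hh : HForm q h) (p f : ℕ) [Fact p.Prime] (hFp : Fintype.card F = p ^ f) (r : ℕ)
    [Fact r.Prime] (hpr : p ≠ r) (hr2 : r ≠ 2) (hrF : (r : F) ≠ 0) (y : V →ₗ[F] V)
    (hy : y ^ r = 1) (hiso : Isom h y) (W : Submodule F V) (hW : Inv y W) (hWnd : ND h W)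
    (hV0 : finrank F (V0 y) < cU (orderOf (q : ZMod r))) :
    finrank F W % cU (orderOf (q : ZMod r)) ≤ finrank F (V0 y) :=
  Cfsg.Agent.Lib.Helper08.UNd.mod_le_of_inv_nd_of hF hh r (Fact.out : r.Prime).pos y hy hiso
    (cU (orderOf (q : ZMod r))) (Cfsg.Agent.Lib.Helper08.UNd.cU_orderOf_pos hF p f hFp r hpr)
    (fun U hUV1 hU hUnd hne => exists_min_nd_u hF hh p f hFp r hpr hr2 hrF y hy hiso U hUV1 hU hUnd hne)
    hrF W hW hWnd hV0

/-- S-E (595428): cf. `Sy6.exists_block`.  `r ∣ q^c - (-1)^c` (`cU_dvd_iff`), so `r ∣ card (GU c F q)`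
(`dvd_GUf_of`, `card_GU_eq`); Cauchy gives `g ∈ GU c F q` of order `r`; `V1 r g` is nondegenerate invariant nonzero,
`c ∣ dim V1` (S-C) and `dim V1 ≤ c`, so `V1 = ⊤`. -/
theorem exists_block_u [Fintype F] (hF : Fintype.card F = q ^ 2) (p f : ℕ) [Fact p.Prime]
    (hFp : Fintype.card F = p ^ f) (r : ℕ) [Fact r.Prime] (hpr : p ≠ r) (hr2 : r ≠ 2)
    (hrF : (r : F) ≠ 0) (c : ℕ) (hc : c = cU (orderOf (q : ZMod r))) :
    ∃ y0 : (Fin c → F) →ₗ[F] (Fin c → F), Isom (Cfsg.hermForm c F q) y0 ∧ y0 ^ r = 1 ∧ y0 ≠ 1 ∧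
      ∀ w, gsum r y0 w = 0 :=
  Cfsg.Agent.Lib.Helper65.UNd.exists_block_u_of hF p f hFp r hpr hr2 hrF c hc
    (fun y hy hiso U hUV1 hU hUnd =>
      cU_dvd_finrank_u hF (stdH_hform hF c) p f hFp r hpr hr2 hrF y hy hiso U hUV1 hU hUnd)

/-- S-F (595429): port of the model `VS/BS/yS` of Sy6: `V' = (Fin j → (Fin c → F)) × (Fin e → F)`, form = sum of the
standard forms, `y' = y0` on every block and `1` on the last factor.  Not scalar: `y' = z • 1` gives `y0 = z • 1`,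
`z^(q+1) = 1` (`scalar_norm`), `z^r = 1`, so `z = 1`. `V0 y' = 0 × (Fin e → F)`. -/
theorem exists_ss_model [Fintype F] (hF : Fintype.card F = q ^ 2) (r : ℕ) [Fact r.Prime]
    (hrF : (r : F) ≠ 0) (hcop : Nat.Coprime r (q + 1)) (c j e : ℕ) (hc : 1 ≤ c) (hj : 1 ≤ j)
    (y0 : (Fin c → F) →ₗ[F] (Fin c → F)) (h0 : Isom (Cfsg.hermForm c F q) y0) (hy0 : y0 ^ r = 1)
    (hne : y0 ≠ 1) (hG0 : ∀ w, gsum r y0 w = 0) :
    ∃ (V' : Type u) (_ : AddCommGroup V') (_ : Module F V') (_ : FiniteDimensional F V')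
      (h' : V' → V' → F) (y' : V' →ₗ[F] V'),
      HForm q h' ∧ finrank F V' = j * c + e ∧ Isom h' y' ∧ y' ^ r = 1 ∧ (∀ z : F, y' ≠ z • 1) ∧
      finrank F (V0 y') = e :=
  Cfsg.Agent.Lib.Helper57.UNd.exists_ss_model hF r hrF hcop c j e hc hj y0 h0 hy0 hne hG0

/-! ## TYPE II (`r ∣ q + 1`, `x^r = z`, `z` not an `r`-th power) -/

/-- X-A (595430): every invariant subspace has dimension divisible by `r` (`Helper98.Elus.dvd_finrank_of_not_pow`).
In an invariant nondegenerate `U ≠ ⊥` take `v` with `h v v ≠ 0`; `Z = span {y^k v | k < r}` is invariant of dimension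
`r`; `Z ⊓ Z^⊥` is invariant (`inv_perp`) of dimension `< r` (`v ∉ Z^⊥`), hence `⊥`: `Z` nondegenerate. Induct. -/
theorem exists_fixed_typeII [Fintype F] [FiniteDimensional F V] (hF : Fintype.card F = q ^ 2)
    (hh : HForm q h) (r : ℕ) [Fact r.Prime] (z : F) (hz : ∀ d : F, d ^ r ≠ z) (y : V →ₗ[F] V)
    (hy : y ^ r = z • 1) (hiso : Isom h y) (m : ℕ) (hm : m ≤ finrank F V) (hrm : r ∣ m) :
    Fixes h y m :=
  Cfsg.Agent.Lib.Helper82.UNd.exists_fixed_typeII hF hh r z hz y hy hiso m hm hrm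

/-- X-B (595431): `V' = Fin k → Fin r → F`, `h' = ∑` standard forms, `y'` on each block: `e_j ↦ e_(j+1)` (`j + 1 < r`),
`e_(r-1) ↦ z • e_0` (a permutation matrix times `diag(z,1,..,1)`). -/
theorem exists_typeII_model [Fintype F] (hF : Fintype.card F = q ^ 2) (r : ℕ) [Fact r.Prime]
    (z : F) (hz1 : z ^ (q + 1) = 1) (k : ℕ) :
    ∃ (V' : Type u) (_ : AddCommGroup V') (_ : Module F V') (_ : FiniteDimensional F V')
      (h' : V' → V' → F) (y' : V' →ₗ[F] V'),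
      HForm q h' ∧ finrank F V' = k * r ∧ Isom h' y' ∧ y' ^ r = z • 1 :=
  Cfsg.Agent.Lib.Helper59.UNd.exists_typeII_model hF r z hz1 k

/-! ## COUNT -/

/-- E-A (595432): orthonormal basis of `U` (`exists_onb_sub`) identifies `(U, h)` with `(Fin k → F, hermForm)`
(`form_eq_hermForm`); `Helper99.hcnt_eq` at `t = 1`. -/
theorem card_norm_one_u [Fintype F] [FiniteDimensional F V] (hF : Fintype.card F = q ^ 2)
    (hh : HForm q h) (U : Submodule F V) (hU : ND h U) (k : ℕ) (hk : finrank F U = k) :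
    Nat.card {v : V // v ∈ U ∧ h v v = 1} = (Cfsg.Agent.Lib.Helper99.hAZ q k).1 :=
  Cfsg.Agent.Lib.Helper80.UNd.card_norm_one_u hF hh U hU k hk

/-- E-B (595433): port of `Helper72.Nd.exists_of_dvd_card_nd` (`Lib/Helper72/NdA.lean`) with ORTHONORMAL `s`-frames
`(e_a)_{a<s}` in place of hyperbolic frames: they number `∏_{j<s} A(n-j)`, `A(k) = (hAZ q k).1` (fibre over a
`j`-frame = unit vectors of `(span)^⊥`, nondegenerate of dimension `n-j`, E-A); every orthonormal `s`-frame spans a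
nondegenerate `s`-space and the fibre over `W` is the set of orthonormal `s`-frames of `W` (`∏_{j<s} A(s-j)` of them,
nonempty by `exists_onb_sub`). -/
theorem exists_of_dvd_card_nd_u [Fintype F] [FiniteDimensional F V] (hF : Fintype.card F = q ^ 2)
    (hh : HForm q h) (n s : ℕ) (hn : finrank F V = n) (hs : s ≤ n) (r : ℕ) [Fact r.Prime]
    (hr : r ∣ Nat.card {W : Submodule F V // finrank F W = s ∧ ND h W}) :
    ∃ j, j < s ∧ r ∣ (Cfsg.Agent.Lib.Helper99.hAZ q (n - j)).1 :=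
  Cfsg.Agent.Lib.Helper87.UNd.exists_of_dvd_card_nd_u hF hh n s hn hs r hr

end Cfsg.Agent.Lib.Helper73.UNdSpec
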